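import Groth.Prelude.Def_MoreMor
import Groth.Prelude.Def_CurvBase
import Mathlib.AlgebraicGeometry.Morphisms.Finite
import Mathlib.AlgebraicGeometry.Morphisms.QuasiFinite
import Mathlib.AlgebraicGeometry.Morphisms.UniversallyInjective
import Mathlib.AlgebraicGeometry.AlgClosed.Basic
import Mathlib.FieldTheory.SeparableClosure
import Mathlib.FieldTheory.PurelyInseparable.Basic
import Mathlib.Algebra.BigOperators.Finprod

/-!
Geometric points of finite schemes over a field.
-/

set_option autoImplicit false
universe u
open CategoryTheory CategoryTheory.Limits AlgebraicGeometry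
attribute [local instance] Curv2.resAlgebra

noncomputable section

namespace Groth.Agent.Stein58

theorem discreteTopology_of_isFinite {K : Type u} [Field K] {W : Scheme.{u}} (g : W ⟶ Spec (CommRingCat.of K))
    [IsFinite g] : DiscreteTopology W := by
  let p : Spec (CommRingCat.of K) := IsLocalRing.closedPoint K
  have h := g.isDiscrete_preimage_singleton p
  rw [show g ⁻¹' {p} = Set.univ from Set.eq_univ_of_forall fun w => Subsingleton.elim (α := PrimeSpectrum K) _ _] at h
  exact isDiscrete_univ_iff.1 h

/-- The scheme points of a finite scheme over an algebraically closed field are its rational points. -/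
def sectionsEquiv {K : Type u} [Field K] [IsAlgClosed K] {W : Scheme.{u}} (g : W ⟶ Spec (CommRingCat.of K))
    [IsFinite g] : {p : Spec (CommRingCat.of K) ⟶ W // p ≫ g = 𝟙 _} ≃ W :=
  haveI := discreteTopology_of_isFinite g
  (pointEquivClosedPoint g).trans (Equiv.subtypeUnivEquiv fun x => isClosed_discrete ({x} : Set W))

/-- Sections of a base change. -/
def sectionsOfIsPullback {W X Y Z : Scheme.{u}} {a : W ⟶ X} {g : W ⟶ Y} {f : X ⟶ Z} {q : Y ⟶ Z}
    (h : IsPullback a g f q) : {p : Y ⟶ W // p ≫ g = 𝟙 _} ≃ {p : Y ⟶ X // p ≫ f = q} where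
  toFun p := ⟨p.1 ≫ a, by rw [Category.assoc, h.w, reassoc_of% p.2]⟩
  invFun p := ⟨h.lift p.1 (𝟙 _) (by rw [p.2, Category.id_comp]), h.lift_snd _ _ _⟩
  left_inv p := Subtype.ext (h.hom_ext (h.lift_fst _ _ _) ((h.lift_snd _ _ _).trans p.2.symm))
  right_inv p := Subtype.ext (h.lift_fst _ _ _)

theorem bijective_of_purelyInseparable {F E : Type u} [Field F] [Field E] [Algebra F E] [IsPurelyInseparable F E]
    {W' W : Scheme.{u}} {a : W' ⟶ W} {g' : W' ⟶ Spec (CommRingCat.of E)} {g : W ⟶ Spec (CommRingCat.of F)}
    (h : IsPullback a g' g (Spec.map (CommRingCat.ofHom (algebraMap F E)))) : Function.Bijective a := by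
  have hs : Surjective (Spec.map (CommRingCat.ofHom (algebraMap F E))) :=
    ⟨Function.surjective_to_subsingleton (α := Spec (CommRingCat.of E)) (β := PrimeSpectrum F) _⟩
  have hi : UniversallyInjective (Spec.map (CommRingCat.ofHom (algebraMap F E))) := by
    refine ((tfae_universallyInjective _).out 0 1).2 ?_
    intro K _ g₁ g₂ hg
    obtain ⟨c₁, rfl⟩ := Spec.map_surjective g₁
    obtain ⟨c₂, rfl⟩ := Spec.map_surjective g₂
    simp only [← Spec.map_comp] at hg
    exact congrArg Spec.map (CommRingCat.hom_ext
      (IsPurelyInseparable.injective_comp_algebraMap F E K (congrArg CommRingCat.Hom.hom (Spec.map_injective hg))))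
  have : UniversallyInjective a := MorphismProperty.of_isPullback h.flip hi
  have : Surjective a := MorphismProperty.of_isPullback h.flip hs
  exact ⟨a.injective, a.surjective⟩

variable (k : Type u) [Field k] (S : Scheme.{u}) [S.Over (Spec (CommRingCat.of k))]

theorem SpecMap_resMap (x : S) : Spec.map (CommRingCat.ofHom (Curv2.resMap k S x)) =
    S.fromSpecResidueField x ≫ (S ↘ Spec (CommRingCat.of k)) := by
  have : CommRingCat.ofHom (Curv2.resMap k S x) = (Scheme.ΓSpecIso (CommRingCat.of k)).inv ≫
      (S ↘ Spec (CommRingCat.of k)).appTop ≫ S.presheaf.germ ⊤ x trivial ≫ S.residue x := rfl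
  rw [this, Scheme.fromSpecResidueField, Category.assoc]
  simp only [Spec.map_comp, Category.assoc]
  congr 1
  rw [← Scheme.fromSpecStalk_toSpecΓ_assoc, ← Scheme.toSpecΓ_naturality_assoc]
  congr 1
  rw [← SpecMap_ΓSpecIso_hom, ← Spec.map_comp, Iso.inv_hom_id, Spec.map_id, Category.comp_id]

variable {E : Type u} [Field E] [Algebra k E]

/-- Points with values in an extension through embeddings of residue fields. -/
def pointsEquiv : {p : Spec (CommRingCat.of E) ⟶ S //
      p ≫ (S ↘ Spec (CommRingCat.of k)) = Spec.map (CommRingCat.ofHom (algebraMap k E))} ≃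
    Σ x : S, (S.residueField x →ₐ[k] E) :=
  ((S.SpecToEquivOfField E).subtypeEquiv (q := fun z => CommRingCat.ofHom (Curv2.resMap k S z.1) ≫ z.2 =
      CommRingCat.ofHom (algebraMap k E)) fun p => by
    conv_lhs => rw [← (S.SpecToEquivOfField E).symm_apply_apply p]
    show (Spec.map _ ≫ S.fromSpecResidueField _) ≫ _ = _ ↔ _
    rw [Category.assoc, ← SpecMap_resMap, ← Spec.map_comp]
    exact Spec.map_injective.eq_iff).trans
  { toFun := fun z => ⟨z.1.1, ⟨z.1.2.hom, fun c => DFunLike.congr_fun (congrArg CommRingCat.Hom.hom z.2) c⟩⟩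
    invFun := fun z => ⟨⟨z.1, CommRingCat.ofHom z.2.toRingHom⟩, CommRingCat.hom_ext z.2.comp_algebraMap⟩
    left_inv := fun _ => rfl
    right_inv := fun _ => rfl }

theorem nGeomConnComp_eq_sum [IsFinite (S ↘ Spec (CommRingCat.of k))] (pt : Spec (CommRingCat.of k)) :
    MoreMor.nGeomConnComp (S ↘ Spec (CommRingCat.of k)) pt =
      ((∑ᶠ s : S, Field.finSepDegree k (S.residueField s) : ℕ) : ℕ∞) := by
  let f := S ↘ Spec (CommRingCat.of k)
  let κ := (Spec (CommRingCat.of k)).residueField pt
  let Es := SeparableClosure κ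
  let Ea := AlgebraicClosure Es
  let r := Spec.map (CommRingCat.ofHom (algebraMap Es Ea))
  let gs : MoreMor.geomFiber f pt ⟶ Spec (CommRingCat.of Es) := pullback.snd _ _
  let W := pullback gs r
  have : IsFinite (f.fiberToSpecResidueField pt) :=
    MorphismProperty.pullback_snd (P := @IsFinite) _ _ ‹IsFinite f›
  have : IsFinite gs := MorphismProperty.pullback_snd (P := @IsFinite) _ _ this
  have : IsFinite (pullback.snd gs r) := MorphismProperty.pullback_snd (P := @IsFinite) _ _ this
  have : DiscreteTopology (MoreMor.geomFiber f pt) := discreteTopology_of_isFinite gs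
  let q := r ≫ Spec.map (CommRingCat.ofHom (algebraMap κ Es)) ≫ (Spec (CommRingCat.of k)).fromSpecResidueField pt
  obtain ⟨φ, hφ⟩ := Spec.map_surjective q
  letI : Algebra k Ea := φ.hom.toAlgebra
  have hq : q = Spec.map (CommRingCat.ofHom (algebraMap k Ea)) := hφ.symm
  have hW : IsPullback (pullback.fst gs r ≫ pullback.fst (f.fiberToSpecResidueField pt) _ ≫ f.fiberι pt)
      (pullback.snd gs r) f (Spec.map (CommRingCat.ofHom (algebraMap k Ea))) := by
    rw [← hq]
    exact (IsPullback.of_hasPullback gs r).paste_horiz
      ((IsPullback.of_hasPullback (f.fiberToSpecResidueField pt) _).paste_horiz (IsPullback.of_hasPullback f _))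
  let eW : MoreMor.geomFiber f pt ≃ Σ x : S, (S.residueField x →ₐ[k] Ea) :=
    (Equiv.ofBijective _ (bijective_of_purelyInseparable (IsPullback.of_hasPullback gs r))).symm.trans
      (((sectionsEquiv (pullback.snd gs r)).symm.trans (sectionsOfIsPullback hW)).trans (pointsEquiv k S))
  have : DiscreteTopology S := discreteTopology_of_isFinite f
  have : CompactSpace S := QuasiCompact.compactSpace_of_compactSpace f
  have : Finite S := finite_of_compact_of_discrete
  have hfd : ∀ x : S, FiniteDimensional k (S.residueField x) := by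
    intro x
    have : IsClosedImmersion (S.fromSpecResidueField x) :=
      (isClosed_singleton_iff_isClosedImmersion (x := x)).1 (isClosed_discrete _)
    have h2 : IsFinite (Spec.map (CommRingCat.ofHom (Curv2.resMap k S x))) := by
      rw [SpecMap_resMap]; exact MorphismProperty.comp_mem _ _ _ inferInstance ‹IsFinite f›
    have h3 : (Curv2.resMap k S x).Finite := (IsFinite.SpecMap_iff _).1 h2
    exact h3
  have hcard : ENat.card (_root_.ConnectedComponents (MoreMor.geomFiber f pt)) =
      ((∑ᶠ s : S, Field.finSepDegree k (S.residueField s) : ℕ) : ℕ∞) := by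
    have hb : Function.Bijective (ConnectedComponents.mk : MoreMor.geomFiber f pt → _) :=
      ⟨fun a b h => by
        have h' := ConnectedComponents.coe_eq_coe.1 h
        simp only [connectedComponent_eq_singleton, Set.singleton_eq_singleton_iff] at h'
        exact h', ConnectedComponents.surjective_coe⟩
    rw [← ENat.card_congr (Equiv.ofBijective _ hb), ENat.card_congr eW]
    have : ∀ x : S, Finite (S.residueField x →ₐ[k] Ea) := fun x => inferInstance
    cases nonempty_fintype S
    rw [ENat.card_eq_coe_natCard, Nat.card_sigma, finsum_eq_sum_of_fintype]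
    exact congrArg Nat.cast (Finset.sum_congr rfl fun x _ =>
      (Field.finSepDegree_eq_of_isAlgClosed k (S.residueField x) Ea).symm)
  exact hcard

end Groth.Agent.Stein58
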