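import Groth.Agent.Stein58.Zariski
import Groth.Agent.UH57.Basic
import Groth.Prelude.Def_MoreMor
import Mathlib.AlgebraicGeometry.Normalization
import Mathlib.Topology.Homeomorph.Lemmas

/-!
The Stein factorisation of a proper morphism: fibres and base change.
-/

set_option autoImplicit false
set_option maxSynthPendingDepth 3

universe u

open CategoryTheory CategoryTheory.Limits AlgebraicGeometry TopologicalSpace

noncomputable section

namespace Groth.Agent.Stein58

/-- The map of base changes induced by a morphism is a base change of it. -/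
theorem isPullback_map_fst {X X' S T : Scheme.{u}} {f : X ⟶ S} {f' : X' ⟶ S} (g : T ⟶ S) (a : X ⟶ X')
    (ha : a ≫ f' = f) :
    IsPullback (pullback.map f g f' g a (𝟙 _) (𝟙 _) (by rw [Category.comp_id, ha]) (by simp))
      (pullback.fst f g) (pullback.fst f' g) a := by
  refine (IsPullback.of_bot ?_ ?_ (IsPullback.of_hasPullback f' g)).flip
  · rw [pullback.lift_snd, Category.comp_id, ha]
    exact IsPullback.of_hasPullback f g
  · exact (pullback.lift_fst _ _ _).symm

/-- The first factor of the Stein factorisation is proper. -/
theorem isProper_toNormalization {X Y : Scheme.{u}} (f : X ⟶ Y) [IsProper f] : IsProper f.toNormalization := by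
  have : IsProper (f.toNormalization ≫ f.fromNormalization) := by
    rw [Scheme.Hom.toNormalization_fromNormalization]; infer_instance
  exact IsProper.of_comp _ f.fromNormalization

/-- Isomorphisms are isomorphisms on global functions. -/
theorem isIso_appTop_iso {X Y : Scheme.{u}} (e : X ≅ Y) : IsIso e.hom.appTop :=
  inferInstanceAs (IsIso (e.hom.app ⊤))

/-- Being an isomorphism on sections does not depend on how the open is written. -/
theorem isIso_app_of_eq {X Y : Scheme.{u}} (f : X ⟶ Y) {U V : Y.Opens} (h : U = V) (hV : IsIso (f.app V)) :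
    IsIso (f.app U) := h ▸ hV

/-- Restrictions along equalities are isomorphisms. -/
theorem isIso_map_eqToHom {X : Scheme.{u}} {U V : X.Opens} (h : U = V) :
    IsIso (X.presheaf.map (eqToHom h).op) := inferInstance

/-- Global functions of a universally closed morphism are integral over affine opens. -/
theorem isIntegral_app {X Y : Scheme.{u}} (f : X ⟶ Y) [UniversallyClosed f] (U : Y.affineOpens) :
    (f.app U.1).hom.IsIntegral := by
  haveI : UniversallyClosed (f ∣_ U.1) :=
    MorphismProperty.of_isPullback (isPullback_morphismRestrict f U.1).flip ‹_›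
  have hU : IsAffineOpen U.1 := U.2
  haveI : IsAffine (U.1 : Scheme.{u}) := hU
  haveI : IsIso hU.isoSpec.hom.appTop := isIso_appTop_iso hU.isoSpec
  have h1 := isIntegral_appTop_of_universallyClosed ((f ∣_ U.1) ≫ hU.isoSpec.hom)
  rw [Scheme.Hom.comp_appTop, CommRingCat.hom_comp, RingHom.RespectsIso.cancel_left_isIso RingHom.isIntegral_respectsIso] at h1
  rw [Scheme.Hom.appTop, morphismRestrict_app] at h1
  erw [CommRingCat.hom_comp] at h1
  replace h1 : (f.app (U.1.ι ''ᵁ ⊤)).hom.IsIntegral :=
    (@RingHom.RespectsIso.cancel_right_isIso _ RingHom.isIntegral_respectsIso _ _ _ _ _ (isIso_map_eqToHom _)).1 h1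
  have e : U.1.ι ''ᵁ ⊤ = U.1 := U.1.ι_image_top
  rw [← e]
  exact h1

/-- Zariski's connectedness theorem: the first factor of the Stein factorisation has geometrically
connected fibres. -/
theorem geometricallyConnected_toNormalization {X Y : Scheme.{u}} (f : X ⟶ Y) [IsProper f] :
    GeometricallyConnected f.toNormalization := by
  rw [GeometricallyConnected.eq_geometrically]
  haveI := isProper_toNormalization f
  rw [IsZariskiLocalAtTarget.iff_of_iSup_eq_top (P := geometrically (ConnectedSpace ·))
    (fun U : Y.affineOpens => f.fromNormalization ⁻¹ᵁ U.1)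
    (IsOpenCover.comap (iSup_affineOpens_eq_top Y) f.fromNormalization.base.hom)]
  intro U
  let W := f.fromNormalization ⁻¹ᵁ U.1
  have hW : IsAffineOpen W := U.2.preimage f.fromNormalization
  let g : (f.toNormalization ⁻¹ᵁ W : Scheme.{u}) ⟶ Spec Γ(f.normalization, W) :=
    (f.toNormalization ∣_ W) ≫ hW.isoSpec.hom
  haveI : IsProper (f.toNormalization ∣_ W) :=
    MorphismProperty.of_isPullback (isPullback_morphismRestrict f.toNormalization W).flip inferInstance
  haveI : IsProper g := inferInstance
  haveI : IsAffine (W : Scheme.{u}) := hW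
  -- the functions on the preimage of an affine open are integral over it
  letI := (f.app U.1).hom.toAlgebra
  have htop : integralClosure Γ(Y, U.1) Γ(X, f ⁻¹ᵁ U.1) = ⊤ := by
    rw [integralClosure_eq_top_iff, ← algebraMap_isIntegral_iff, RingHom.algebraMap_toAlgebra]
    exact isIntegral_app f U
  have happ : IsIso (f.toNormalization.app W) := by
    rw [f.toNormalization_app_preimage U]
    have hv : IsIso (CommRingCat.ofHom (integralClosure Γ(Y, U.1) Γ(X, f ⁻¹ᵁ U.1)).val.toRingHom) := by
      rw [ConcreteCategory.isIso_iff_bijective]
      exact ⟨Subtype.val_injective, fun z => ⟨⟨z, htop.ge trivial⟩, rfl⟩⟩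
    exact IsIso.comp_isIso' inferInstance (IsIso.comp_isIso' hv inferInstance)
  haveI : IsIso g.appTop := by
    rw [Scheme.Hom.comp_appTop]
    refine IsIso.comp_isIso' (isIso_appTop_iso hW.isoSpec) ?_
    rw [Scheme.Hom.appTop, morphismRestrict_app]
    exact IsIso.comp_isIso' (isIso_app_of_eq _ W.ι_image_top happ) (isIso_map_eqToHom _)
  have h := (geometricallyConnected_of_isIso_appTop' g).geometrically_connectedSpace
  exact (MorphismProperty.cancel_right_of_respectsIso (geometrically (ConnectedSpace ·)) _ hW.isoSpec.hom).1 h

/-- An integral morphism through which a morphism with connected geometric fibres factors, with surjective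
first factor, is universally injective. -/
theorem universallyInjective_of_factor {X W V : Scheme.{u}} (a : X ⟶ W) (b : W ⟶ V) [Surjective a]
    [IsIntegralHom b] [GeometricallyConnected (a ≫ b)] : UniversallyInjective b := by
  suffices h : ∀ (K : Type u) [Field K], Function.Injective (fun g : Spec (CommRingCat.of K) ⟶ W => g ≫ b) from
    ((tfae_universallyInjective b).out 0 1).2 h
  intro K _ g₁ g₂ hg
  let L := AlgebraicClosure K
  let ι : Spec (CommRingCat.of L) ⟶ Spec (CommRingCat.of K) := Spec.map (CommRingCat.ofHom (algebraMap K L))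
  have hepi : ∀ u v : Spec (CommRingCat.of K) ⟶ W, ι ≫ u = ι ≫ v → u = v := by
    intro u v h
    obtain ⟨⟨x, φ⟩, rfl⟩ := (Scheme.SpecToEquivOfField K W).symm.surjective u
    obtain ⟨⟨x', φ'⟩, rfl⟩ := (Scheme.SpecToEquivOfField K W).symm.surjective v
    have h' : (Scheme.SpecToEquivOfField L W).symm ⟨x, φ ≫ CommRingCat.ofHom (algebraMap K L)⟩ =
        (Scheme.SpecToEquivOfField L W).symm ⟨x', φ' ≫ CommRingCat.ofHom (algebraMap K L)⟩ := by
      simp only [Scheme.SpecToEquivOfField, Equiv.coe_fn_symm_mk, ι] at h ⊢
      rw [Spec.map_comp, Spec.map_comp, Category.assoc, Category.assoc]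
      exact h
    obtain ⟨rfl, h2⟩ := Sigma.mk.inj_iff.1 ((Scheme.SpecToEquivOfField L W).symm.injective h')
    have : φ = φ' := CommRingCat.hom_ext (RingHom.ext fun z => (algebraMap K L).injective
      (congrArg (fun ψ : W.residueField x ⟶ CommRingCat.of L => ψ z) (eq_of_heq h2)))
    rw [this]
  apply hepi
  -- the base change to `L`
  let y : Spec (CommRingCat.of L) ⟶ V := ι ≫ g₁ ≫ b
  let P := pullback b y
  let p : P ⟶ Spec (CommRingCat.of L) := pullback.snd b y
  haveI : IsIntegralHom p := MorphismProperty.pullback_snd _ _ inferInstance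
  haveI : IsAffine P := isAffine_of_isAffineHom p
  let r : pullback (a ≫ b) y ⟶ P := pullback.map (a ≫ b) y b y a (𝟙 _) (𝟙 _) (by simp) (by simp)
  have hr : IsPullback r (pullback.fst (a ≫ b) y) (pullback.fst b y) a := isPullback_map_fst y a rfl
  haveI : Surjective r := MorphismProperty.of_isPullback hr.flip ‹Surjective a›
  haveI : ConnectedSpace ↥(pullback (a ≫ b) y) :=
    GeometricallyConnected.geometrically_connectedSpace (f := a ≫ b) _ _ _ (IsPullback.of_hasPullback _ _)
  haveI : ConnectedSpace P := r.surjective.connectedSpace r.continuous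
  letI : Algebra L Γ(P, ⊤) := (Crv77.constMap p).toAlgebra
  haveI : Algebra.IsIntegral L Γ(P, ⊤) := by
    have h := IsIntegralHom.isIntegral_app p ⊤ (isAffineOpen_top _)
    have h2 : (Crv77.constMap p).IsIntegral :=
      RingHom.IsIntegral.trans _ _ (RingHom.isIntegral_of_surjective _
        (ConcreteCategory.bijective_of_isIso (Scheme.ΓSpecIso (CommRingCat.of L)).inv).2) h
    exact ⟨fun a => h2 a⟩
  obtain ⟨hnt, hidem⟩ := (connectedSpace_iff_idempotent_gamma P).1 inferInstance
  have hun := isUnit_or_isNilpotent (K := L) hidem
  obtain ⟨hloc, -⟩ := isLocalRing_and_dim hun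
  haveI : Algebra.IsIntegral L (IsLocalRing.ResidueField Γ(P, ⊤)) :=
    Algebra.IsIntegral.of_surjective (IsScalarTower.toAlgHom L Γ(P, ⊤) _) IsLocalRing.residue_surjective
  have hsec : ∀ s : Spec (CommRingCat.of L) ⟶ P, s ≫ p = 𝟙 _ → ∀ z : Γ(P, ⊤), ∀ c : L,
      IsLocalRing.residue _ z = algebraMap L _ c → (s.appTop ≫ (Scheme.ΓSpecIso (CommRingCat.of L)).hom) z = c := by
    intro s hs z c hz
    let σ := (s.appTop ≫ (Scheme.ΓSpecIso (CommRingCat.of L)).hom).hom
    have hσ : ∀ l, σ (Crv77.constMap p l) = l := fun l => by
      show ((Scheme.ΓSpecIso (CommRingCat.of L)).inv ≫ p.appTop ≫ s.appTop ≫ (Scheme.ΓSpecIso (CommRingCat.of L)).hom) l = l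
      rw [← Scheme.Hom.comp_appTop_assoc, hs]
      simp
    have hd : z - Crv77.constMap p c ∈ IsLocalRing.maximalIdeal Γ(P, ⊤) := by
      rw [← IsLocalRing.residue_eq_zero_iff, map_sub, hz, sub_eq_zero]
      rfl
    have h0 := (((hun _).resolve_left hd).map σ).eq_zero
    rwa [map_sub, hσ, sub_eq_zero] at h0
  let s₁ : Spec (CommRingCat.of L) ⟶ P := pullback.lift (ι ≫ g₁) (𝟙 _) (by simp [y])
  let s₂ : Spec (CommRingCat.of L) ⟶ P := pullback.lift (ι ≫ g₂) (𝟙 _) (by simp [y, show g₂ ≫ b = g₁ ≫ b from hg.symm])
  have hs : s₁ = s₂ := by
    refine ext_of_isAffine ?_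
    rw [← cancel_mono (Scheme.ΓSpecIso (CommRingCat.of L)).hom]
    ext z
    obtain ⟨c, hc⟩ := (IsAlgClosed.algebraMap_bijective_of_isIntegral (k := L)
      (K := IsLocalRing.ResidueField Γ(P, ⊤))).2 (IsLocalRing.residue _ z)
    exact (hsec s₁ (pullback.lift_snd _ _ _) z c hc.symm).trans (hsec s₂ (pullback.lift_snd _ _ _) z c hc.symm).symm
  exact ((pullback.lift_fst _ _ _).symm.trans (congrArg (· ≫ pullback.fst b y) hs)).trans (pullback.lift_fst _ _ _)

/-- Such an integral morphism is a universal homeomorphism. -/
theorem isUnivHomeo_of_factor {X W V : Scheme.{u}} (a : X ⟶ W) (b : W ⟶ V) [Surjective a]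
    [IsIntegralHom b] [GeometricallyConnected (a ≫ b)] : FlatMor.IsUnivHomeo b :=
  (UH57.isUnivHomeo_iff' b).2 ⟨inferInstance, universallyInjective_of_factor a b,
    haveI : Surjective (a ≫ b) := inferInstance
    Surjective.of_comp a b⟩

/-- A closed surjection with connected fibres induces a bijection on connected components. -/
theorem bijective_connectedComponents {P Q : Type u} [TopologicalSpace P] [TopologicalSpace Q] {r : P → Q}
    (hc : Continuous r) (hcl : IsClosedMap r) (hs : Function.Surjective r)
    (hconn : ∀ q, _root_.IsConnected (r ⁻¹' {q})) :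
    ENat.card (_root_.ConnectedComponents P) = ENat.card (_root_.ConnectedComponents Q) :=
  ENat.card_congr ((hcl.isQuotientMap hc hs).isCoinducing.connectedComponentsHomeomorph hconn).toEquiv

/-- A Noetherian space has finitely many connected components. -/
theorem finite_connectedComponents (P : Type u) [TopologicalSpace P] [NoetherianSpace P] :
    Finite (_root_.ConnectedComponents P) := by
  haveI : Finite (irreducibleComponents P) := NoetherianSpace.finite_irreducibleComponents.to_subtype
  let c : irreducibleComponents P → _root_.ConnectedComponents P := fun Z =>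
    ConnectedComponents.mk Z.2.1.1.choose
  refine Finite.of_surjective c fun z => ?_
  obtain ⟨x, rfl⟩ := ConnectedComponents.surjective_coe z
  refine ⟨⟨irreducibleComponent x, irreducibleComponent_mem_irreducibleComponents x⟩, ?_⟩
  rw [ConnectedComponents.coe_eq_coe']
  exact isIrreducible_irreducibleComponent.isConnected.isPreconnected.subset_connectedComponent
    mem_irreducibleComponent (Exists.choose_spec _)

/-- The geometric fibres of a proper morphism and of its Stein factor have the same components. -/
theorem nGeomConnComp_fromNormalization {X S : Scheme.{u}} (f : X ⟶ S) [IsProper f] (s : S) :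
    MoreMor.nGeomConnComp f s < ⊤ ∧
      MoreMor.nGeomConnComp f s = MoreMor.nGeomConnComp f.fromNormalization s := by
  let κ := S.residueField s
  let q : Spec (CommRingCat.of (SeparableClosure κ)) ⟶ Spec κ :=
    Spec.map (CommRingCat.ofHom (algebraMap κ (SeparableClosure κ)))
  let P := pullback (f.fiberToSpecResidueField s) q
  let Q := pullback (f.fromNormalization.fiberToSpecResidueField s) q
  let r₀ : f.fiber s ⟶ f.fromNormalization.fiber s :=
    pullback.map f (S.fromSpecResidueField s) f.fromNormalization (S.fromSpecResidueField s)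
      f.toNormalization (𝟙 _) (𝟙 _) (by simp) (by simp)
  have hr₀s : r₀ ≫ f.fromNormalization.fiberToSpecResidueField s = f.fiberToSpecResidueField s :=
    (pullback.lift_snd _ _ _).trans (Category.comp_id _)
  have hr₀ : IsPullback r₀ (pullback.fst f _) (pullback.fst f.fromNormalization _) f.toNormalization :=
    isPullback_map_fst _ _ f.toNormalization_fromNormalization
  let r : P ⟶ Q := pullback.map _ q _ q r₀ (𝟙 _) (𝟙 _) (by simp [hr₀s]) (by simp)
  have hr : IsPullback r (pullback.fst _ _) (pullback.fst _ _) r₀ := isPullback_map_fst q r₀ hr₀s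
  haveI := geometricallyConnected_toNormalization f
  haveI := isProper_toNormalization f
  haveI hgc0 : GeometricallyConnected r₀ := MorphismProperty.of_isPullback hr₀.flip ‹GeometricallyConnected f.toNormalization›
  haveI hgc : GeometricallyConnected r := MorphismProperty.of_isPullback hr.flip hgc0
  haveI hpr0 : IsProper r₀ := MorphismProperty.of_isPullback hr₀.flip ‹IsProper f.toNormalization›
  haveI : IsProper r := MorphismProperty.of_isPullback hr.flip hpr0
  have h : MoreMor.nGeomConnComp f s = MoreMor.nGeomConnComp f.fromNormalization s :=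
    bijective_connectedComponents r.continuous r.isClosedMap r.surjective r.isConnected_preimage_singleton
  refine ⟨?_, h⟩
  haveI : IsProper (pullback.snd (f.fiberToSpecResidueField s) q) :=
    MorphismProperty.pullback_snd _ _ (MorphismProperty.pullback_snd _ _ inferInstance)
  haveI : IsLocallyNoetherian P := LocallyOfFiniteType.isLocallyNoetherian (pullback.snd _ q)
  haveI : CompactSpace P := QuasiCompact.compactSpace_of_compactSpace (pullback.snd _ q)
  haveI : IsNoetherian P := { }
  haveI : Finite (_root_.ConnectedComponents (MoreMor.geomFiber f s)) := finite_connectedComponents P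
  exact ENat.card_lt_top_of_finite

/-- Base change of the Stein factorisation is a universal homeomorphism. -/
theorem isUnivHomeo_normalizationPullback {X S T : Scheme.{u}} (f : X ⟶ S) [IsProper f] (g : T ⟶ S) :
    FlatMor.IsUnivHomeo (f.normalizationPullback g) := by
  haveI : IsProper (pullback.snd f g) := MorphismProperty.pullback_snd _ _ inferInstance
  let a := (pullback.snd f g).toNormalization
  let m : pullback f g ⟶ pullback f.fromNormalization g :=
    pullback.map f g f.fromNormalization g f.toNormalization (𝟙 _) (𝟙 _) (by simp) (by simp)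
  have hm : IsPullback m (pullback.fst f g) (pullback.fst f.fromNormalization g) f.toNormalization :=
    isPullback_map_fst g _ f.toNormalization_fromNormalization
  haveI := geometricallyConnected_toNormalization f
  haveI hgm : GeometricallyConnected m := MorphismProperty.of_isPullback hm.flip ‹GeometricallyConnected f.toNormalization›
  have hcomp : a ≫ f.normalizationPullback g = m := by
    apply pullback.hom_ext
    · rw [Category.assoc, Scheme.Hom.toNormalization_normalizationPullback_fst]
      exact (pullback.lift_fst _ _ _).symm
    · rw [Category.assoc, Scheme.Hom.normalizationPullback_snd, Scheme.Hom.toNormalization_fromNormalization]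
      exact ((pullback.lift_snd _ _ _).trans (Category.comp_id _)).symm
  haveI := geometricallyConnected_toNormalization (pullback.snd f g)
  haveI : GeometricallyConnected (a ≫ f.normalizationPullback g) := by rw [hcomp]; exact hgm
  exact isUnivHomeo_of_factor a _

/-- The second factor is a universal homeomorphism for geometrically connected fibres. -/
theorem isUnivHomeo_fromNormalization {X S : Scheme.{u}} (f : X ⟶ S) [IsProper f] [GeometricallyConnected f] :
    FlatMor.IsUnivHomeo f.fromNormalization := by
  haveI := geometricallyConnected_toNormalization f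
  haveI : GeometricallyConnected (f.toNormalization ≫ f.fromNormalization) := by
    rw [Scheme.Hom.toNormalization_fromNormalization]; infer_instance
  exact isUnivHomeo_of_factor f.toNormalization _

end Groth.Agent.Stein58
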