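import Groth.Agent.CAlg6.GeomTensor
import Groth.Agent.Crv77.Const
import Mathlib.AlgebraicGeometry.Geometrically.Connected
import Mathlib.AlgebraicGeometry.Morphisms.Flat
import Mathlib.AlgebraicGeometry.Morphisms.Proper
import Mathlib.AlgebraicGeometry.Pullbacks
import Mathlib.FieldTheory.PurelyInseparable.Basic
import Mathlib.RingTheory.Artinian.Ring
import Mathlib.Topology.Separation.Connected
import Mathlib.RingTheory.IntegralClosure.Algebra.Basic

/-!
A universally closed scheme over a field is geometrically connected iff its ring of global sections is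
local with purely inseparable residue field.
-/

set_option autoImplicit false

universe u

open CategoryTheory CategoryTheory.Limits AlgebraicGeometry TopologicalSpace TensorProduct

noncomputable section

namespace Groth.Agent.Stein58

/-- A scheme is connected iff it is nonempty and has only trivial idempotent functions. -/
theorem connectedSpace_iff_idempotent_gamma (X : Scheme.{u}) :
    ConnectedSpace X ↔ Nontrivial Γ(X, ⊤) ∧ ∀ e : Γ(X, ⊤), IsIdempotentElem e → e = 0 ∨ e = 1 := by
  constructor
  · intro h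
    refine ⟨?_, fun e he => Crv77.eq_zero_or_one_of_isIdempotentElem he⟩
    obtain ⟨x⟩ := h.toNonempty
    exact (X.presheaf.germ ⊤ x trivial).hom.domain_nontrivial
  · rintro ⟨hnt, hidem⟩
    have : Nonempty X := by
      by_contra hne
      rw [not_nonempty_iff] at hne
      refine one_ne_zero (α := Γ(X, ⊤)) ?_
      exact X.IsSheaf.section_ext fun x _ => hne.elim x
    rw [connectedSpace_iff_clopen]
    refine ⟨this, fun s hs => ?_⟩
    let U : Bool → X.Opens := fun b => if b then ⟨s, hs.isOpen⟩ else ⟨sᶜ, hs.compl.isOpen⟩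
    have hcov : (⊤ : X.Opens) ≤ ⨆ b, U b := fun x _ => Opens.mem_iSup.2 (by
      by_cases hx : x ∈ s
      · exact ⟨true, hx⟩
      · exact ⟨false, hx⟩)
    let sf : ∀ b, Γ(X, U b) := fun b => if b then 1 else 0
    have hcompat : TopCat.Presheaf.IsCompatible X.sheaf.1 U sf := by
      intro a b
      cases a <;> cases b
      · rfl
      · refine X.IsSheaf.section_ext fun x hx => ?_
        exact absurd hx.2 (show x ∉ s from hx.1)
      · refine X.IsSheaf.section_ext fun x hx => ?_
        exact absurd hx.1 (show x ∉ s from hx.2)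
      · rfl
    obtain ⟨e, he, -⟩ := X.sheaf.existsUnique_gluing' U ⊤ (fun b => homOfLE le_top) hcov sf hcompat
    have heid : IsIdempotentElem e := X.sheaf.eq_of_locally_eq' U ⊤ (fun b => homOfLE le_top) hcov _ _ fun b => by
      rw [show (e * e) = e * e from rfl]
      erw [map_mul, he b]
      cases b
      · exact (zero_mul _ : (0 : Γ(X, U false)) * 0 = 0)
      · exact (one_mul _ : (1 : Γ(X, U true)) * 1 = 1)
    rcases hidem e heid with h | h
    · left
      refine Set.eq_empty_of_forall_notMem fun x hx => ?_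
      have h1 := he true
      rw [h] at h1
      have h2 : (0 : Γ(X, U true)) = 1 := (map_zero _).symm.trans h1
      exact zero_ne_one (α := X.presheaf.stalk x) (by
        simpa using congrArg (X.presheaf.germ (U true) x hx) h2)
    · right
      refine Set.eq_univ_of_forall fun x => by_contra fun hx => ?_
      have h1 := he false
      rw [h] at h1
      have h2 : (1 : Γ(X, U false)) = 0 := (map_one _).symm.trans h1
      exact one_ne_zero (α := X.presheaf.stalk x) (by
        simpa using congrArg (X.presheaf.germ (U false) x hx) h2)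

/-- An integral algebra over a field with only trivial idempotents is local of dimension zero. -/
theorem isUnit_or_isNilpotent {K A : Type u} [Field K] [CommRing A] [Algebra K A] [Algebra.IsIntegral K A]
    [Nontrivial A] (h : ∀ e : A, IsIdempotentElem e → e = 0 ∨ e = 1) (a : A) : IsUnit a ∨ IsNilpotent a := by
  let S := Algebra.adjoin K ({a} : Set A)
  have : Module.Finite K S := Algebra.finite_adjoin_simple_of_isIntegral (Algebra.IsIntegral.isIntegral a)
  have : IsArtinianRing S := IsArtinianRing.of_finite K S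
  have : Nontrivial S := inferInstance
  have hc : ConnectedSpace (PrimeSpectrum S) := (CAlg6.connectedSpace_iff_idempotent S).2
    ⟨inferInstance, fun e he => (h e (he.map S.val)).imp (fun h => Subtype.ext h) (fun h => Subtype.ext h)⟩
  have : Subsingleton (PrimeSpectrum S) := PreconnectedSpace.trivial_of_discrete
  let x : S := ⟨a, Algebra.subset_adjoin rfl⟩
  by_cases hx : IsUnit x
  · exact Or.inl (hx.map S.val)
  · refine Or.inr (IsNilpotent.map (r := x) ?_ S.val)
    rw [nilpotent_iff_mem_prime]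
    intro P hP
    obtain ⟨m, hm, hxm⟩ := exists_max_ideal_of_mem_nonunits hx
    have := hm.isPrime
    rw [show P = m from congrArg PrimeSpectrum.asIdeal
      (Subsingleton.elim (⟨P, hP⟩ : PrimeSpectrum S) ⟨m, ‹_›⟩)]
    exact hxm

theorem isLocalRing_and_dim {A : Type u} [CommRing A] [Nontrivial A]
    (h : ∀ a : A, IsUnit a ∨ IsNilpotent a) : IsLocalRing A ∧ ringKrullDim A = 0 := by
  have hloc : IsLocalRing A := IsLocalRing.of_nonunits_add fun a b ha hb =>
    fun hu => not_isUnit_zero (M₀ := A) (by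
      have := ((Commute.all a b).isNilpotent_add ((h a).resolve_left ha) ((h b).resolve_left hb))
      obtain ⟨n, hn⟩ := this
      rw [← hn]
      exact hu.pow n)
  refine ⟨hloc, ?_⟩
  have : Ring.KrullDimLE 0 A := Ring.KrullDimLE.mk₀ fun P hP => by
    refine Ideal.isMaximal_iff.2 ⟨P.ne_top_iff_one.1 hP.ne_top, fun J x hJ hx hxJ => ?_⟩
    rcases h x with hu | hn
    · exact (Ideal.eq_top_of_isUnit_mem _ hxJ hu) ▸ Submodule.mem_top
    · exact absurd (hP.mem_of_pow_mem _ (hn.choose_spec ▸ P.zero_mem)) hx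
  exact ringKrullDimZero_iff_ringKrullDim_eq_zero.1 this

section Tensor

variable {k : Type u} [Field k] {R : Type u} [CommRing R] [Algebra k R]

/-- Elements with a power constant up to nilpotents. -/
theorem exists_pow_sub_nilpotent (q : ℕ) [ExpChar k q]
    (hR : ∀ a : R, ∃ (n : ℕ) (c : k), IsNilpotent (a ^ q ^ n - algebraMap k R c))
    {L : Type u} [Field L] [Algebra k L] [Nontrivial (L ⊗[k] R)] (z : L ⊗[k] R) :
    ∃ (n : ℕ) (c : L), IsNilpotent (z ^ q ^ n - algebraMap L (L ⊗[k] R) c) := by
  have : ExpChar (L ⊗[k] R) q := expChar_of_injective_algebraMap (algebraMap k (L ⊗[k] R)).injective q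
  have hmono : ∀ (z : L ⊗[k] R) (n m : ℕ) (c : L), IsNilpotent (z ^ q ^ n - algebraMap L _ c) →
      IsNilpotent (z ^ q ^ (n + m) - algebraMap L _ (c ^ q ^ m)) := fun z n m c h => by
    have := h.pow_of_pos (n := q ^ m) (pow_ne_zero _ (expChar_pos k q).ne')
    rwa [sub_pow_expChar_pow, ← pow_mul, ← pow_add, ← map_pow] at this
  induction z using TensorProduct.induction_on with
  | zero => exact ⟨0, 0, by simp⟩
  | tmul l a =>
    obtain ⟨n, c, hc⟩ := hR a
    refine ⟨n, l ^ q ^ n * algebraMap k L c, ?_⟩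
    have h1 : IsNilpotent ((1 : L) ⊗ₜ[k] (a ^ q ^ n - algebraMap k R c)) :=
      hc.map (Algebra.TensorProduct.includeRight : R →ₐ[k] L ⊗[k] R)
    have h2 := (Commute.all ((l ^ q ^ n) ⊗ₜ[k] (1 : R)) _).isNilpotent_mul_left h1
    have e : (l ⊗ₜ[k] a) ^ q ^ n - algebraMap L (L ⊗[k] R) (l ^ q ^ n * algebraMap k L c) =
        (l ^ q ^ n) ⊗ₜ[k] (1 : R) * ((1 : L) ⊗ₜ[k] (a ^ q ^ n - algebraMap k R c)) := by
      rw [Algebra.TensorProduct.tmul_pow, Algebra.TensorProduct.tmul_mul_tmul, mul_one, one_mul, tmul_sub,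
      Algebra.TensorProduct.algebraMap_apply, Algebra.algebraMap_self, RingHom.id_apply,
      Algebra.algebraMap_eq_smul_one (A := R), ← smul_tmul, Algebra.smul_def, mul_comm]
    exact e ▸ h2
  | add x y hx hy =>
    obtain ⟨n, c, hc⟩ := hx
    obtain ⟨m, d, hd⟩ := hy
    refine ⟨n + m, c ^ q ^ m + d ^ q ^ n, ?_⟩
    have h1 := hmono x n m c hc
    have h2 := hmono y m n d hd
    rw [add_comm m n] at h2
    have := (Commute.all _ _).isNilpotent_add h1 h2
    rwa [sub_add_sub_comm, ← add_pow_expChar_pow, ← map_add] at this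

theorem idempotent_trivial_of_pow_sub_nilpotent {L A : Type u} [Field L] [CommRing A] [Algebra L A]
    (q : ℕ) (hq : q ≠ 0) (hA : ∀ z : A, ∃ (n : ℕ) (c : L), IsNilpotent (z ^ q ^ n - algebraMap L A c))
    (e : A) (he : IsIdempotentElem e) : e = 0 ∨ e = 1 := by
  obtain ⟨n, c, hc⟩ := hA e
  obtain ⟨j, hj⟩ : ∃ j, q ^ n = j + 1 := Nat.exists_eq_succ_of_ne_zero (pow_ne_zero _ hq)
  rw [hj, he.pow_succ_eq] at hc
  by_cases hc0 : c = 0
  · left
    rw [hc0, map_zero, sub_zero] at hc
    exact he.eq_zero_of_isNilpotent hc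
  · right
    refine (IsIdempotentElem.iff_eq_one_of_isUnit ?_).1 he
    have := hc.isUnit_add_left_of_commute ((IsUnit.mk0 c hc0).map (algebraMap L A)) (Commute.all _ _)
    rwa [add_sub_cancel] at this

theorem exists_pow_mem_of_nilpotent (K : Type u) [Field K] [Algebra k K] [IsAlgClosure k K] (q : ℕ) [ExpChar k q]
    [Nontrivial (K ⊗[k] R)] {a : R} {c : K} (h : IsNilpotent ((1 : K) ⊗ₜ[k] a - algebraMap K (K ⊗[k] R) c)) :
    ∃ (n : ℕ) (c' : k), IsNilpotent (a ^ q ^ n - algebraMap k R c') := by
  have : IsAlgClosed K := IsAlgClosure.isAlgClosed k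
  have : Algebra.IsAlgebraic k K := IsAlgClosure.isAlgebraic
  have hint : IsIntegral k c := Algebra.IsIntegral.isIntegral c
  have huniq : ∀ σ : K →ₐ[k] K, σ c = c := fun σ => by
    let Φ := Algebra.TensorProduct.map σ (AlgHom.id k R)
    have h1 := h.map Φ
    rw [map_sub, Algebra.TensorProduct.algebraMap_apply, Algebra.algebraMap_self, RingHom.id_apply,
      Algebra.TensorProduct.map_tmul, Algebra.TensorProduct.map_tmul, map_one, AlgHom.id_apply] at h1
    have h2 := (Commute.all _ _).isNilpotent_sub h1 h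
    rw [Algebra.TensorProduct.algebraMap_apply, Algebra.algebraMap_self, RingHom.id_apply,
      sub_sub_sub_cancel_left, map_one, ← sub_tmul] at h2
    by_contra hne
    have h3 : IsUnit ((c - σ c) ⊗ₜ[k] (1 : R)) :=
      (IsUnit.mk0 (c - σ c) (sub_ne_zero.2 (Ne.symm hne))).map (Algebra.TensorProduct.includeLeft (R := k) (S := k) (B := R))
    exact h2.not_isUnit h3
  have hdeg : (minpoly k c).natSepDegree = 1 := by
    classical
    rw [(minpoly k c).natSepDegree_eq_of_isAlgClosed K, Finset.card_eq_one]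
    refine ⟨c, Finset.eq_singleton_iff_unique_mem.2 ⟨?_, fun d hd => ?_⟩⟩
    · rw [Multiset.mem_toFinset, Polynomial.mem_aroots]
      exact ⟨minpoly.ne_zero hint, minpoly.aeval k c⟩
    · rw [Multiset.mem_toFinset, Polynomial.mem_aroots] at hd
      obtain ⟨σ, hσ⟩ := IntermediateField.exists_algHom_of_splits_of_aeval
        (fun s => ⟨Algebra.IsIntegral.isIntegral s, IsAlgClosed.splits _⟩) hd.2
      exact hσ ▸ huniq σ
  obtain ⟨n, c', hc'⟩ := (minpoly.natSepDegree_eq_one_iff_pow_mem q).1 hdeg
  refine ⟨n, c', ?_⟩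
  have : ExpChar (K ⊗[k] R) q := expChar_of_injective_algebraMap (algebraMap k (K ⊗[k] R)).injective q
  have h1 := h.pow_of_pos (n := q ^ n) (pow_ne_zero _ (expChar_pos k q).ne')
  rw [sub_pow_expChar_pow, ← map_pow, ← hc', Algebra.TensorProduct.tmul_pow, one_pow,
    ← IsScalarTower.algebraMap_apply, ← AlgHom.commutes (Algebra.TensorProduct.includeRight : R →ₐ[k] K ⊗[k] R) c'] at h1
  refine (IsNilpotent.map_iff (f := (Algebra.TensorProduct.includeRight : R →ₐ[k] K ⊗[k] R))
    (Algebra.TensorProduct.includeRight_injective (algebraMap k K).injective)).1 ?_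
  rw [map_sub]
  exact h1

end Tensor

section Scheme

variable {k : Type u} [Field k] {X : Scheme.{u}} (f : X ⟶ Spec (CommRingCat.of k))

/-- Global sections commute with extensions of the field. -/
theorem exists_gamma_equiv [QuasiCompact f] [QuasiSeparated f] {L : Type u} [Field L] [Algebra k L] :
    letI := (Crv77.constMap f).toAlgebra
    Nonempty (Γ(pullback f (Spec.map (CommRingCat.ofHom (algebraMap k L))), ⊤) ≃+* L ⊗[k] Γ(X, ⊤)) := by
  letI := (Crv77.constMap f).toAlgebra
  let φ : CommRingCat.of k ⟶ CommRingCat.of L := CommRingCat.ofHom (algebraMap k L)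
  have : Flat (Spec.map φ) := by
    rw [HasRingHomProperty.Spec_iff (P := @Flat)]
    exact RingHom.flat_algebraMap_iff.2 (inferInstance : Module.Flat k L)
  have : CompactSpace X := QuasiCompact.compactSpace_of_compactSpace f
  have : QuasiSeparatedSpace X := quasiSeparatedSpace_of_quasiSeparated f
  have hiso := isIso_pushoutSection_of_isQuasiSeparated_of_flat_right (IsPullback.of_hasPullback f (Spec.map φ))
    (US := ⊤) (UT := ⊤) (UX := ⊤) (UY := ⊤) le_top le_top (by simp) (isAffineOpen_top _) (isAffineOpen_top _)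
    isCompact_univ (IsQuasiSeparated.of_quasiSeparatedSpace _)
  have hpo := (isIso_pushoutSection_iff (IsPullback.of_hasPullback f (Spec.map φ)) (US := ⊤) (UT := ⊤) (UX := ⊤)
    (UY := ⊤) le_top le_top (by simp)).1 hiso
  have h1 : IsPushout (CommRingCat.ofHom (algebraMap k Γ(X, ⊤))) φ
      ((pullback.fst f (Spec.map φ)).appLE ⊤ ⊤ le_top)
      ((Scheme.ΓSpecIso (CommRingCat.of L)).inv ≫ (pullback.snd f (Spec.map φ)).appLE ⊤ ⊤ le_top) := by
    refine IsPushout.of_iso hpo (Scheme.ΓSpecIso (CommRingCat.of k)) (Iso.refl _) (Scheme.ΓSpecIso (CommRingCat.of L))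
      (Iso.refl _) ?_ ?_ ?_ ?_
    · show f.appLE ⊤ ⊤ le_top ≫ 𝟙 _ = (Scheme.ΓSpecIso (CommRingCat.of k)).hom ≫ CommRingCat.ofHom (algebraMap k Γ(X, ⊤))
      rw [Category.comp_id, show f.appLE ⊤ ⊤ le_top = f.appTop from (Scheme.Hom.app_eq_appLE _).symm]
      show f.appTop = _ ≫ (Scheme.ΓSpecIso (CommRingCat.of k)).inv ≫ f.appTop
      rw [Iso.hom_inv_id_assoc]
    · rw [show (Spec.map φ).appLE ⊤ ⊤ le_top = (Spec.map φ).appTop from (Scheme.Hom.app_eq_appLE _).symm]
      exact (Scheme.ΓSpecIso_naturality φ)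
    · simp
    · simp
  exact ⟨((h1.flip.isoIsPushout _ _ (CommRingCat.isPushout_tensorProduct k L Γ(X, ⊤)))).commRingCatIsoToRingEquiv⟩

theorem geometricallyConnected_iff_gamma [IsProper f] (q : ℕ) [ExpChar k q] :
    GeometricallyConnected f ↔ (IsLocalRing Γ(X, ⊤) ∧ ringKrullDim Γ(X, ⊤) = 0 ∧
      ∀ a : Γ(X, ⊤), ∃ (n : ℕ) (c : k), IsNilpotent (a ^ q ^ n - Crv77.constMap f c)) := by
  letI := (Crv77.constMap f).toAlgebra
  let R := Γ(X, ⊤)
  have hint : Algebra.IsIntegral k R := by
    have h := isIntegral_appTop_of_universallyClosed f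
    have h2 : (Crv77.constMap f).IsIntegral :=
      RingHom.IsIntegral.trans _ _ (RingHom.isIntegral_of_surjective _
        (ConcreteCategory.bijective_of_isIso (Scheme.ΓSpecIso (CommRingCat.of k)).inv).2) h
    exact ⟨fun a => h2 a⟩
  constructor
  · intro hgc
    let K : Type u := AlgebraicClosure k
    let y : Spec (CommRingCat.of K) ⟶ Spec (CommRingCat.of k) := Spec.map (CommRingCat.ofHom (algebraMap k K))
    have hconn : ConnectedSpace ↥(pullback f y) :=
      GeometricallyConnected.geometrically_connectedSpace (f := f) _ _ _ (IsPullback.of_hasPullback f y)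
    obtain ⟨hnt, hidem⟩ := (connectedSpace_iff_idempotent_gamma _).1 hconn
    have hXK : Nontrivial Γ(pullback f y, ⊤) ∧ ∀ e : Γ(pullback f y, ⊤), IsIdempotentElem e → e = 0 ∨ e = 1 :=
      ⟨hnt, hidem⟩
    obtain ⟨e⟩ := exists_gamma_equiv f (L := K)
    have : Nontrivial (K ⊗[k] R) := e.symm.toEquiv.nontrivial
    have hA : ∀ z : K ⊗[k] R, IsIdempotentElem z → z = 0 ∨ z = 1 := fun z hz => by
      refine (hidem (e.symm z) (hz.map e.symm)).imp (fun h => ?_) (fun h => ?_)
      · rw [← e.apply_symm_apply z, h, map_zero]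
      · rw [← e.apply_symm_apply z, h, map_one]
    have hA' := isUnit_or_isNilpotent (K := K) hA
    have hinj : Function.Injective (Algebra.TensorProduct.includeRight : R →ₐ[k] K ⊗[k] R) :=
      Algebra.TensorProduct.includeRight_injective (algebraMap k K).injective
    have : Nontrivial R := (Algebra.TensorProduct.includeRight : R →ₐ[k] K ⊗[k] R).toRingHom.domain_nontrivial
    have hR := isUnit_or_isNilpotent (K := k) (A := R) fun a ha =>
      (hA _ (ha.map (Algebra.TensorProduct.includeRight : R →ₐ[k] K ⊗[k] R))).imp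
        (fun h => hinj (h.trans (map_zero _).symm)) (fun h => hinj (h.trans (map_one _).symm))
    refine ⟨(isLocalRing_and_dim hR).1, (isLocalRing_and_dim hR).2, fun a => ?_⟩
    obtain ⟨hloc, -⟩ := isLocalRing_and_dim hA'
    let κ := IsLocalRing.ResidueField (K ⊗[k] R)
    have : Algebra.IsIntegral K κ := Algebra.IsIntegral.of_surjective (IsScalarTower.toAlgHom K (K ⊗[k] R) κ)
      IsLocalRing.residue_surjective
    have : IsAlgClosed K := AlgebraicClosure.isAlgClosed k
    obtain ⟨c, hc⟩ := (IsAlgClosed.algebraMap_bijective_of_isIntegral (k := K) (K := κ)).2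
      (IsLocalRing.residue _ ((1 : K) ⊗ₜ[k] a))
    refine exists_pow_mem_of_nilpotent K q (c := c) ((hA' _).resolve_left ?_)
    rw [← mem_nonunits_iff, ← IsLocalRing.mem_maximalIdeal, ← IsLocalRing.residue_eq_zero_iff, map_sub, sub_eq_zero,
      ← hc]
    rfl
  · rintro ⟨hloc, -, hpi⟩
    refine ⟨geometrically_iff_of_isClosedUnderIsomorphisms.mpr fun L _ y => ?_⟩
    obtain ⟨φ, rfl⟩ := Spec.map_surjective y
    letI : Algebra k L := φ.hom.toAlgebra
    obtain ⟨e⟩ := exists_gamma_equiv f (L := L)
    have : Nontrivial (L ⊗[k] R) :=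
      (Algebra.TensorProduct.includeRight_injective (A := L) (B := R) (algebraMap k L).injective).nontrivial
    refine (connectedSpace_iff_idempotent_gamma _).2 ⟨e.toEquiv.nontrivial, fun z hz => ?_⟩
    refine (idempotent_trivial_of_pow_sub_nilpotent (L := L) q (expChar_pos k q).ne'
      (exists_pow_sub_nilpotent q hpi) (e z) (hz.map e)).imp (fun h => ?_) (fun h => ?_)
    · exact e.injective (h.trans (map_zero e).symm)
    · exact e.injective (h.trans (map_one e).symm)

end Scheme

end Groth.Agent.Stein58
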