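import Groth.Agent.Stein58.IdemLift
import Groth.Agent.Stein58.GeomConnGamma
import Mathlib.RingTheory.AdjoinRoot

/-!
Zariski's connectedness theorem over Noetherian affine bases: a proper morphism with `O = f_* O` has
geometrically connected fibres.
-/

set_option autoImplicit false
set_option maxSynthPendingDepth 3

universe u

open CategoryTheory CategoryTheory.Limits AlgebraicGeometry TopologicalSpace TensorProduct IsLocalRing

noncomputable section

namespace Groth.Agent.Stein58

/-- A proper scheme over a field is geometrically connected if it stays connected over all monogenic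
finite extensions. -/
theorem geometricallyConnected_of_connected_adjoinRoot {k : Type u} [Field k] {X : Scheme.{u}}
    (f : X ⟶ Spec (CommRingCat.of k)) [IsProper f]
    (h : ∀ g : Polynomial k, g.Monic → Irreducible g →
      ConnectedSpace ↥(pullback f (Spec.map (CommRingCat.ofHom (algebraMap k (AdjoinRoot g)))))) :
    GeometricallyConnected f := by
  letI := (Crv77.constMap f).toAlgebra
  let R := Γ(X, ⊤)
  let q := ringExpChar k
  have hint : Algebra.IsIntegral k R := by
    have h := isIntegral_appTop_of_universallyClosed f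
    have h2 : (Crv77.constMap f).IsIntegral :=
      RingHom.IsIntegral.trans _ _ (RingHom.isIntegral_of_surjective _
        (ConcreteCategory.bijective_of_isIso (Scheme.ΓSpecIso (CommRingCat.of k)).inv).2) h
    exact ⟨fun a => h2 a⟩
  have hidem : ∀ g : Polynomial k, g.Monic → Irreducible g → Nontrivial (AdjoinRoot g ⊗[k] R) ∧
      ∀ e : AdjoinRoot g ⊗[k] R, IsIdempotentElem e → e = 0 ∨ e = 1 := by
    intro g hg hi
    haveI := Fact.mk hi
    obtain ⟨e⟩ := exists_gamma_equiv f (L := AdjoinRoot g)
    obtain ⟨hnt, hid⟩ := (connectedSpace_iff_idempotent_gamma _).1 (h g hg hi)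
    refine ⟨e.symm.toEquiv.nontrivial, fun z hz => (hid (e.symm z) (hz.map e.symm)).imp ?_ ?_⟩
    · intro h
      rw [← e.apply_symm_apply z, h, map_zero]
    · intro h
      rw [← e.apply_symm_apply z, h, map_one]
  obtain ⟨hnt0, hid0⟩ := hidem Polynomial.X Polynomial.monic_X Polynomial.irreducible_X
  haveI : Fact (Irreducible (Polynomial.X : Polynomial k)) := ⟨Polynomial.irreducible_X⟩
  have hinj : Function.Injective (Algebra.TensorProduct.includeRight : R →ₐ[k] AdjoinRoot (Polynomial.X : Polynomial k) ⊗[k] R) :=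
    Algebra.TensorProduct.includeRight_injective (algebraMap k _).injective
  have : Nontrivial R := (Algebra.TensorProduct.includeRight : R →ₐ[k] AdjoinRoot (Polynomial.X : Polynomial k) ⊗[k] R).toRingHom.domain_nontrivial
  have hR := isUnit_or_isNilpotent (K := k) (A := R) fun a ha =>
    (hid0 _ (ha.map (Algebra.TensorProduct.includeRight : R →ₐ[k] AdjoinRoot (Polynomial.X : Polynomial k) ⊗[k] R))).imp
      (fun h => hinj (h.trans (map_zero _).symm)) (fun h => hinj (h.trans (map_one _).symm))
  obtain ⟨hloc, hdim⟩ := isLocalRing_and_dim hR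
  refine (geometricallyConnected_iff_gamma f q).2 ⟨hloc, hdim, fun a => ?_⟩
  let F := ResidueField R
  have : Algebra.IsIntegral k F :=
    Algebra.IsIntegral.of_surjective (IsScalarTower.toAlgHom k R F) residue_surjective
  let α : F := residue R a
  have hα : IsIntegral k α := Algebra.IsIntegral.isIntegral α
  let g := minpoly k α
  haveI : Fact (Irreducible g) := ⟨minpoly.irreducible hα⟩
  let L := AdjoinRoot g
  obtain ⟨hntL, hidL⟩ := hidem g (minpoly.monic hα) (minpoly.irreducible hα)
  have : Algebra.IsIntegral k L :=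
    have := (minpoly.monic hα).finite_adjoinRoot
    inferInstance
  have hT := isUnit_or_isNilpotent (K := L) (A := L ⊗[k] R) hidL
  let z : L ⊗[k] R := AdjoinRoot.root g ⊗ₜ 1 - 1 ⊗ₜ a
  let Ω := AlgebraicClosure F
  have hroots : ∀ b : Ω, Polynomial.aeval b g = 0 → IsNilpotent z → b = algebraMap F Ω α := by
    intro b hb hz
    let φ : L ⊗[k] R →ₐ[k] Ω := Algebra.TensorProduct.lift (AdjoinRoot.liftAlgHom g (Algebra.ofId k Ω) b hb)
      (IsScalarTower.toAlgHom k R Ω) (fun _ _ => Commute.all _ _)
    have hφ : φ z = b - algebraMap F Ω α := by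
      simp only [φ, z, map_sub, Algebra.TensorProduct.lift_tmul, map_one, mul_one, one_mul,
        IsScalarTower.coe_toAlgHom']
      erw [AdjoinRoot.liftAlgHom_root]
      rw [IsScalarTower.algebraMap_apply R F Ω]
      rfl
    have := (hz.map φ).eq_zero
    rwa [hφ, sub_eq_zero] at this
  have hzn : IsNilpotent z := by
    refine (hT z).resolve_left fun hu => ?_
    let φ : L ⊗[k] R →ₐ[k] Ω := Algebra.TensorProduct.lift
      (AdjoinRoot.liftAlgHom g (Algebra.ofId k Ω) (algebraMap F Ω α) (by
        show Polynomial.aeval (algebraMap F Ω α) g = 0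
        rw [Polynomial.aeval_algebraMap_apply, minpoly.aeval, map_zero]))
      (IsScalarTower.toAlgHom k R Ω) (fun _ _ => Commute.all _ _)
    have hφ : φ z = 0 := by
      simp only [φ, z, map_sub, Algebra.TensorProduct.lift_tmul, map_one, mul_one, one_mul,
        IsScalarTower.coe_toAlgHom']
      erw [AdjoinRoot.liftAlgHom_root]
      rw [IsScalarTower.algebraMap_apply R F Ω, sub_eq_zero]
      rfl
    exact (hu.map φ).ne_zero hφ
  have hdeg : g.natSepDegree = 1 := by
    classical
    rw [g.natSepDegree_eq_of_isAlgClosed Ω, Finset.card_eq_one]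
    refine ⟨algebraMap F Ω α, Finset.eq_singleton_iff_unique_mem.2 ⟨?_, fun d hd => ?_⟩⟩
    · rw [Multiset.mem_toFinset, Polynomial.mem_aroots]
      exact ⟨minpoly.ne_zero hα, by rw [Polynomial.aeval_algebraMap_apply, minpoly.aeval, map_zero]⟩
    · rw [Multiset.mem_toFinset, Polynomial.mem_aroots] at hd
      exact hroots d hd.2 hzn
  obtain ⟨n, c, hc⟩ := (minpoly.natSepDegree_eq_one_iff_pow_mem q).1 hdeg
  refine ⟨n, c, (hR _).resolve_left ?_⟩
  rw [← mem_nonunits_iff, ← mem_maximalIdeal, ← residue_eq_zero_iff, map_sub, map_pow, sub_eq_zero,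
    ← hc]
  rfl

/-- `O = f_* O` is stable under flat base change of affine bases. -/
theorem isIso_appTop_snd {X S T : Scheme.{u}} (f : X ⟶ S) (g : T ⟶ S) [IsAffine S] [IsAffine T]
    [QuasiCompact f] [QuasiSeparated f] [Flat g] [IsIso f.appTop] : IsIso (pullback.snd f g).appTop := by
  have : CompactSpace X := QuasiCompact.compactSpace_of_compactSpace f
  have : QuasiSeparatedSpace X := quasiSeparatedSpace_of_quasiSeparated f
  have hiso := isIso_pushoutSection_of_isQuasiSeparated_of_flat_right (IsPullback.of_hasPullback f g)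
    (US := ⊤) (UT := ⊤) (UX := ⊤) (UY := ⊤) le_top le_top (by simp) (isAffineOpen_top _) (isAffineOpen_top _)
    isCompact_univ (IsQuasiSeparated.of_quasiSeparatedSpace _)
  have hpo := (isIso_pushoutSection_iff (IsPullback.of_hasPullback f g) (US := ⊤) (UT := ⊤) (UX := ⊤)
    (UY := ⊤) le_top le_top (by simp)).1 hiso
  have e : ∀ {Y Z : Scheme.{u}} (h : Y ⟶ Z), h.appLE ⊤ ⊤ le_top = h.appTop := fun h =>
    (Scheme.Hom.app_eq_appLE _).symm
  simp only [e] at hpo
  exact hpo.isIso_inr_of_isIso

section Local

variable {A : Type u} [CommRing A] {X : Scheme.{u}} (f : X ⟶ Spec (CommRingCat.of A))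

lemma mem_basicOpen_globalA (x : X) (a : A) :
    x ∈ X.basicOpen (f.appTop ((Scheme.ΓSpecIso (CommRingCat.of A)).inv a)) ↔ a ∉ (f x).asIdeal := by
  rw [← Scheme.preimage_basicOpen_top]
  change f x ∈ (Spec (CommRingCat.of A)).basicOpen ((Scheme.ΓSpecIso (CommRingCat.of A)).inv a) ↔ _
  rw [basicOpen_eq_of_affine']
  simp
  rfl

variable [IsNoetherianRing A] [IsLocalRing A] [IsProper f] [IsIso f.appTop]

/-- The closed fibre is connected. -/
theorem isConnected_preimage_closedPoint : _root_.IsConnected (f ⁻¹' {closedPoint A}) := by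
  letI : X.Over (Spec (CommRingCat.of A)) := ⟨f⟩
  haveI : IsProper (X ↘ Spec (CommRingCat.of A)) := ‹IsProper f›
  let φ : A →+* Γ(X, ⊤) := f.appTop.hom.comp (Scheme.ΓSpecIso (CommRingCat.of A)).inv.hom
  have hφ : Function.Bijective φ :=
    (ConcreteCategory.bijective_of_isIso f.appTop).comp
      (ConcreteCategory.bijective_of_isIso (Scheme.ΓSpecIso (CommRingCat.of A)).inv)
  have hrA : ∀ a, FF71.rA A X ⊤ a = φ a := fun a => by
    show X.presheaf.map _ (φ a) = φ a
    rw [show (homOfLE (le_top : (⊤ : X.Opens) ≤ ⊤)).op = 𝟙 _ from rfl, X.presheaf.map_id]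
    rfl
  have hclosed : ∀ x : X, x ∈ overI (maximalIdeal A) ↔ f x = closedPoint A := by
    intro x
    constructor
    · intro h
      refine PrimeSpectrum.ext ((le_maximalIdeal (f x).2.ne_top).antisymm fun a ha => ?_)
      have := h a ha
      rw [hrA] at this
      by_contra hne
      exact this ((mem_basicOpen_globalA f x a).2 hne)
    · intro h a ha hx
      rw [hrA] at hx
      refine (mem_basicOpen_globalA f x a).1 hx ?_
      rw [h]
      exact ha
  constructor
  · have hdom : IsDominant f := by
      have hker : f.ker = ⊥ := by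
        rw [Scheme.ker_of_isAffine, (RingHom.injective_iff_ker_eq_bot _).1
          (ConcreteCategory.bijective_of_isIso f.appTop).1]
        exact Scheme.IdealSheafData.ext_of_isAffine (by simp)
      have := congrArg (fun K : (Spec (CommRingCat.of A)).IdealSheafData =>
        (K.support : Set (Spec (CommRingCat.of A)))) hker
      simp only [Scheme.Hom.support_ker, Scheme.IdealSheafData.support_bot, TopologicalSpace.Closeds.coe_top] at this
      exact ⟨dense_iff_closure_eq.mpr this⟩
    have : Surjective f := ⟨fun y => by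
      have h := f.denseRange.closure_range
      rw [f.isClosedMap.isClosed_range.closure_eq] at h
      exact h.ge (Set.mem_univ y)⟩
    obtain ⟨x, hx⟩ := f.surjective (closedPoint A)
    exact ⟨x, hx⟩
  rw [isPreconnected_closed_iff]
  intro t t' ht ht' hsub h1 h2
  by_contra hempty
  rw [Set.not_nonempty_iff_eq_empty] at hempty
  let Z := f ⁻¹' ({closedPoint A} : Set (Spec (CommRingCat.of A)))
  have hZ : IsClosed Z := (IsLocalRing.isClosed_singleton_closedPoint A).preimage f.continuous
  obtain ⟨s, hs⟩ := exists_separates (maximalIdeal A) (P := Z ∩ t) (Q := Z ∩ t') (hZ.inter ht) (hZ.inter ht')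
    (Set.disjoint_iff_inter_eq_empty.2 (Set.eq_empty_of_subset_empty fun x hx => hempty.le
      ⟨hx.1.1, hx.1.2, hx.2.2⟩))
    (by
      ext x
      rw [hclosed]
      exact ⟨fun h => h.elim (·.1) (·.1), fun h => (hsub h).imp (⟨h, ·⟩) (⟨h, ·⟩)⟩)
  obtain ⟨a, rfl⟩ := hφ.2 s
  by_cases ha : IsUnit a
  · obtain ⟨x, hx, hxt⟩ := h2
    refine (hs x trivial).2 ⟨hx, hxt⟩ ?_
    exact (mem_basicOpen_globalA f x a).2 fun h => (f x).2.ne_top (Ideal.eq_top_of_isUnit_mem _ h ha)
  · obtain ⟨x, hx, hxt⟩ := h1
    refine (hs x trivial).1 ⟨hx, hxt⟩ ?_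
    rw [← map_one φ, ← map_sub]
    refine (mem_basicOpen_globalA f x (1 - a)).2 fun h => ?_
    exact ((f x).2.ne_top) (Ideal.eq_top_of_isUnit_mem _ h
      (isUnit_one_sub_self_of_mem_nonunits a ha))

theorem connectedSpace_pullback_residue {L : Type u} [Field L] (φ : A →+* L) (hφ : Function.Surjective φ) :
    ConnectedSpace ↥(pullback f (Spec.map (CommRingCat.ofHom φ))) := by
  have : IsClosedImmersion (Spec.map (CommRingCat.ofHom φ)) := IsClosedImmersion.spec_of_surjective _ hφ
  have hr : Set.range (pullback.fst f (Spec.map (CommRingCat.ofHom φ))) = f ⁻¹' {closedPoint A} := by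
    rw [Scheme.Pullback.range_fst]
    congr 1
    refine Set.eq_singleton_iff_unique_mem.2 ⟨?_, ?_⟩
    · haveI : IsLocalHom φ := IsLocalHom.of_surjective φ hφ
      exact ⟨closedPoint L, comap_closedPoint φ⟩
    · rintro _ ⟨y, rfl⟩
      haveI : IsLocalHom φ := IsLocalHom.of_surjective φ hφ
      rw [Subsingleton.elim (α := PrimeSpectrum L) y (closedPoint L)]
      exact comap_closedPoint φ
  rw [connectedSpace_iff_univ]
  have hemb := (pullback.fst f (Spec.map (CommRingCat.ofHom φ))).isEmbedding
  refine hemb.isInducing.isPreconnected_image.mp ?_ |> fun h => ⟨?_, h⟩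
  · rw [Set.image_univ, hr]
    exact (isConnected_preimage_closedPoint f).2
  · obtain ⟨x, hx⟩ := (isConnected_preimage_closedPoint f).1
    obtain ⟨w, -⟩ := hr.ge hx
    exact ⟨w, trivial⟩

/-- The closed fibre is geometrically connected. -/
theorem geometricallyConnected_closedFibre :
    GeometricallyConnected (pullback.snd f (Spec.map (CommRingCat.ofHom (residue A)))) := by
  refine geometricallyConnected_of_connected_adjoinRoot _ fun g hg hi => ?_
  haveI := Fact.mk hi
  obtain ⟨G, hG, -, hGm⟩ := Polynomial.lifts_and_natDegree_eq_and_monic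
    (show g ∈ Polynomial.lifts (residue A) from Polynomial.mem_lifts g |>.2
      (Polynomial.map_surjective _ residue_surjective g)) hg
  let A' := AdjoinRoot G
  have : Module.Finite A A' := hGm.finite_adjoinRoot
  have : Module.Free A A' := hGm.free_adjoinRoot
  have : IsNoetherianRing A' := IsNoetherianRing.of_finite A A'
  let χ : A' →+* AdjoinRoot g := AdjoinRoot.lift ((AdjoinRoot.of g).comp (residue A)) (AdjoinRoot.root g) (by
    rw [← Polynomial.eval₂_map, hG]
    exact AdjoinRoot.eval₂_root g)
  have hχof : ∀ a, χ (AdjoinRoot.of G a) = AdjoinRoot.of g (residue A a) := fun a =>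
    (AdjoinRoot.lift_of _).trans rfl
  have hχ : Function.Surjective χ := by
    intro y
    obtain ⟨p, rfl⟩ := AdjoinRoot.mk_surjective (g := g) y
    obtain ⟨P, rfl⟩ := Polynomial.map_surjective _ (residue_surjective (R := A)) p
    refine ⟨AdjoinRoot.mk G P, ?_⟩
    show AdjoinRoot.lift _ _ _ (AdjoinRoot.mk G P) = _
    rw [AdjoinRoot.lift_mk, ← Polynomial.eval₂_map]
    exact (Polynomial.aeval_def _ _).symm.trans (AdjoinRoot.aeval_eq _)
  have hker : RingHom.ker χ = (maximalIdeal A).map (algebraMap A A') := by
    refine le_antisymm (fun y hy => ?_) ?_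
    · obtain ⟨P, rfl⟩ := AdjoinRoot.mk_surjective (g := G) y
      rw [RingHom.mem_ker] at hy
      replace hy : Polynomial.eval₂ ((AdjoinRoot.of g).comp (residue A)) (AdjoinRoot.root g) P = 0 :=
        (AdjoinRoot.lift_mk _ P).symm.trans hy
      rw [← Polynomial.eval₂_map] at hy
      have hy' : AdjoinRoot.mk g (P.map (residue A)) = 0 := ((Polynomial.aeval_def _ _).symm.trans (AdjoinRoot.aeval_eq _)).symm.trans hy
      obtain ⟨r, hr⟩ := AdjoinRoot.mk_eq_zero.1 hy'
      obtain ⟨R', rfl⟩ := Polynomial.map_surjective _ (residue_surjective (R := A)) r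
      rw [← hG, ← Polynomial.map_mul] at hr
      have h2 : P - G * R' ∈ (maximalIdeal A).map (Polynomial.C : A →+* Polynomial A) := by
        rw [Ideal.mem_map_C_iff]
        intro n
        rw [← residue_eq_zero_iff, ← Polynomial.coeff_map, Polynomial.map_sub, hr, sub_self, Polynomial.coeff_zero]
      have h3 := Ideal.mem_map_of_mem (AdjoinRoot.mk G) h2
      rw [Ideal.map_map, map_sub, map_mul, AdjoinRoot.mk_self, zero_mul, sub_zero] at h3
      exact h3
    · rw [Ideal.map_le_iff_le_comap]
      intro a ha
      rw [Ideal.mem_comap, RingHom.mem_ker]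
      refine (AdjoinRoot.lift_of _).trans ?_
      rw [RingHom.comp_apply, (residue_eq_zero_iff a).2 ha, map_zero]
  have hmax : (RingHom.ker χ).IsMaximal := RingHom.ker_isMaximal_of_surjective χ hχ
  have : IsLocalRing A' := by
    refine IsLocalRing.of_unique_max_ideal ⟨RingHom.ker χ, hmax, fun J hJ => ?_⟩
    refine (hmax.eq_of_le hJ.ne_top ?_).symm
    rw [hker, Ideal.map_le_iff_le_comap]
    have := Ideal.isMaximal_comap_of_isIntegral_of_isMaximal (R := A) J
    exact (IsLocalRing.eq_maximalIdeal this).ge
  let g' := Spec.map (CommRingCat.ofHom (algebraMap A A'))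
  have : Flat g' := by
    rw [HasRingHomProperty.Spec_iff (P := @Flat)]
    exact RingHom.flat_algebraMap_iff.2 (inferInstance : Module.Flat A A')
  have := isIso_appTop_snd f g'
  have := connectedSpace_pullback_residue (pullback.snd f g') χ hχ
  let e := pullbackLeftPullbackSndIso f g' (Spec.map (CommRingCat.ofHom χ)) ≪≫
    pullback.congrHom rfl (show Spec.map (CommRingCat.ofHom χ) ≫ g' =
      Spec.map (CommRingCat.ofHom (algebraMap (ResidueField A) (AdjoinRoot g))) ≫
        Spec.map (CommRingCat.ofHom (residue A)) by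
      rw [← Spec.map_comp, ← Spec.map_comp]
      congr 1
      ext a
      exact hχof a) ≪≫
    (pullbackLeftPullbackSndIso f (Spec.map (CommRingCat.ofHom (residue A)))
      (Spec.map (CommRingCat.ofHom (algebraMap (ResidueField A) (AdjoinRoot g))))).symm
  exact e.hom.homeomorph.connectedSpace_iff.1 this

end Local

/-- Zariski's connectedness theorem over a Noetherian affine base. -/
theorem geometricallyConnected_of_isIso_appTop {A : Type u} [CommRing A] [IsNoetherianRing A]
    {X : Scheme.{u}} (f : X ⟶ Spec (CommRingCat.of A)) [IsProper f] [IsIso f.appTop] :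
    GeometricallyConnected f := by
  refine ⟨geometrically_iff_of_isClosedUnderIsomorphisms.mpr fun K _ y => ?_⟩
  obtain ⟨φ, rfl⟩ := Spec.map_surjective y
  let p := RingHom.ker φ.hom
  have : p.IsPrime := RingHom.ker_isPrime _
  let Ap := Localization.AtPrime p
  let ψ : Ap →+* K := IsLocalization.lift (M := p.primeCompl) (g := φ.hom) fun s =>
    (IsUnit.mk0 _ fun h => s.2 h)
  have : IsLocalHom ψ := ⟨fun a ha => by
    obtain ⟨a, s, rfl⟩ := IsLocalization.exists_mk'_eq p.primeCompl a
    rw [IsLocalization.AtPrime.isUnit_mk'_iff (S := Ap) p]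
    intro h
    simp [ψ, IsLocalization.lift_mk', (show φ.hom a = 0 from h)] at ha⟩
  let g := Spec.map (CommRingCat.ofHom (algebraMap A Ap))
  have : Flat g := by
    rw [HasRingHomProperty.Spec_iff (P := @Flat)]
    exact RingHom.flat_algebraMap_iff.2 (inferInstance : Module.Flat A Ap)
  have := isIso_appTop_snd f g
  have := geometricallyConnected_closedFibre (pullback.snd f g)
  have h1 := GeometricallyConnected.geometrically_connectedSpace
    (f := pullback.snd (pullback.snd f g) (Spec.map (CommRingCat.ofHom (residue Ap))))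
    (Spec.map (CommRingCat.ofHom (ResidueField.lift ψ))) _ _ (IsPullback.of_hasPullback _ _)
  let e := pullbackLeftPullbackSndIso (pullback.snd f g) (Spec.map (CommRingCat.ofHom (residue Ap)))
      (Spec.map (CommRingCat.ofHom (ResidueField.lift ψ))) ≪≫
    pullbackLeftPullbackSndIso f g _ ≪≫
    pullback.congrHom rfl (show (Spec.map (CommRingCat.ofHom (ResidueField.lift ψ)) ≫
        Spec.map (CommRingCat.ofHom (residue Ap))) ≫ g = Spec.map φ by
      rw [← Spec.map_comp, ← Spec.map_comp]
      congr 1
      ext a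
      simp [ψ])
  exact e.hom.homeomorph.connectedSpace_iff.1 h1

end Groth.Agent.Stein58
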