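import Groth.Agent.Stein58.ProperModelFibre
import Groth.Agent.Stein58.Connectedness
import Groth.Agent.Serre71.Finite
import Groth.Agent.QC70.DevissageAux

/-!
Zariski's connectedness theorem over any affine base: a proper morphism with `O = f_* O` has geometrically
connected fibres.
-/

set_option autoImplicit false
set_option maxSynthPendingDepth 6
set_option linter.style.haveILetI false
set_option backward.isDefEq.respectTransparency.types false

universe u

open CategoryTheory CategoryTheory.Limits AlgebraicGeometry TopologicalSpace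
open Groth.Agent.Approx60

noncomputable section

namespace Groth.Agent.Stein58

/-- Global functions of a scheme proper over a Noetherian ring form a finite module. -/
theorem isNoetherianRing_gamma {A : Type u} [CommRing A] [IsNoetherianRing A] {Y : Scheme.{u}}
    (g : Y ⟶ Spec (CommRingCat.of A)) [IsProper g] : IsNoetherianRing Γ(Y, ⊤) := by
  letI : Y.Over (Spec (CommRingCat.of A)) := ⟨g⟩
  haveI : IsProper (Y ↘ Spec (CommRingCat.of A)) := ‹IsProper g›
  haveI := LocallyOfFiniteType.isLocallyNoetherian g
  haveI := Serre71.finite_hh_of_isProper A (Coh.structureModule Y) QC70.isCoh_unit 0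
  letI : Algebra A Γ(Y, ⊤) := (Serre71.globalA A Y).toAlgebra
  let e : Coh.HH Y (Coh.structureModule Y) 0 →ₗ[A] Γ(Y, ⊤) :=
    { toFun := fun x => (Serre71.hzero (Coh.structureModule Y) x : Γ(Y, ⊤))
      map_add' := fun x y => map_add (Serre71.hzero (Coh.structureModule Y)) x y
      map_smul' := fun a x => Serre71.hzero_smul (Coh.structureModule Y) a x }
  haveI : Module.Finite A Γ(Y, ⊤) :=
    Module.Finite.of_surjective e (Serre71.hzero (Coh.structureModule Y)).surjective
  exact IsNoetherianRing.of_finite A Γ(Y, ⊤)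

/-- The canonical map to the spectrum of global functions is proper. -/
theorem isProper_toSpecΓ {A : Type u} [CommRing A] {Y : Scheme.{u}} (g : Y ⟶ Spec (CommRingCat.of A))
    [IsProper g] : IsProper Y.toSpecΓ := by
  have e : Y.toSpecΓ ≫ Spec.map ((Scheme.ΓSpecIso (CommRingCat.of A)).inv ≫ g.appTop) = g := by
    rw [Spec.map_comp, ← Category.assoc, ← Scheme.toSpecΓ_naturality, Category.assoc,
      ← SpecMap_ΓSpecIso_hom, ← Spec.map_comp, Iso.inv_hom_id, Spec.map_id, Category.comp_id]
  haveI : IsProper (Y.toSpecΓ ≫ Spec.map ((Scheme.ΓSpecIso (CommRingCat.of A)).inv ≫ g.appTop)) := by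
    rw [e]; infer_instance
  exact IsProper.of_comp _ (Spec.map ((Scheme.ΓSpecIso (CommRingCat.of A)).inv ≫ g.appTop))

/-- Zariski's connectedness theorem. -/
theorem geometricallyConnected_of_isIso_appTop' {A : Type u} [CommRing A] {X : Scheme.{u}}
    (f : X ⟶ Spec (CommRingCat.of A)) [IsProper f] [IsIso f.appTop] : GeometricallyConnected f := by
  classical
  refine ⟨geometrically_iff_of_isClosedUnderIsomorphisms.mpr fun K _ y => ?_⟩
  obtain ⟨φ, rfl⟩ := Spec.map_surjective y
  obtain ⟨E⟩ := nonempty_emb f
  haveI := E.sep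
  obtain ⟨F₀, h₀⟩ := E.eventually_isProper
  obtain ⟨F₁, h₁⟩ := E.eventually_fibre φ.hom
  haveI hpr : IsProper (E.str (F₀ ∪ F₁)) := h₀ _ Finset.subset_union_left
  have hfib := h₁ (F₀ ∪ F₁) Finset.subset_union_right
  generalize F₀ ∪ F₁ = F at hpr hfib
  -- the Stein factor of the model
  let g := E.str F
  haveI : IsProper g := hpr
  haveI := isProper_toSpecΓ g
  haveI hN : IsNoetherianRing Γ(E.Y F, ⊤) := isNoetherianRing_gamma g
  haveI : CompactSpace (E.Y F) := QuasiCompact.compactSpace_of_compactSpace g
  haveI : IsIso (E.Y F).toSpecΓ.appTop := by rw [Scheme.toSpecΓ_appTop]; infer_instance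
  haveI hgc : GeometricallyConnected (E.Y F).toSpecΓ :=
    @geometricallyConnected_of_isIso_appTop _ _ hN _ (E.Y F).toSpecΓ ‹_› ‹_›
  let y : Spec (CommRingCat.of K) ⟶ Spec (CommRingCat.of A) := Spec.map φ
  let θ : Spec (CommRingCat.of A) ⟶ Spec Γ(E.Y F, ⊤) :=
    Spec.map ((E.toY F).appTop ≫ inv f.appTop ≫ (Scheme.ΓSpecIso (CommRingCat.of A)).hom)
  let ψ := (Scheme.ΓSpecIso (CommRingCat.of (subR F))).inv ≫ g.appTop
  have hθ : f ≫ θ = E.toY F ≫ (E.Y F).toSpecΓ := by
    simp only [θ, Spec.map_comp, SpecMap_ΓSpecIso_hom]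
    rw [← Category.assoc, ← Category.assoc, Scheme.toSpecΓ_naturality, Category.assoc X.toSpecΓ,
      ← Spec.map_comp, IsIso.inv_hom_id, Spec.map_id, Category.comp_id, Scheme.toSpecΓ_naturality]
  have hg : (E.Y F).toSpecΓ ≫ Spec.map ψ = g := by
    rw [Spec.map_comp, ← Category.assoc, ← Scheme.toSpecΓ_naturality, Category.assoc,
      ← SpecMap_ΓSpecIso_hom, ← Spec.map_comp, Iso.inv_hom_id, Spec.map_id, Category.comp_id]
  have hy : (y ≫ θ) ≫ Spec.map ψ = y ≫ Emb.red F := by
    have h1 : θ ≫ Spec.map ψ = Emb.red F := by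
      have e : (Scheme.ΓSpecIso (CommRingCat.of (subR F))).inv ≫ g.appTop ≫ (E.toY F).appTop =
          CommRingCat.ofHom (subR F).subtype ≫ (Scheme.ΓSpecIso (CommRingCat.of A)).inv ≫ f.appTop := by
        rw [← Scheme.Hom.comp_appTop, E.toY_str, Scheme.Hom.comp_appTop, Scheme.ΓSpecIso_inv_naturality_assoc]
      rw [← Spec.map_comp]
      refine congrArg Spec.map ?_
      simp only [ψ, Category.assoc]
      rw [reassoc_of% e]
      simp
    rw [Category.assoc, h1]
  let h : pullback f y ⟶ pullback (E.Y F).toSpecΓ (y ≫ θ) :=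
    pullback.lift (pullback.fst f y ≫ E.toY F) (pullback.snd f y) (by
      rw [Category.assoc, ← hθ, pullback.condition_assoc])
  -- both embed into the fibre of the ambient product
  let y' : Spec (CommRingCat.of K) ⟶ Spec (CommRingCat.of (subR F)) := y ≫ Emb.red F
  let M : prodZ E.W₀ (Spec (CommRingCat.of K)) ⟶ E.W F := prodZmap (𝟙 E.W₀) y'
  let mY : pullback g y' ⟶ prodZ E.W₀ (Spec (CommRingCat.of K)) :=
    pullback.lift (pullback.fst g y' ≫ (E.toW F).imageι ≫ pullback.fst _ _) (pullback.snd g y')
      (specULiftZIsTerminal.hom_ext _ _)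
  have hmY : IsPullback mY (pullback.fst g y') M (E.toW F).imageι := by
    refine IsPullback.of_right ?_ ?_ (isPullback_prodZmap_right E.W₀ y').flip
    · rw [pullback.lift_snd]
      exact (IsPullback.of_hasPullback g y').flip
    · apply pullback.hom_ext
      · rw [Category.assoc, Category.assoc, pullback.lift_fst, Category.comp_id, pullback.lift_fst]
      · rw [Category.assoc, Category.assoc, pullback.lift_snd, ← Category.assoc mY, pullback.lift_snd]
        exact pullback.condition.symm
  haveI : IsClosedImmersion mY := MorphismProperty.of_isPullback hmY.flip inferInstance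
  let toQ' : pullback (E.Y F).toSpecΓ (y ≫ θ) ⟶ pullback g y' :=
    pullback.mapDesc (E.Y F).toSpecΓ (y ≫ θ) (Spec.map ψ) ≫ (pullback.congrHom hg hy).hom
  haveI : IsClosedImmersion toQ' := inferInstance
  let m := toQ' ≫ mY
  haveI : IsClosedImmersion m := inferInstance
  haveI := E.closed
  let jX : pullback f y ⟶ prodZ E.W₀ (Spec (CommRingCat.of K)) :=
    pullback.lift (pullback.fst f y ≫ E.a) (pullback.snd f y) (specULiftZIsTerminal.hom_ext _ _)
  have hjX : IsPullback (pullback.fst f y) jX E.incl (prodZmap (𝟙 E.W₀) y) := by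
    refine IsPullback.of_bot ?_ ?_ (isPullback_prodZmap_right E.W₀ y)
    · rw [pullback.lift_snd, pullback.lift_snd]
      exact IsPullback.of_hasPullback f y
    · apply pullback.hom_ext
      · rw [Category.assoc, Category.assoc, pullback.lift_fst, pullback.lift_fst, Category.comp_id, pullback.lift_fst]
      · rw [Category.assoc, Category.assoc, pullback.lift_snd, pullback.lift_snd, ← Category.assoc jX, pullback.lift_snd]
        exact pullback.condition
  haveI : IsClosedImmersion jX := MorphismProperty.of_isPullback hjX (inferInstance : IsClosedImmersion E.incl)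
  have hQ1 : toQ' ≫ pullback.fst g y' = pullback.fst _ _ := by
    simp only [toQ', Category.assoc, pullback.congrHom_hom, pullback.map, pullback.mapDesc, pullback.lift_fst,
      pullback.lift_fst_assoc, Category.comp_id]
    erw [pullback.lift_fst, pullback.lift_fst]
  have hQ2 : toQ' ≫ pullback.snd g y' = pullback.snd _ _ := by
    simp only [toQ', Category.assoc, pullback.congrHom_hom, pullback.map, pullback.mapDesc, pullback.lift_snd,
      pullback.lift_snd_assoc, Category.comp_id]
    erw [pullback.lift_snd, pullback.lift_snd]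
  have hhm : h ≫ m = jX := by
    apply pullback.hom_ext
    · rw [Category.assoc, Category.assoc, pullback.lift_fst, reassoc_of% hQ1, pullback.lift_fst_assoc,
        pullback.lift_fst, Category.assoc, Scheme.Hom.toImage_imageι_assoc, pullback.lift_fst]
    · rw [Category.assoc, Category.assoc, pullback.lift_snd, hQ2, pullback.lift_snd, pullback.lift_snd]
  haveI : IsClosedImmersion (h ≫ m) := hhm ▸ inferInstance
  haveI : IsClosedImmersion h := IsClosedImmersion.of_comp h m
  have hsurj : Function.Surjective h := by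
    intro q
    have h4 : m q ∈ (prodZmap (𝟙 E.W₀) (Spec.map φ ≫ Emb.red F)) ⁻¹' closure (Set.range (E.toW F)) := by
      show M (m q) ∈ closure (Set.range (E.toW F))
      rw [← Scheme.Hom.comp_apply, Category.assoc, hmY.w, ← Category.assoc]
      exact E.image_apply_mem F (toQ' ≫ pullback.fst g y') q
    have h5 : m q ∈ Set.range jX := by
      have h6 := hfib h4
      rw [← Scheme.Pullback.range_snd] at h6
      obtain ⟨p, hp⟩ := h6
      exact ⟨hjX.isoPullback.inv p, by rw [← Scheme.Hom.comp_apply, hjX.isoPullback_inv_snd]; exact hp⟩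
    obtain ⟨p, hp⟩ := h5
    refine ⟨p, m.injective ?_⟩
    rw [← hp, ← hhm]
    exact (Scheme.Hom.comp_apply _ _ _).symm
  have hQ : ConnectedSpace ↥(pullback (E.Y F).toSpecΓ (y ≫ θ)) :=
    GeometricallyConnected.geometrically_connectedSpace (f := (E.Y F).toSpecΓ) _ _ _ (IsPullback.of_hasPullback _ _)
  have hhomeo : IsHomeomorph h :=
    (isHomeomorph_iff_isEmbedding_surjective).2 ⟨h.isEmbedding, hsurj⟩
  exact hhomeo.homeomorph.connectedSpace_iff.2 hQ

end Groth.Agent.Stein58
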