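import Groth.Agent.Stein58.SteinFactor
import Groth.Agent.Var76.FibBC
import Mathlib.AlgebraicGeometry.Morphisms.QuasiSeparated
import Mathlib.AlgebraicGeometry.Morphisms.UniversallyClosed

/-!
The first Stein factor pushes the structure sheaf to the structure sheaf.
-/

set_option autoImplicit false
set_option maxSynthPendingDepth 3

universe u

open CategoryTheory CategoryTheory.Limits AlgebraicGeometry TopologicalSpace

noncomputable section

namespace Groth.Agent.Stein58

/-- For universally closed quasi-separated morphisms the sections over preimages of affine opens agree. -/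
theorem isIso_toNormalization_app_preimage {X S : Scheme.{u}} (f : X ⟶ S) [UniversallyClosed f] [QuasiSeparated f]
    (U : S.affineOpens) : IsIso (f.toNormalization.app (f.fromNormalization ⁻¹ᵁ U.1)) := by
  letI := (f.app U.1).hom.toAlgebra
  have htop : integralClosure Γ(S, U.1) Γ(X, f ⁻¹ᵁ U.1) = ⊤ := by
    rw [integralClosure_eq_top_iff, ← algebraMap_isIntegral_iff, RingHom.algebraMap_toAlgebra]
    exact isIntegral_app f U
  rw [f.toNormalization_app_preimage U]
  have hv : IsIso (CommRingCat.ofHom (integralClosure Γ(S, U.1) Γ(X, f ⁻¹ᵁ U.1)).val.toRingHom) := by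
    rw [ConcreteCategory.isIso_iff_bijective]
    exact ⟨Subtype.val_injective, fun z => ⟨⟨z, htop.ge trivial⟩, rfl⟩⟩
  exact IsIso.comp_isIso' inferInstance (IsIso.comp_isIso' hv inferInstance)

/-- An isomorphism on sections over an affine open is one over its basic opens. -/
theorem isIso_app_basicOpen {X T : Scheme.{u}} (a : X ⟶ T) [QuasiCompact a] [QuasiSeparated a] {W : T.Opens}
    (hW : IsAffineOpen W) (h : IsIso (a.app W)) (g : Γ(T, W)) : IsIso (a.app (T.basicOpen g)) := by
  let e : Γ(T, W) ≃+* Γ(X, a ⁻¹ᵁ W) := RingEquiv.ofBijective (a.app W).hom (ConcreteCategory.bijective_of_isIso _)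
  haveI := hW.isLocalization_basicOpen g
  have hc : IsCompact (a ⁻¹ᵁ W).1 := a.isCompact_preimage hW.isCompact
  have hs : IsQuasiSeparated (a ⁻¹ᵁ W).1 := by
    haveI : QuasiSeparated (a ∣_ W) := MorphismProperty.of_isPullback (isPullback_morphismRestrict a W).flip ‹_›
    haveI : IsAffine (W : Scheme.{u}) := hW
    haveI : QuasiSeparatedSpace ↥((a ⁻¹ᵁ W : X.Opens) : Scheme.{u}) :=
      quasiSeparatedSpace_of_quasiSeparated (a ∣_ W)
    exact isQuasiSeparated_iff_quasiSeparatedSpace _ (a ⁻¹ᵁ W).2 |>.2 ‹_›
  haveI := isLocalization_basicOpen_of_qcqs hc hs (a.app W g)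
  have hM : (Submonoid.powers g).map e.toMonoidHom = Submonoid.powers (a.app W g) := by
    rw [Submonoid.map_powers]
    rfl
  let E := IsLocalization.ringEquivOfRingEquiv Γ(T, T.basicOpen g) Γ(X, X.basicOpen (a.app W g)) e hM
  have hpre : a ⁻¹ᵁ T.basicOpen g = X.basicOpen (a.app W g) := Scheme.preimage_basicOpen a g
  have key : a.app (T.basicOpen g) ≫ X.presheaf.map (eqToHom hpre.symm).op = CommRingCat.ofHom E.toRingHom := by
    refine CommRingCat.hom_ext (IsLocalization.ringHom_ext (Submonoid.powers g) (RingHom.ext fun r => ?_))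
    have hr : E (algebraMap Γ(T, W) Γ(T, T.basicOpen g) r) = algebraMap _ Γ(X, X.basicOpen (a.app W g)) (e r) :=
      IsLocalization.ringEquivOfRingEquiv_eq (S := Γ(T, T.basicOpen g)) (Q := Γ(X, X.basicOpen (a.app W g))) (M := Submonoid.powers g) (T := Submonoid.powers (a.app W g)) hM r
    refine Eq.trans ?_ hr.symm
    show X.presheaf.map _ (a.app (T.basicOpen g) (T.presheaf.map _ r)) = X.presheaf.map _ (a.app W r)
    rw [Var76.FibBC.app_res a (T.basicOpen_le g), Var76.FibBC.res_res]
    rfl
  haveI : IsIso (CommRingCat.ofHom E.toRingHom) := (ConcreteCategory.isIso_iff_bijective _).2 E.bijective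
  haveI : IsIso (a.app (T.basicOpen g) ≫ X.presheaf.map (eqToHom hpre.symm).op) := key ▸ inferInstance
  exact IsIso.of_isIso_comp_right _ (X.presheaf.map (eqToHom hpre.symm).op)

/-- `O_{S'} = f'_* O_X` for the Stein factorisation of a universally closed morphism. -/
theorem isIso_toNormalization_app {X S : Scheme.{u}} (f : X ⟶ S) [UniversallyClosed f] [QuasiSeparated f]
    (V : f.normalization.Opens) : IsIso (f.toNormalization.app V) := by
  haveI : QuasiCompact f.toNormalization := by
    haveI : QuasiCompact (f.toNormalization ≫ f.fromNormalization) := by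
      rw [Scheme.Hom.toNormalization_fromNormalization]; infer_instance
    exact QuasiCompact.of_comp f.toNormalization f.fromNormalization
  haveI : QuasiSeparated f.toNormalization := by
    haveI : QuasiSeparated (f.toNormalization ≫ f.fromNormalization) := by
      rw [Scheme.Hom.toNormalization_fromNormalization]; infer_instance
    exact QuasiSeparated.of_comp f.toNormalization f.fromNormalization
  let B : Set f.normalization.Opens :=
    {O | ∃ (U : S.affineOpens) (g : Γ(f.normalization, f.fromNormalization ⁻¹ᵁ U.1)), O = f.normalization.basicOpen g}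
  refine Var76.FibBC.isIso_app_of_isBasis f.toNormalization (S := B) ?_ ?_ V
  · refine Opens.isBasis_iff_nbhd.2 fun {O x} hx => ?_
    obtain ⟨_, ⟨U, hU, rfl⟩, hxU, -⟩ :=
      S.isBasis_affineOpens.exists_subset_of_mem_open (Set.mem_univ (f.fromNormalization x)) isOpen_univ
    obtain ⟨g, hg, hxg⟩ := (hU.preimage f.fromNormalization).exists_basicOpen_le (V := O) ⟨x, hx⟩ hxU
    exact ⟨_, ⟨⟨U, hU⟩, g, rfl⟩, hxg, hg⟩
  · rintro _ ⟨U, g, rfl⟩
    exact isIso_app_basicOpen _ (U.2.preimage f.fromNormalization) (isIso_toNormalization_app_preimage f U) g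

end Groth.Agent.Stein58
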