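import Groth.Agent.Stein58.SteinFactor
import Groth.Agent.RadPt58.Unibranch
import Groth.Agent.S4567
import Mathlib.FieldTheory.PurelyInseparable.Basic
import Mathlib.AlgebraicGeometry.FunctionField

/-!
Integral morphisms to geometrically unibranch schemes.
-/

set_option autoImplicit false

universe u

open CategoryTheory CategoryTheory.Limits AlgebraicGeometry TopologicalSpace

noncomputable section

namespace Groth.Agent.Stein58

/-- An integral extension of domains that is generically radicial over a geometrically unibranch base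
is radicial. -/
theorem ringHom_ext_of_unibranch {A C Ω : Type u} [CommRing A] [IsDomain A] [CommRing C] [IsDomain C]
    [Algebra A C] [Algebra.IsIntegral A C] (hinj : Function.Injective (algebraMap A C))
    (hgen : ∀ (E : Type u) [Field E] (f g : C →+* E), f.comp (algebraMap A C) = g.comp (algebraMap A C) →
      Function.Injective (f.comp (algebraMap A C)) → f = g)
    [Field Ω] [IsAlgClosed Ω]
    (hunib : ∀ a : A →+* Ω, Subsingleton (RadPt58.Pts A (FractionRing A) a))
    (g₁ g₂ : C →+* Ω) (h : g₁.comp (algebraMap A C) = g₂.comp (algebraMap A C)) : g₁ = g₂ := by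
  let K := FractionRing A
  let L := FractionRing C
  have hAL : Function.Injective (algebraMap A L) := by
    rw [IsScalarTower.algebraMap_eq A C L, RingHom.coe_comp]
    exact (IsFractionRing.injective C L).comp hinj
  haveI : FaithfulSMul A L := (faithfulSMul_iff_algebraMap_injective A L).2 hAL
  letI := FractionRing.liftAlgebra A L
  haveI := FractionRing.isScalarTower_liftAlgebra A L
  haveI : Algebra.IsIntegral K L := ⟨fun z => by
    obtain ⟨x, y, -, rfl⟩ := IsFractionRing.div_surjective C z
    rw [div_eq_mul_inv]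
    refine .mul ?_ (.inv ?_) <;> exact ((Algebra.IsIntegral.isIntegral (R := A) _).algebraMap (B := L)).tower_top⟩
  haveI : Nonempty (L →+* AlgebraicClosure L) := ⟨algebraMap L (AlgebraicClosure L)⟩
  haveI : IsPurelyInseparable K L := by
    refine IsPurelyInseparable.of_injective_comp_algebraMap K L (AlgebraicClosure L) fun f g hfg => ?_
    refine IsLocalization.ringHom_ext (nonZeroDivisors C) (hgen _ _ _ (RingHom.ext fun a => ?_) ?_)
    · have := RingHom.congr_fun hfg (algebraMap A K a)
      simp only [RingHom.comp_apply, ← IsScalarTower.algebraMap_apply] at this ⊢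
      exact this
    · rw [RingHom.coe_comp]
      exact (f.injective.comp (IsFractionRing.injective C L)).comp hinj
  obtain ⟨q, hq⟩ := ExpChar.exists K
  -- extend the points to the integral closure of `A` in `L`
  let C' := integralClosure A L
  let ι : C →ₐ[A] C' := (IsScalarTower.toAlgHom A C L).codRestrict C'
    fun c => (Algebra.IsIntegral.isIntegral (R := A) c).algebraMap
  letI : Algebra C C' := ι.toRingHom.toAlgebra
  haveI : IsScalarTower C C' L := .of_algebraMap_eq fun _ => rfl
  haveI : Algebra.IsIntegral C C' := ⟨fun x =>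
    (isIntegral_algHom_iff (IsScalarTower.toAlgHom C C' L) Subtype.val_injective).1
      (IsIntegral.tower_top (R := A) x.2)⟩
  have hext : ∀ g : C →+* Ω, ∃ d : C' →+* Ω, d.comp ι.toRingHom = g := by
    intro g
    haveI : (RingHom.ker g).IsPrime := RingHom.ker_isPrime g
    obtain ⟨Q, -, hQ, hQ'⟩ := Ideal.exists_ideal_over_prime_of_isIntegral (RingHom.ker g) (⊥ : Ideal C') (by
      intro c hc
      have : algebraMap C L c = 0 := congrArg Subtype.val (Ideal.mem_bot.1 (Ideal.mem_comap.1 hc))
      rw [(IsFractionRing.injective C L) (this.trans (map_zero (algebraMap C L)).symm)]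
      exact zero_mem _)
    obtain ⟨d, hd, -⟩ := RadPt58.exists_hom_over g Q hQ'
    exact ⟨d, hd⟩
  obtain ⟨d₁, hd₁⟩ := hext g₁
  obtain ⟨d₂, hd₂⟩ := hext g₂
  let j : integralClosure A K →ₐ[A] C' := (IsScalarTower.toAlgHom A K L).mapIntegralClosure
  let a : A →+* Ω := g₁.comp (algebraMap A C)
  have hp : ∀ (g : C →+* Ω) (d : C' →+* Ω), d.comp ι.toRingHom = g → g.comp (algebraMap A C) = a →
      (d.comp j.toRingHom).comp (algebraMap A (integralClosure A K)) = a := by
    intro g d hd hg
    rw [← hg, ← hd]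
    refine RingHom.ext fun r => ?_
    exact congrArg d ((j.commutes r).trans (ι.commutes r).symm)
  have hj : d₁.comp j.toRingHom = d₂.comp j.toRingHom :=
    congrArg Subtype.val (@Subsingleton.elim _ (hunib a)
      ⟨_, hp g₁ d₁ hd₁ rfl⟩ ⟨_, hp g₂ d₂ hd₂ h.symm⟩)
  refine RingHom.ext fun c => ?_
  obtain ⟨n, y, hy⟩ := IsPurelyInseparable.pow_mem K q (algebraMap C L c)
  have hyint : IsIntegral A y := (isIntegral_algHom_iff (IsScalarTower.toAlgHom A K L)
    (algebraMap K L).injective).1 (by
      rw [IsScalarTower.coe_toAlgHom', hy]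
      exact ((Algebra.IsIntegral.isIntegral (R := A) c).algebraMap).pow _)
  have hc : g₁ c ^ q ^ n = g₂ c ^ q ^ n := by
    have e : j ⟨y, hyint⟩ = ι c ^ q ^ n := Subtype.ext hy
    have := RingHom.congr_fun hj ⟨y, hyint⟩
    simp only [RingHom.comp_apply, AlgHom.toRingHom_eq_coe, RingHom.coe_coe, e, map_pow] at this
    rw [← hd₁, ← hd₂]
    exact this
  cases hq with
  | zero => simpa using hc
  | prime hprime =>
    have h0 : (q : Ω) = 0 := by
      have h1 : (q : A) = 0 := IsFractionRing.injective A K (by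
        rw [map_natCast, map_zero, CharP.cast_eq_zero])
      rw [← map_natCast a, h1, map_zero]
    haveI : Fact q.Prime := ⟨hprime⟩
    haveI : CharP Ω q := (CharP.charP_iff_prime_eq_zero hprime).2 h0
    haveI : ExpChar Ω q := ExpChar.prime hprime
    exact iterateFrobenius_inj Ω q n hc

/-- An integral dominant morphism of integral schemes, radicial over the generic point, is radicial
when the base is geometrically unibranch. -/
theorem universallyInjective_of_unibranch {W S : Scheme.{u}} (φ : W ⟶ S) [IsIntegralHom φ]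
    [IsIntegral W] [IsIntegral S] [IsDominant φ]
    (hS : ∀ s : S, CAlg2.IsGeomUnibranch (S.presheaf.stalk s))
    (hη : UniversallyInjective (pullback.snd φ (S.fromSpecResidueField (genericPoint S)))) :
    UniversallyInjective φ := by
  have hgen : ∀ (E : Type u) [Field E] (h : Spec (CommRingCat.of E) ⟶ S) (u v : Spec (CommRingCat.of E) ⟶ W),
      u ≫ φ = h → v ≫ φ = h → h (IsLocalRing.closedPoint E) = genericPoint S → u = v := by
    intro E _ h u v hu hv hpt
    obtain ⟨⟨x, ψ⟩, rfl⟩ := (Scheme.SpecToEquivOfField E S).symm.surjective h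
    have hx : x = genericPoint S := by
      have h2 := congrArg Sigma.fst ((Scheme.SpecToEquivOfField E S).apply_symm_apply ⟨x, ψ⟩)
      exact h2.symm.trans hpt
    subst hx
    let u' : Spec (CommRingCat.of E) ⟶ pullback φ (S.fromSpecResidueField (genericPoint S)) :=
      pullback.lift u (Spec.map ψ) hu
    let v' : Spec (CommRingCat.of E) ⟶ pullback φ (S.fromSpecResidueField (genericPoint S)) :=
      pullback.lift v (Spec.map ψ) hv
    have hi : ∀ (L : Type u) [Field L], Function.Injective
        (fun g : Spec (CommRingCat.of L) ⟶ pullback φ (S.fromSpecResidueField (genericPoint S)) =>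
          g ≫ pullback.snd φ (S.fromSpecResidueField (genericPoint S))) :=
      ((tfae_universallyInjective _).out 0 1).1 hη
    have he : u' = v' := hi E ((pullback.lift_snd _ _ _).trans (pullback.lift_snd _ _ _).symm)
    exact ((pullback.lift_fst _ _ _).symm.trans (congrArg (· ≫ pullback.fst _ _) he)).trans (pullback.lift_fst _ _ _)
  suffices h : ∀ (K : Type u) [Field K], Function.Injective (fun g : Spec (CommRingCat.of K) ⟶ W => g ≫ φ) from
    ((tfae_universallyInjective φ).out 0 1).2 h
  intro K _ g₁ g₂ hg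
  let pt : Spec (CommRingCat.of K) := IsLocalRing.closedPoint K
  obtain ⟨_, ⟨V, hV, rfl⟩, hy, -⟩ :=
    S.isBasis_affineOpens.exists_subset_of_mem_open (Set.mem_univ (φ (g₁ pt))) isOpen_univ
  have hU : IsAffineOpen (φ ⁻¹ᵁ V) := hV.preimage φ
  have hg₂ : φ (g₂ pt) ∈ V := by
    rw [← Scheme.Hom.comp_apply]
    exact (congrArg (fun g : Spec (CommRingCat.of K) ⟶ S => g pt) hg.symm) ▸ hy
  have hl : ∀ g : Spec (CommRingCat.of K) ⟶ W, φ (g pt) ∈ V →
      ∃ c : Γ(W, φ ⁻¹ᵁ V) →+* K, Spec.map (CommRingCat.ofHom c) ≫ hU.fromSpec = g := by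
    intro g hgy
    have hr : Set.range g ⊆ Set.range hU.fromSpec := by
      rintro _ ⟨z, rfl⟩
      rw [hU.range_fromSpec, RadPt58.apply_eq g z pt]
      exact hgy
    obtain ⟨c, hc⟩ := Spec.map_surjective (IsOpenImmersion.lift hU.fromSpec g hr)
    exact ⟨c.hom, by rw [CommRingCat.ofHom_hom, hc, IsOpenImmersion.lift_fac]⟩
  obtain ⟨c₁, rfl⟩ := hl g₁ hy
  obtain ⟨c₂, rfl⟩ := hl g₂ hg₂
  haveI : Nonempty V := ⟨⟨_, hy⟩⟩
  haveI : Nonempty ↥(φ ⁻¹ᵁ V) := ⟨⟨_, hy⟩⟩
  letI : Algebra Γ(S, V) Γ(W, φ ⁻¹ᵁ V) := (φ.app V).hom.toAlgebra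
  haveI : Algebra.IsIntegral Γ(S, V) Γ(W, φ ⁻¹ᵁ V) := algebraMap_isIntegral_iff.1 (φ.isIntegral_app V hV)
  haveI : IsSchemeTheoreticallyDominant φ := IsSchemeTheoreticallyDominant.of_isDominant φ
  haveI : IsDomain Γ(W, φ ⁻¹ᵁ V) := @IsIntegral.component_integral _ _ _ ⟨⟨_, hy⟩⟩
  have hinj : Function.Injective (algebraMap Γ(S, V) Γ(W, φ ⁻¹ᵁ V)) :=
    φ.app_injective V
  have hc : c₁.comp (algebraMap Γ(S, V) Γ(W, φ ⁻¹ᵁ V)) = c₂.comp (algebraMap Γ(S, V) Γ(W, φ ⁻¹ᵁ V)) := by
    simp only [Category.assoc, ← RadPt58.SpecMap_app_fromSpec φ hV hU, ← Spec.map_comp_assoc, cancel_mono] at hg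
    exact congrArg CommRingCat.Hom.hom (Spec.map_injective hg)
  let j := algebraMap K (AlgebraicClosure K)
  suffices j.comp c₁ = j.comp c₂ by
    rw [show c₁ = c₂ from RingHom.ext fun x => j.injective (RingHom.congr_fun this x)]
  refine ringHom_ext_of_unibranch hinj ?_ ?_ _ _ (by rw [RingHom.comp_assoc, hc, ← RingHom.comp_assoc])
  · intro E _ f g hfg hf
    have e : ∀ c : Γ(W, φ ⁻¹ᵁ V) →+* E, (Spec.map (CommRingCat.ofHom c) ≫ hU.fromSpec) ≫ φ =
        Spec.map (CommRingCat.ofHom (c.comp (algebraMap Γ(S, V) Γ(W, φ ⁻¹ᵁ V)))) ≫ hV.fromSpec := by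
      intro c
      rw [Category.assoc, ← RadPt58.SpecMap_app_fromSpec φ hV hU, ← Spec.map_comp_assoc]
      rfl
    have he := hgen E _ _ _ (e f) ((e g).trans (by rw [hfg])) ?_
    · rw [cancel_mono] at he
      exact congrArg CommRingCat.Hom.hom (Spec.map_injective he)
    · haveI : IsDomain Γ(S, V) := @IsIntegral.component_integral _ _ _ ⟨⟨_, hy⟩⟩
      rw [Scheme.Hom.comp_apply, ← genericPoint_eq_of_isOpenImmersion hV.fromSpec, genericPoint_eq_bot_of_affine]
      refine congrArg hV.fromSpec (PrimeSpectrum.ext ?_)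
      show Ideal.comap _ (IsLocalRing.maximalIdeal E) = _
      rw [IsLocalRing.maximalIdeal_eq_bot]
      exact (RingHom.injective_iff_ker_eq_bot _).1 hf
  · intro a
    haveI : (RingHom.ker a).IsPrime := RingHom.ker_isPrime a
    let P : PrimeSpectrum Γ(S, V) := ⟨RingHom.ker a, inferInstance⟩
    have hP : hV.fromSpec P ∈ V := by
      rw [← SetLike.mem_coe, ← hV.range_fromSpec]
      exact Set.mem_range_self _
    have h1 := (RadPt58.isGeomUnibranch_iff_br hV _ hP a
      (congrArg PrimeSpectrum.asIdeal (hV.fromSpec.isOpenEmbedding.injective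
        (hV.fromSpec_primeIdealOf ⟨_, hP⟩))).symm).1 (hS _)
    obtain ⟨e⟩ := S4567.nonempty_br_equiv a
    exact e.subsingleton_congr.1 h1

/-- Following a universal homeomorphism does not change geometric connectedness. -/
theorem geometricallyConnected_comp_univInjective {X W S : Scheme.{u}} (a : X ⟶ W) (b : W ⟶ S)
    [GeometricallyConnected a] [UniversallyInjective b] [Surjective b] : GeometricallyConnected (a ≫ b) := by
  refine ⟨geometrically_iff_of_isClosedUnderIsomorphisms.mpr fun K _ y => ?_⟩
  haveI : UniversallyInjective (pullback.snd b y) := MorphismProperty.pullback_snd _ _ inferInstance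
  haveI : Surjective (pullback.snd b y) := MorphismProperty.pullback_snd _ _ inferInstance
  haveI : Subsingleton ↥(pullback b y) :=
    ⟨fun p q => (pullback.snd b y).injective (Subsingleton.elim _ _)⟩
  haveI : Nonempty ↥(pullback b y) :=
    ⟨((pullback.snd b y).surjective (Classical.arbitrary _)).choose⟩
  rw [← (pullbackRightPullbackFstIso b y a).hom.homeomorph.connectedSpace_iff]
  exact GeometricallyConnected.connectedSpace_of_subsingleton (f := pullback.snd a (pullback.fst b y))

end Groth.Agent.Stein58
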