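import Groth.Agent.Stein58.Zariski
import Groth.Agent.Rig93.Fibre
import Groth.Agent.WC97.Reduced
import Groth.Agent.FlatMor68.Geom
import Mathlib.RingTheory.Valuation.LocalSubring
import Mathlib.AlgebraicGeometry.Morphisms.SchemeTheoreticallyDominant

/-!
Connectedness of the special fibres of proper flat morphisms from that of smooth generic fibres.
-/

set_option autoImplicit false

universe u

open CategoryTheory CategoryTheory.Limits AlgebraicGeometry

noncomputable section

namespace Groth.Agent.Stein58

/-- An integral algebra inside the base change to the fraction field of a valuation ring is trivial. -/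
theorem bijective_of_isIntegral {K : Type u} [Field K] (V : ValuationSubring K) {B B' : Type u}
    [CommRing B] [CommRing B'] (φ : V →+* B) (r : B →+* B') (ψ : K →+* B') (hψ : Function.Bijective ψ)
    (hr : Function.Injective r) (hφ : φ.IsIntegral) (h : r.comp φ = ψ.comp V.subtype) :
    Function.Bijective φ := by
  refine ⟨?_, fun b => ?_⟩
  · have h1 : Function.Injective (r.comp φ) := by rw [h]; exact hψ.1.comp Subtype.val_injective
    exact Function.Injective.of_comp (f := r) h1
  · obtain ⟨c, hc⟩ := hψ.2 (r b)
    obtain ⟨P, hP, hP0⟩ := hφ b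
    have hint : IsIntegral V c := ⟨P, hP, hψ.1 (by
      rw [map_zero, Polynomial.hom_eval₂, hc]
      change Polynomial.eval₂ (ψ.comp V.subtype) (r b) P = 0
      rw [← h, ← Polynomial.hom_eval₂, hP0, map_zero])⟩
    obtain ⟨v, hv⟩ := (IsIntegrallyClosed.isIntegral_iff (R := V) (K := K)).1 hint
    exact ⟨v, hr ((RingHom.congr_fun h v).trans ((congrArg ψ hv).trans hc))⟩

/-- A proper flat scheme over a valuation ring whose generic fibre has only constant functions has
geometrically connected fibres. -/
theorem geometricallyConnected_of_valuationSubring {K : Type u} [Field K] (V : ValuationSubring K) {P : Scheme.{u}}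
    (p : P ⟶ Spec (CommRingCat.of V)) [IsProper p] [Flat p]
    (h : Function.Bijective (pullback.snd p (Spec.map (CommRingCat.ofHom V.subtype))).appTop) :
    GeometricallyConnected p := by
  let ι := Spec.map (CommRingCat.ofHom V.subtype)
  haveI : IsDominant ι := by
    refine ⟨(PrimeSpectrum.denseRange_comap_iff_ker_le_nilRadical _).2 ?_⟩
    exact (((RingHom.injective_iff_ker_eq_bot V.subtype).1 Subtype.val_injective).le.trans bot_le :)
  haveI : IsSchemeTheoreticallyDominant ι := IsSchemeTheoreticallyDominant.of_isDominant ι
  haveI : QuasiCompact ι := inferInstance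
  let r := pullback.fst p ι
  let q := pullback.snd p ι
  haveI : IsSchemeTheoreticallyDominant r :=
    IsSchemeTheoreticallyDominant.of_isPullback (IsPullback.of_hasPullback p ι).flip
  haveI : QuasiCompact r := MorphismProperty.pullback_fst p ι inferInstance
  let φ : V →+* Γ(P, ⊤) := p.appTop.hom.comp (Scheme.ΓSpecIso (CommRingCat.of V)).inv.hom
  let ψ := Crv77.constMap q
  have hcomm : r.appTop.hom.comp φ = ψ.comp V.subtype := by
    have e : (Scheme.ΓSpecIso (CommRingCat.of V)).inv ≫ p.appTop ≫ r.appTop =
        CommRingCat.ofHom V.subtype ≫ (Scheme.ΓSpecIso (CommRingCat.of K)).inv ≫ q.appTop := by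
      rw [← Scheme.Hom.comp_appTop, show r ≫ p = q ≫ ι from pullback.condition, Scheme.Hom.comp_appTop,
        ← Category.assoc, ← Category.assoc, Scheme.ΓSpecIso_inv_naturality]
    exact congrArg CommRingCat.Hom.hom e
  have hψ : Function.Bijective ψ :=
    h.comp (ConcreteCategory.bijective_of_isIso (Scheme.ΓSpecIso (CommRingCat.of K)).inv)
  have hint : φ.IsIntegral := RingHom.IsIntegral.trans _ _ (RingHom.isIntegral_of_surjective _
    (ConcreteCategory.bijective_of_isIso (Scheme.ΓSpecIso (CommRingCat.of V)).inv).2)
    (isIntegral_appTop_of_universallyClosed p)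
  have hb := bijective_of_isIntegral V φ r.appTop.hom ψ hψ (r.app_injective ⊤) hint hcomm
  haveI : IsIso ((Scheme.ΓSpecIso (CommRingCat.of V)).inv ≫ p.appTop) :=
    (ConcreteCategory.isIso_iff_bijective _).2 hb
  haveI : IsIso p.appTop := IsIso.of_isIso_comp_left (Scheme.ΓSpecIso (CommRingCat.of V)).inv _
  exact geometricallyConnected_of_isIso_appTop' p

/-- Geometric connectedness of smooth fibres propagates to specialisations for proper flat morphisms. -/
theorem geometricallyConnected_fibre_of_specializes {X S : Scheme.{u}} (f : X ⟶ S) [IsProper f] [Flat f]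
    {η s : S} (hs : η ⤳ s) (hGC : GeometricallyConnected (f.fiberToSpecResidueField η))
    (hsm : Smooth (f.fiberToSpecResidueField η)) : GeometricallyConnected (f.fiberToSpecResidueField s) := by
  let a : S.presheaf.stalk s ⟶ S.residueField η := S.presheaf.stalkSpecializes hs ≫ S.residue η
  obtain ⟨V, hV, hloc⟩ := IsLocalRing.exists_factor_valuationRing a.hom
  let α : S.presheaf.stalk s ⟶ CommRingCat.of V := CommRingCat.ofHom (a.hom.codRestrict V.toSubring hV)
  haveI : IsLocalHom α.hom := hloc
  let j := Spec.map α ≫ S.fromSpecStalk s
  let ι := Spec.map (CommRingCat.ofHom V.subtype)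
  have hι : ι ≫ j = S.fromSpecResidueField η := by
    rw [← Category.assoc, ← Spec.map_comp, show α ≫ CommRingCat.ofHom V.subtype = a from rfl, Spec.map_comp,
      Category.assoc, Scheme.SpecMap_stalkSpecializes_fromSpecStalk]
    rfl
  let p := pullback.snd f j
  let q := pullback.snd p ι
  haveI : IsProper p := MorphismProperty.pullback_snd _ _ inferInstance
  haveI : Flat p := MorphismProperty.pullback_snd _ _ inferInstance
  have sq : IsPullback (pullback.fst p ι ≫ pullback.fst f j) q f (S.fromSpecResidueField η) := by
    rw [← hι]; exact (IsPullback.of_hasPullback p ι).paste_horiz (IsPullback.of_hasPullback f j)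
  have he : sq.isoPullback.hom ≫ f.fiberToSpecResidueField η = q := sq.isoPullback_hom_snd
  haveI : GeometricallyConnected q := by
    rw [← he, GeometricallyConnected.eq_geometrically]
    exact (MorphismProperty.cancel_left_of_respectsIso (geometrically (ConnectedSpace ·)) _ _).2
      hGC.geometrically_connectedSpace
  haveI : Smooth q := by
    rw [← he]
    exact MorphismProperty.comp_mem _ _ _ (inferInstanceAs (Smooth sq.isoPullback.hom)) hsm
  haveI : GeometricallyReduced q := ⟨geometrically_iff_of_isClosedUnderIsomorphisms.mpr fun L _ y =>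
    haveI : Smooth (pullback.snd q y) := MorphismProperty.pullback_snd _ _ inferInstance
    WC97.isReduced_of_smooth (pullback.snd q y)⟩
  haveI : IsProper q := MorphismProperty.pullback_snd _ _ inferInstance
  haveI := geometricallyConnected_of_valuationSubring V p (Rig93.bijective_appTop_of_geometrically q)
  let c : Spec (CommRingCat.of V) := IsLocalRing.closedPoint V
  have hc : j c = s := by
    rw [Scheme.Hom.comp_apply]
    exact (congrArg (S.fromSpecStalk s) (IsLocalRing.comap_closedPoint α.hom)).trans Scheme.fromSpecStalk_closedPoint
  rw [GeometricallyConnected.eq_geometrically, ← hc]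
  refine (FlatMor68.Geom.geometrically_iff_baseChange (ConnectedSpace ·)
    (fun h _ _ hA => haveI := hA; h.surjective.connectedSpace h.continuous)
    f j p (pullback.fst f j) (IsPullback.of_hasPullback f j) c).1 ?_
  exact GeometricallyConnected.geometrically_connectedSpace (f := p.fiberToSpecResidueField c)

end Groth.Agent.Stein58
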