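import Groth.Agent.Stein58.SteinFactor
import Mathlib.RingTheory.Spectrum.Prime.Topology
import Mathlib.Topology.NoetherianSpace

/-!
Connected components of the fibres through the Stein factorisation.
-/

set_option autoImplicit false

universe u

open CategoryTheory CategoryTheory.Limits AlgebraicGeometry TopologicalSpace

noncomputable section

namespace Groth.Agent.Stein58

theorem t1Space_of_isIntegralHom_field {K : Type u} [Field K] {P : Scheme.{u}} (p : P ⟶ Spec (CommRingCat.of K))
    [IsIntegralHom p] : T1Space P := by
  haveI : IsAffine P := isAffine_of_isAffineHom p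
  let φ := Spec.preimage (P.isoSpec.inv ≫ p)
  have h : φ.hom.IsIntegral := IsIntegralHom.SpecMap_iff.1 (by rw [Spec.map_preimage]; infer_instance)
  haveI : T1Space ↥(Spec Γ(P, ⊤)) := ⟨fun x => by
    refine (PrimeSpectrum.isClosed_singleton_iff_isMaximal x).2 ?_
    letI := φ.hom.toAlgebra
    haveI : Algebra.IsIntegral K Γ(P, ⊤) := algebraMap_isIntegral_iff.1 h
    refine Ideal.isMaximal_of_isIntegral_of_isMaximal_comap (R := K) _ ?_
    rw [(Ideal.eq_bot_or_top (Ideal.comap (algebraMap K Γ(P, ⊤)) x.asIdeal)).resolve_right
      (Ideal.comap_isPrime _ _).ne_top]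
    exact Ideal.bot_isMaximal⟩
  exact P.isoSpec.hom.homeomorph.symm.t1Space

theorem finite_of_t1Space {P : Type u} [TopologicalSpace P] [NoetherianSpace P] [QuasiSober P] [T1Space P] :
    Finite P := by
  haveI : Finite (irreducibleComponents P) := NoetherianSpace.finite_irreducibleComponents.to_subtype
  refine Finite.of_injective
    (fun x : P => (⟨irreducibleComponent x, irreducibleComponent_mem_irreducibleComponents x⟩ : irreducibleComponents P))
    fun x y h => ?_
  have hg := (isIrreducible_irreducibleComponent (x := x)).isGenericPoint_genericPoint_closure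
  rw [isClosed_irreducibleComponent.closure_eq, IsGenericPoint, closure_singleton] at hg
  have hx : x ∈ irreducibleComponent x := mem_irreducibleComponent
  have hy : y ∈ irreducibleComponent x := by
    rw [show irreducibleComponent x = irreducibleComponent y from congrArg Subtype.val h]
    exact mem_irreducibleComponent
  rw [← hg] at hx hy
  exact hx.trans hy.symm

/-- The fibres of the Stein factor are the connected components of the fibres. -/
theorem stein_fibre {X Y : Scheme.{u}} (f : X ⟶ Y) [IsProper f] (y : Y) (r : f.fiber y ⟶ f.fromNormalization.fiber y)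
    (hr : r = pullback.map f (Y.fromSpecResidueField y) f.fromNormalization (Y.fromSpecResidueField y)
      f.toNormalization (𝟙 _) (𝟙 _) (by simp) (by simp)) :
    Finite ↥(f.fromNormalization.fiber y) ∧ Function.Surjective r ∧
      ∀ x x' : ↥(f.fiber y), r x = r x' ↔ connectedComponent x = connectedComponent x' := by
  subst hr
  let r : f.fiber y ⟶ f.fromNormalization.fiber y := pullback.map f (Y.fromSpecResidueField y) f.fromNormalization (Y.fromSpecResidueField y)
      f.toNormalization (𝟙 _) (𝟙 _) (by simp) (by simp)
  have hr : IsPullback r (pullback.fst f _) (pullback.fst f.fromNormalization _) f.toNormalization :=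
    isPullback_map_fst _ _ f.toNormalization_fromNormalization
  haveI := geometricallyConnected_toNormalization f
  haveI hgc : GeometricallyConnected r := MorphismProperty.of_isPullback hr.flip ‹GeometricallyConnected f.toNormalization›
  have hsurj : Function.Surjective r := r.surjective
  haveI : IsProper (f.fiberToSpecResidueField y) := MorphismProperty.pullback_snd _ _ inferInstance
  haveI : IsLocallyNoetherian (f.fiber y) := LocallyOfFiniteType.isLocallyNoetherian (f.fiberToSpecResidueField y)
  haveI : CompactSpace ↥(f.fiber y) := QuasiCompact.compactSpace_of_compactSpace (f.fiberToSpecResidueField y)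
  haveI : IsNoetherian (f.fiber y) := { }
  let q : f.fromNormalization.fiber y ⟶ Spec (CommRingCat.of (Y.residueField y)) :=
    f.fromNormalization.fiberToSpecResidueField y
  haveI hq : IsIntegralHom q := MorphismProperty.pullback_snd _ _ inferInstance
  haveI : T1Space ↥(f.fromNormalization.fiber y) :=
    @t1Space_of_isIntegralHom_field (Y.residueField y) _ _ q hq
  haveI : NoetherianSpace ↥(f.fromNormalization.fiber y) :=
    @noetherianSpace_of_surjective _ _ _ _ (inferInstanceAs (NoetherianSpace ↥(f.fiber y))) r r.continuous hsurj
  haveI hfin : Finite ↥(f.fromNormalization.fiber y) := finite_of_t1Space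
  refine ⟨hfin, hsurj, fun x x' => ⟨fun h => ?_, fun h => ?_⟩⟩
  · have hc := (r.isConnected_preimage_singleton (r x)).isPreconnected.subset_connectedComponent (x := x) rfl
    exact connectedComponent_eq (hc (show r x' = r x from h.symm))
  · have hi := r.continuous.image_connectedComponent_subset x
    have hx' : x' ∈ connectedComponent x := h ▸ mem_connectedComponent
    have hmem := hi (Set.mem_image_of_mem r hx')
    rw [connectedComponent_eq_singleton (r x)] at hmem
    exact (Set.mem_singleton_iff.1 hmem).symm

end Groth.Agent.Stein58
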