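import Groth.Agent.Stein58.Connectedness
import Groth.Agent.Stein58.Components
import Groth.Agent.AdicC27.Approx
import Mathlib.RingTheory.Henselian
import Mathlib.RingTheory.Idempotents

/-!
Connected components of proper schemes over adically complete Noetherian rings.
-/

set_option autoImplicit false
set_option maxSynthPendingDepth 6

universe u

open CategoryTheory CategoryTheory.Limits AlgebraicGeometry TopologicalSpace Polynomial

noncomputable section

namespace Groth.Agent.Stein58

/-- Idempotents lift along Henselian pairs. -/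
theorem exists_idempotent_lift {B : Type u} [CommRing B] (J : Ideal B) [HenselianRing B J] (s : B)
    (h : s * s - s ∈ J.radical) : ∃ e, IsIdempotentElem e ∧ e - s ∈ J.radical := by
  let r : B ⧸ J →+* B ⧸ J.radical := Ideal.Quotient.factor J.le_radical
  have hker : ∀ x ∈ RingHom.ker r, IsNilpotent x := by
    intro x hx
    obtain ⟨b, rfl⟩ := Ideal.Quotient.mk_surjective x
    obtain ⟨n, hn⟩ := Ideal.Quotient.eq_zero_iff_mem.1 hx
    exact ⟨n, by rw [← map_pow, Ideal.Quotient.eq_zero_iff_mem]; exact hn⟩
  obtain ⟨x, hx, hxs⟩ := exists_isIdempotentElem_eq_of_ker_isNilpotent r hker (Ideal.Quotient.mk _ s)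
    ⟨Ideal.Quotient.mk J s, rfl⟩ (by rw [IsIdempotentElem, ← map_mul, Ideal.Quotient.mk_eq_mk_iff_sub_mem]; exact h)
  obtain ⟨e₀, rfl⟩ := Ideal.Quotient.mk_surjective x
  let p : B[X] := X ^ 2 - X
  have hp : p.Monic := monic_X_pow_sub (degree_X_le.trans_lt (by norm_num))
  have hev : p.eval e₀ ∈ J := by
    rw [← Ideal.Quotient.eq_zero_iff_mem]
    simp [p, pow_two, hx.eq]
  have hu : IsUnit (Ideal.Quotient.mk J (p.derivative.eval e₀)) := by
    have hq := hx.eq
    refine IsUnit.of_mul_eq_one _ (show _ * (2 * Ideal.Quotient.mk J e₀ - 1) = 1 from ?_)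
    simp only [p, derivative_sub, derivative_X_pow, derivative_X, eval_sub, eval_mul, eval_C, eval_pow, eval_X,
      eval_one, map_sub, map_mul, map_one]
    norm_num
    rw [show (Ideal.Quotient.mk J) 2 = 2 from map_ofNat _ 2]
    linear_combination (4 : B ⧸ J) * hq
  obtain ⟨e, he, hee⟩ := HenselianRing.is_henselian p hp e₀ hev hu
  refine ⟨e, ?_, ?_⟩
  · have h0 : e ^ 2 - e = 0 := by simpa [p] using he
    rw [IsIdempotentElem]
    linear_combination h0
  · have h1 : e₀ - s ∈ J.radical := by
      rw [← Ideal.Quotient.mk_eq_mk_iff_sub_mem]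
      exact hxs
    simpa using add_mem (J.le_radical hee) h1

/-- Finite algebras over adically complete Noetherian rings are complete. -/
theorem isAdicComplete_map {A : Type u} [CommRing A] [IsNoetherianRing A] (I : Ideal A) [IsAdicComplete I A]
    (C : Type u) [CommRing C] [Algebra A C] [Module.Finite A C] :
    IsAdicComplete (I.map (algebraMap A C)) C := by
  have h := AdicC27.isAdicComplete_of_finite (I := I) C
  have key : ∀ (n : ℕ) (x : C), x ∈ ((I.map (algebraMap A C)) ^ n • ⊤ : Submodule C C) ↔
      x ∈ (I ^ n • ⊤ : Submodule A C) := fun n x => by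
    rw [smul_eq_mul, Ideal.mul_top, ← Ideal.map_pow, Ideal.smul_top_eq_map, Submodule.restrictScalars_mem]
  refine { haus' := fun x hx => h.haus' x fun n => ?_, prec' := fun f hf => ?_ }
  · simpa only [SModEq.sub_mem, key] using hx n
  · obtain ⟨L, hL⟩ := h.prec' f (fun {m n} hmn => by simpa only [SModEq.sub_mem, key] using hf hmn)
    exact ⟨L, fun n => by simpa only [SModEq.sub_mem, key] using hL n⟩

/-- The connected components of a proper scheme over a complete Noetherian ring are those of its reduction. -/
theorem bijective_connectedComponentsMap {A : Type u} [CommRing A] [IsNoetherianRing A] (I : Ideal A)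
    [IsAdicComplete I A] {X : Scheme.{u}} (f : X ⟶ Spec (CommRingCat.of A)) [IsProper f] :
    Function.Bijective (Continuous.connectedComponentsMap
      (pullback.fst f (Spec.map (CommRingCat.ofHom (Ideal.Quotient.mk I)))).continuous) := by
  let g₀ := Spec.map (CommRingCat.ofHom (Ideal.Quotient.mk I))
  haveI : IsClosedImmersion g₀ := IsClosedImmersion.spec_of_surjective _ Ideal.Quotient.mk_surjective
  let i := pullback.fst f g₀
  haveI : IsClosedImmersion i := MorphismProperty.pullback_fst _ _ inferInstance
  letI : X.Over (Spec (CommRingCat.of A)) := ⟨f⟩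
  haveI : IsProper (X ↘ Spec (CommRingCat.of A)) := ‹IsProper f›
  let φ : A →+* Γ(X, ⊤) := f.appTop.hom.comp (Scheme.ΓSpecIso (CommRingCat.of A)).inv.hom
  have hrA : ∀ a, FF71.rA A X ⊤ a = φ a := fun a => by
    show X.presheaf.map _ (φ a) = φ a
    rw [show (homOfLE (le_top : (⊤ : X.Opens) ≤ ⊤)).op = 𝟙 _ from rfl, X.presheaf.map_id]
    rfl
  have hI : ∀ x : X, x ∈ overI I ↔ I ≤ (f x).asIdeal := by
    intro x
    refine ⟨fun h a ha => ?_, fun h a ha hx => ?_⟩
    · have := h a ha
      rw [hrA] at this
      by_contra hne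
      exact this ((mem_basicOpen_globalA f x a).2 hne)
    · rw [hrA] at hx
      exact (mem_basicOpen_globalA f x a).1 hx (h ha)
  have hrange : Set.range i = overI I := by
    rw [Scheme.Pullback.range_fst]
    ext x
    have hr : Set.range g₀ = PrimeSpectrum.zeroLocus (RingHom.ker (Ideal.Quotient.mk I) : Set A) :=
      range_comap_of_surjective (A ⧸ I) (Ideal.Quotient.mk I) Ideal.Quotient.mk_surjective
    rw [Set.mem_preimage, hr, hI, Ideal.mk_ker]
    rfl
  constructor
  · intro z z' hz
    obtain ⟨p, rfl⟩ := ConnectedComponents.surjective_coe z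
    obtain ⟨p', rfl⟩ := ConnectedComponents.surjective_coe z'
    by_contra hne
    rw [ConnectedComponents.coe_eq_coe'] at hne
    haveI : IsLocallyNoetherian X := LocallyOfFiniteType.isLocallyNoetherian f
    haveI : CompactSpace X := QuasiCompact.compactSpace_of_compactSpace f
    haveI : IsNoetherian X := { }
    haveI : NoetherianSpace ↥(pullback f g₀) := i.isEmbedding.isInducing.noetherianSpace
    haveI := finite_connectedComponents ↥(pullback f g₀)
    have hC : IsOpen (connectedComponent p' : Set ↥(pullback f g₀)) := by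
      rw [← connectedComponents_preimage_singleton]
      exact (isOpen_discrete _).preimage ConnectedComponents.continuous_coe
    let P := i '' connectedComponent p'
    let Q := i '' (connectedComponent p')ᶜ
    have hP : IsClosed P := i.isClosedEmbedding.isClosedMap _ isClosed_connectedComponent
    have hQ : IsClosed Q := i.isClosedEmbedding.isClosedMap _ hC.isClosed_compl
    have hPQ : Disjoint P Q := Set.disjoint_image_of_injective i.isEmbedding.injective disjoint_compl_right
    have hun : P ∪ Q = overI I := by
      rw [← Set.image_union, Set.union_compl_self, Set.image_univ, hrange]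
    obtain ⟨s, hs⟩ := exists_separates I hP hQ hPQ hun
    letI := φ.toAlgebra
    haveI hint : Algebra.IsIntegral A Γ(X, ⊤) := algebraMap_isIntegral_iff.1
      (RingHom.IsIntegral.trans _ _ (RingHom.isIntegral_of_surjective _
        (ConcreteCategory.bijective_of_isIso (Scheme.ΓSpecIso (CommRingCat.of A)).inv).2)
        (isIntegral_appTop_of_universallyClosed f))
    let B := Algebra.adjoin A {s}
    haveI : Module.Finite A B := Module.Finite.iff_fg.2 (Algebra.IsIntegral.isIntegral (R := A) s).fg_adjoin_singleton
    haveI := isAdicComplete_map I B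
    let g : X ⟶ Spec (CommRingCat.of B) := X.toSpecΓ ≫ Spec.map (CommRingCat.ofHom B.val.toRingHom)
    have hg : g ≫ Spec.map (CommRingCat.ofHom (algebraMap A B)) = f := by
      rw [Category.assoc, ← Spec.map_comp,
        show CommRingCat.ofHom (algebraMap A B) ≫ CommRingCat.ofHom B.val.toRingHom =
          (Scheme.ΓSpecIso (CommRingCat.of A)).inv ≫ f.appTop from rfl,
        Spec.map_comp, ← Category.assoc, ← Scheme.toSpecΓ_naturality, Category.assoc,
        toSpecΓ_SpecMap_ΓSpecIso_inv, Category.comp_id]
    haveI : IsProper (g ≫ Spec.map (CommRingCat.ofHom (algebraMap A B))) := by rw [hg]; infer_instance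
    haveI : IsProper g := IsProper.of_comp g (Spec.map (CommRingCat.ofHom (algebraMap A B)))
    haveI : CompactSpace X := inferInstance
    haveI : IsDominant g := by
      haveI : IsDominant (Spec.map (CommRingCat.ofHom B.val.toRingHom)) :=
        ⟨(PrimeSpectrum.denseRange_comap_iff_ker_le_nilRadical _).2 (by
          exact (((RingHom.injective_iff_ker_eq_bot B.val.toRingHom).1 Subtype.val_injective).le.trans bot_le :))⟩
      infer_instance
    have hbas : ∀ (b : B) (x : X), x ∈ X.basicOpen (b : Γ(X, ⊤)) ↔ b ∉ (g x).asIdeal := by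
      intro b x
      rw [← X.toSpecΓ_preimage_basicOpen]
      rfl
    have hgI : ∀ x : X, (I.map (algebraMap A B) ≤ (g x).asIdeal) ↔ x ∈ overI I := by
      intro x
      rw [hI, Ideal.map_le_iff_le_comap]
      conv_rhs => rw [← hg]
      rfl
    let t : B := ⟨s, Algebra.subset_adjoin (Set.mem_singleton s)⟩
    have hsep : ∀ x : X, (x ∈ P → 1 - t ∈ (g x).asIdeal) ∧ (x ∈ Q → t ∈ (g x).asIdeal) := fun x =>
      ⟨fun hx => by_contra fun h => (hs x trivial).1 hx ((hbas (1 - t) x).2 h),
        fun hx => by_contra fun h => (hs x trivial).2 hx ((hbas t x).2 h)⟩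
    have hrad : t * t - t ∈ (I.map (algebraMap A B)).radical := by
      rw [Ideal.radical_eq_sInf, Submodule.mem_sInf]
      intro q hq
      haveI := hq.2
      have hsurj : Function.Surjective g := by
        have h := g.denseRange.closure_range
        rw [g.isClosedMap.isClosed_range.closure_eq] at h
        exact fun y => h.ge (Set.mem_univ y)
      obtain ⟨x, hx⟩ := hsurj (⟨q, hq.2⟩ : PrimeSpectrum B)
      have hxI : x ∈ overI I := (hgI x).1 (by rw [hx]; exact hq.1)
      rw [← hun] at hxI
      have hmem : t * t - t ∈ (g x).asIdeal := by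
        rcases hxI with h | h
        · rw [show t * t - t = -t * (1 - t) by ring]
          exact Ideal.mul_mem_left _ _ ((hsep x).1 h)
        · rw [show t * t - t = (t - 1) * t by ring]
          exact Ideal.mul_mem_left _ _ ((hsep x).2 h)
      rwa [hx] at hmem
    obtain ⟨e, he, het⟩ := exists_idempotent_lift _ t hrad
    have hle : ∀ x : X, x ∈ overI I → e - t ∈ (g x).asIdeal := fun x hx =>
      (Ideal.IsPrime.radical_le_iff (g x).isPrime).2 ((hgI x).2 hx) het
    have hclopen : IsClopen (g ⁻¹' (PrimeSpectrum.basicOpen e : Set (PrimeSpectrum B))) :=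
      (PrimeSpectrum.isClopen_iff.2 ⟨e, he, rfl⟩).preimage g.continuous
    have hp' : i p' ∈ g ⁻¹' (PrimeSpectrum.basicOpen e : Set (PrimeSpectrum B)) := by
      intro hmem
      have hP' : i p' ∈ P := ⟨p', mem_connectedComponent, rfl⟩
      have h1 := add_mem (sub_mem (show e ∈ (g (i p')).asIdeal from hmem) (hle _ (hun.le (Or.inl hP'))))
        ((hsep _).1 hP')
      rw [show e - (e - t) + (1 - t) = 1 by ring] at h1
      exact (g (i p')).isPrime.ne_top ((Ideal.eq_top_iff_one _).2 h1)
    have hp : i p ∉ g ⁻¹' (PrimeSpectrum.basicOpen e : Set (PrimeSpectrum B)) := by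
      intro hmem
      have hQ' : i p ∈ Q := ⟨p, hne, rfl⟩
      refine hmem ?_
      have h1 := add_mem (hle _ (hun.le (Or.inr hQ'))) ((hsep _).2 hQ')
      rwa [sub_add_cancel] at h1
    rw [Continuous.connectedComponentsMap_mk, Continuous.connectedComponentsMap_mk,
      ConnectedComponents.coe_eq_coe'] at hz
    exact hp (hclopen.connectedComponent_subset hp' hz)
  · intro z
    obtain ⟨x, rfl⟩ := ConnectedComponents.surjective_coe z
    have hcl : IsClosed (f '' connectedComponent x) := f.isClosedMap _ isClosed_connectedComponent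
    obtain ⟨m, hm, hle⟩ := Ideal.exists_le_maximal (f x).asIdeal (f x).isPrime.ne_top
    let y : PrimeSpectrum A := ⟨m, hm.isPrime⟩
    have hsp : (f x : PrimeSpectrum A) ⤳ y := (PrimeSpectrum.le_iff_specializes _ _).1 hle
    obtain ⟨x', hx', hfx'⟩ := hsp.mem_closed hcl ⟨x, mem_connectedComponent, rfl⟩
    have hIm : I ≤ m := (IsAdicComplete.le_jacobson_bot I).trans (sInf_le ⟨bot_le, hm⟩)
    obtain ⟨p, hp⟩ := hrange.ge ((hI x').2 (by rw [hfx']; exact hIm))
    refine ⟨ConnectedComponents.mk p, ?_⟩
    rw [Continuous.connectedComponentsMap_mk, ConnectedComponents.coe_eq_coe']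
    exact hp.symm ▸ hx'

end Groth.Agent.Stein58
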