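import Groth.Agent.Stein58.Components
import Groth.Agent.RadPt58.Unibranch
import Groth.Prelude.Def_ega3
import Mathlib.AlgebraicGeometry.FunctionField
import Mathlib.RingTheory.Valuation.LocalSubring
import Mathlib.SetTheory.Cardinal.Basic

/-!
Connected components of fibres and the integral closure of the local ring in the function field.
-/

set_option autoImplicit false
set_option maxSynthPendingDepth 4

universe u

open CategoryTheory CategoryTheory.Limits AlgebraicGeometry TopologicalSpace

noncomputable section

namespace Groth.Agent.Stein58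

/-- Sections followed by a germ only depend on the morphism. -/
theorem app_germ_of_eq {X Y : Scheme.{u}} {g g' : X ⟶ Y} (e : g = g') (U : Y.Opens) (x : X) (hx : x ∈ g ⁻¹ᵁ U)
    (hx' : x ∈ g' ⁻¹ᵁ U) : g.app U ≫ X.presheaf.germ (g ⁻¹ᵁ U) x hx = g'.app U ≫ X.presheaf.germ (g' ⁻¹ᵁ U) x hx' := by
  subst e; rfl

/-- A prime of an integral extension extends to the integral closure of the localisation in an overfield. -/
theorem exists_prime_over {A S B L : Type u} [CommRing A] [CommRing S] [Algebra A S] [CommRing B] [Field L]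
    [Algebra S L] (p : Ideal A) [p.IsPrime] [IsLocalization.AtPrime S p] (α : A →+* B) (ι : B →+* L)
    (hι : Function.Injective ι) (hcomp : ι.comp α = (algebraMap S L).comp (algebraMap A S))
    (Q : Ideal B) [Q.IsPrime] (hQ : Q.comap α = p) (j : B →+* integralClosure S L) (hj : ∀ b, (j b : L) = ι b) :
    ∃ M : Ideal (integralClosure S L), M.IsPrime ∧ M.comap j = Q ∧
      (M.comap (algebraMap S (integralClosure S L))).comap (algebraMap A S) = p := by
  have hu : ∀ t : Q.primeCompl, IsUnit (ι t) := fun t => IsUnit.mk0 _ fun h => by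
    have ht := t.2
    rw [show (t : B) = 0 from hι (h.trans (map_zero ι).symm)] at ht
    exact ht Q.zero_mem
  let ιQ : Localization.AtPrime Q →+* L := IsLocalization.lift hu
  obtain ⟨V, hV, hloc⟩ := IsLocalRing.exists_factor_valuationRing ιQ
  haveI := hloc
  let ρ : Localization.AtPrime Q →+* V := ιQ.codRestrict V.toSubring hV
  have hρ : ∀ b : B, (ρ (algebraMap B _ b) : L) = ι b := fun b => IsLocalization.lift_eq hu b
  have hunit : ∀ t ∈ Q.primeCompl, IsUnit (ρ (algebraMap B _ t)) := fun t ht =>
    (IsLocalization.map_units (Localization.AtPrime Q) (⟨t, ht⟩ : Q.primeCompl)).map ρ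
  have hS : ∀ s : S, algebraMap S L s ∈ V := by
    intro s
    obtain ⟨⟨r, t, ht⟩, hz⟩ := IsLocalization.surj p.primeCompl s
    have htQ : α t ∈ Q.primeCompl := fun h => ht (hQ.le h)
    obtain ⟨w, hw⟩ := (hunit _ htQ).exists_right_inv
    have h1 : algebraMap S L s * ι (α t) = ι (α r) := by
      rw [show ι (α t) = algebraMap S L (algebraMap A S t) from RingHom.congr_fun hcomp t,
        show ι (α r) = algebraMap S L (algebraMap A S r) from RingHom.congr_fun hcomp r, ← map_mul]
      exact congrArg _ hz
    have h2 : ι (α t) * (w : L) = 1 := by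
      rw [← hρ]; exact congrArg Subtype.val hw
    have h3 : algebraMap S L s = ι (α r) * (w : L) := by
      rw [← h1, mul_assoc, h2, mul_one]
    rw [h3, ← hρ]
    exact mul_mem (ρ _).2 w.2
  have hle : ∀ x ∈ integralClosure S L, x ∈ V := by
    intro x hx
    letI : Algebra S V := ((algebraMap S L).codRestrict V.toSubring hS).toAlgebra
    haveI : IsScalarTower S V L := .of_algebraMap_eq fun _ => rfl
    have hx' : IsIntegral V x := IsIntegral.tower_top (R := S) hx
    obtain ⟨v, hv⟩ := (IsIntegrallyClosed.isIntegral_iff (R := V) (K := L)).1 hx'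
    exact hv ▸ v.2
  let inc : integralClosure S L →+* V := (integralClosure S L).val.toRingHom.codRestrict V.toSubring fun x => hle x.1 x.2
  have hincj : inc.comp j = ρ.comp (algebraMap B _) :=
    RingHom.ext fun b => Subtype.ext ((hj b).trans (hρ b).symm)
  refine ⟨(IsLocalRing.maximalIdeal V).comap inc, Ideal.comap_isPrime _ _, ?_, ?_⟩
  · rw [Ideal.comap_comap, hincj, ← Ideal.comap_comap, IsLocalRing.maximalIdeal_comap]
    exact IsLocalization.AtPrime.comap_maximalIdeal _ Q
  · have e : (inc.comp ((algebraMap S (integralClosure S L)).comp (algebraMap A S))) =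
        (ρ.comp (algebraMap B _)).comp α :=
      RingHom.ext fun a => Subtype.ext (((RingHom.congr_fun hcomp a).symm).trans (hρ (α a)).symm)
    rw [Ideal.comap_comap, Ideal.comap_comap, e, ← Ideal.comap_comap, ← Ideal.comap_comap, IsLocalRing.maximalIdeal_comap]
    rw [show (IsLocalRing.maximalIdeal (Localization.AtPrime Q)).comap (algebraMap B _) = Q from
      IsLocalization.AtPrime.comap_maximalIdeal _ Q, hQ]

/-- The points of the Stein factor over `y` are images of maximal ideals of the integral closure of the local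
ring in the function field. -/
theorem exists_surjective_maximalSpectrum {X Y : Scheme.{u}} [IsIntegral X] (f : X ⟶ Y) [IsProper f] (y : Y)
    (h : f.base (genericPoint X) ⤳ y) :
    ∃ Ψ : MaximalSpectrum (CohIII.integralClosureStalk f y h) → ↥(f.fromNormalization ⁻¹' {y}),
      Function.Surjective Ψ := by
  obtain ⟨_, ⟨U, hU, rfl⟩, hy, -⟩ :=
    Y.isBasis_affineOpens.exists_subset_of_mem_open (Set.mem_univ y) isOpen_univ
  let φ := f.fromNormalization
  let W := φ ⁻¹ᵁ U
  have hW : IsAffineOpen W := hU.preimage φ
  let σ := CohIII.stalkToFunctionField f y h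
  letI : Algebra (Y.presheaf.stalk y) X.functionField := σ.toAlgebra
  letI := Y.presheaf.algebra_section_stalk ⟨y, hy⟩
  haveI := hU.isLocalization_stalk ⟨y, hy⟩
  let p := (hU.primeIdealOf ⟨y, hy⟩).asIdeal
  have hgen : f (genericPoint X) ∈ U := h.mem_open U.2 hy
  let V : X.Opens := f.toNormalization ⁻¹ᵁ W
  have hVeq : V = f ⁻¹ᵁ U := by
    rw [← f.toNormalization_fromNormalization]; rfl
  have hgV : genericPoint X ∈ V := by rw [hVeq]; exact hgen
  let ι : Γ(f.normalization, W) →+* X.functionField :=
    (f.toNormalization.app W ≫ X.presheaf.germ V (genericPoint X) hgV).hom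
  have hcomp : ι.comp (φ.app U).hom =
      (algebraMap (Y.presheaf.stalk y) X.functionField).comp (algebraMap Γ(Y, U) (Y.presheaf.stalk y)) := by
    have e1 : φ.app U ≫ f.toNormalization.app W ≫ X.presheaf.germ V (genericPoint X) hgV =
        Y.presheaf.germ U y hy ≫ Y.presheaf.stalkSpecializes h ≫ f.stalkMap (genericPoint X) := by
      rw [TopCat.Presheaf.germ_stalkSpecializes_assoc]
      have e2 : Y.presheaf.germ U (f (genericPoint X)) hgen ≫ f.stalkMap (genericPoint X) =
          f.app U ≫ X.presheaf.germ (f ⁻¹ᵁ U) (genericPoint X) hgen := Scheme.Hom.germ_stalkMap ..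
      rw [e2]
      exact app_germ_of_eq f.toNormalization_fromNormalization U (genericPoint X) hgV hgen
    exact congrArg CommRingCat.Hom.hom e1
  have hι : Function.Injective ι := by
    haveI : Nonempty V := ⟨⟨_, hgV⟩⟩
    refine (X.germToFunctionField_injective V).comp ?_
    show Function.Injective (f.toNormalization.app W)
    rw [f.toNormalization_app_preimage ⟨U, hU⟩]
    simp only [CommRingCat.hom_comp, RingHom.coe_comp]
    refine Function.Injective.comp (Function.Injective.comp ?_ ?_) ?_
    all_goals first
      | exact Subtype.val_injective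
      | exact (ConcreteCategory.bijective_of_isIso _).1
  have hmem : ∀ b, ι b ∈ integralClosure (Y.presheaf.stalk y) X.functionField := by
    intro b
    obtain ⟨P, hP, hP0⟩ := φ.isIntegral_app U hU b
    refine ⟨P.map (algebraMap Γ(Y, U) (Y.presheaf.stalk y)), hP.map _, ?_⟩
    rw [Polynomial.eval₂_map, ← hcomp, ← Polynomial.hom_eval₂, hP0, map_zero]
  let j : Γ(f.normalization, W) →+* integralClosure (Y.presheaf.stalk y) X.functionField :=
    ι.codRestrict _ hmem
  have hpt : ∀ M : MaximalSpectrum (integralClosure (Y.presheaf.stalk y) X.functionField),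
      (M.asIdeal.comap (algebraMap (Y.presheaf.stalk y) _)).comap (algebraMap Γ(Y, U) (Y.presheaf.stalk y)) = p := by
    intro M
    haveI := M.isMaximal
    haveI : Algebra.IsIntegral (Y.presheaf.stalk y) (integralClosure (Y.presheaf.stalk y) X.functionField) :=
      IsIntegralClosure.isIntegral_algebra _ X.functionField
    rw [IsLocalRing.eq_maximalIdeal (Ideal.isMaximal_comap_of_isIntegral_of_isMaximal M.asIdeal)]
    exact IsLocalization.AtPrime.comap_maximalIdeal (Y.presheaf.stalk y) p
  have hjcomp : ∀ M : Ideal (integralClosure (Y.presheaf.stalk y) X.functionField),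
      (M.comap j).comap (φ.app U).hom =
        (M.comap (algebraMap (Y.presheaf.stalk y) _)).comap (algebraMap Γ(Y, U) (Y.presheaf.stalk y)) := by
    intro M
    rw [Ideal.comap_comap, Ideal.comap_comap]
    congr 1
    exact RingHom.ext fun a => Subtype.ext (RingHom.congr_fun hcomp a)
  let Ψ : MaximalSpectrum (integralClosure (Y.presheaf.stalk y) X.functionField) →
      ↥(f.fromNormalization ⁻¹' {y}) := fun M =>
    ⟨hW.fromSpec (⟨M.asIdeal.comap j, Ideal.comap_isPrime _ _⟩ : PrimeSpectrum _), by
      show φ _ = y
      rw [RadPt58.apply_fromSpec φ hU hW]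
      refine (congrArg hU.fromSpec (PrimeSpectrum.ext ?_)).trans (hU.fromSpec_primeIdealOf ⟨y, hy⟩)
      exact (hjcomp M.asIdeal).trans (hpt M)⟩
  refine ⟨Ψ, fun ⟨x', hx'⟩ => ?_⟩
  have hx'W : x' ∈ W := by
    show φ x' ∈ U
    rw [show φ x' = y from hx']; exact hy
  let Q := hW.primeIdealOf ⟨x', hx'W⟩
  have hQ : Q.asIdeal.comap (φ.app U).hom = p := by
    have h1 := (RadPt58.apply_fromSpec φ hU hW Q).symm.trans ((congrArg φ (hW.fromSpec_primeIdealOf _)).trans
      ((show φ x' = y from hx').trans (hU.fromSpec_primeIdealOf ⟨y, hy⟩).symm))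
    exact congrArg PrimeSpectrum.asIdeal (hU.fromSpec.isOpenEmbedding.injective h1)
  obtain ⟨M, hM, hMj, hMp⟩ := exists_prime_over p (φ.app U).hom ι hι hcomp Q.asIdeal hQ j fun _ => rfl
  have hMmax : M.IsMaximal := by
    haveI : Algebra.IsIntegral (Y.presheaf.stalk y) (integralClosure (Y.presheaf.stalk y) X.functionField) :=
      IsIntegralClosure.isIntegral_algebra _ X.functionField
    refine Ideal.isMaximal_of_isIntegral_of_isMaximal_comap (R := Y.presheaf.stalk y) M ?_
    have e := IsLocalization.map_comap p.primeCompl (Y.presheaf.stalk y)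
      (M.comap (algebraMap (Y.presheaf.stalk y) (integralClosure (Y.presheaf.stalk y) X.functionField)))
    rw [show Ideal.under Γ(Y, U) (M.comap (algebraMap (Y.presheaf.stalk y)
      (integralClosure (Y.presheaf.stalk y) X.functionField))) = p from hMp] at e
    rw [← e, IsLocalization.AtPrime.map_eq_maximalIdeal p (Y.presheaf.stalk y)]
    exact IsLocalRing.maximalIdeal.isMaximal _
  refine ⟨⟨M, hMmax⟩, Subtype.ext ?_⟩
  exact (congrArg hW.fromSpec (PrimeSpectrum.ext hMj)).trans (hW.fromSpec_primeIdealOf ⟨x', hx'W⟩)

/-- Connected components of a fibre inject into the points of the Stein factor over the point. -/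
theorem exists_injective_connectedComponents {X Y : Scheme.{u}} (f : X ⟶ Y) [IsProper f] (y : Y) :
    ∃ c : _root_.ConnectedComponents ↥(f.fiber y) → ↥(f.fromNormalization ⁻¹' {y}), Function.Injective c := by
  let r : f.fiber y ⟶ f.fromNormalization.fiber y :=
    pullback.map f (Y.fromSpecResidueField y) f.fromNormalization (Y.fromSpecResidueField y)
      f.toNormalization (𝟙 _) (𝟙 _) (by simp) (by simp)
  obtain ⟨-, -, hr⟩ := stein_fibre f y r rfl
  let i := f.fromNormalization.fiberι y
  have hi : ∀ w, i w ∈ f.fromNormalization ⁻¹' {y} := fun w => by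
    rw [← f.fromNormalization.range_fiberι]; exact Set.mem_range_self _
  refine ⟨fun z => Quotient.liftOn' z (fun x => (⟨i (r x), hi _⟩ : ↥(f.fromNormalization ⁻¹' {y})))
    (fun a b hab => Subtype.ext (congrArg i ((hr a b).2 hab))), ?_⟩
  intro z z'
  obtain ⟨a, rfl⟩ := ConnectedComponents.surjective_coe z
  obtain ⟨b, rfl⟩ := ConnectedComponents.surjective_coe z'
  intro hab
  exact ConnectedComponents.coe_eq_coe.2 ((hr a b).1 (i.isEmbedding.injective (congrArg Subtype.val hab)))

/-- The bound on the number of components of a fibre. -/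
theorem card_connectedComponents_le {X Y : Scheme.{u}} [IsIntegral X] (f : X ⟶ Y) [IsProper f] (y : Y)
    (h : f.base (genericPoint X) ⤳ y) :
    Cardinal.mk (_root_.ConnectedComponents ↥(f.fiber y)) ≤
      Cardinal.mk (MaximalSpectrum (CohIII.integralClosureStalk f y h)) := by
  obtain ⟨Ψ, hΨ⟩ := exists_surjective_maximalSpectrum f y h
  obtain ⟨c, hc⟩ := exists_injective_connectedComponents f y
  exact (Cardinal.mk_le_of_injective hc).trans (Cardinal.mk_le_of_surjective hΨ)

end Groth.Agent.Stein58
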