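import Mathlib.AlgebraicGeometry.Morphisms.UniversallyInjective

/-!
Cancelling a surjective first factor of a universally injective morphism.
-/

set_option autoImplicit false

universe u

open CategoryTheory CategoryTheory.Limits AlgebraicGeometry

namespace Groth.Agent.Stein58

/-- The second factor of a universally injective composite is universally injective, the first factor being
surjective. -/
theorem universallyInjective_of_comp_surjective {X Y Z : Scheme.{u}} (a : X ⟶ Y) (b : Y ⟶ Z) [Surjective a]
    [UniversallyInjective (a ≫ b)] : UniversallyInjective b := by
  refine ⟨fun Y' Z' i₁ i₂ b' h => ?_⟩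
  have hp := (IsPullback.of_hasPullback a i₁).paste_vert h.flip
  have hi : Function.Injective ⇑(pullback.snd a i₁ ≫ b') :=
    UniversallyInjective.universally_injective (f := a ≫ b) _ _ _ hp.flip
  haveI : Surjective (pullback.snd a i₁) := MorphismProperty.pullback_snd _ _ inferInstance
  exact Function.Injective.of_comp_right (g := ⇑(pullback.snd a i₁)) hi (pullback.snd a i₁).surjective

end Groth.Agent.Stein58
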