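import Groth.Agent.Stein58.UnibranchFibre
import Groth.Agent.Div89.BlowRees
import Groth.Agent.S8851
import Groth.Agent.S1681
import Groth.Agent.S1682
import Mathlib.AlgebraicGeometry.ProjectiveSpectrum.Proper
import Mathlib.RingTheory.ReesAlgebra
import Mathlib.AlgebraicGeometry.Morphisms.Proper

/-!
Blow-ups of unibranch local domains have connected special fibre.
-/

set_option autoImplicit false
set_option maxSynthPendingDepth 4

universe u

open CategoryTheory CategoryTheory.Limits AlgebraicGeometry TopologicalSpace

noncomputable section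

namespace Groth.Agent.Stein58

/-- Blow-ups of Noetherian affine schemes are proper. -/
theorem isProper_of_isBlowUp_spec {A : Type u} [CommRing A] [IsNoetherianRing A] (I : Ideal A) {X : Scheme.{u}}
    (b : X ⟶ Spec (CommRingCat.of A)) (hb : BlowUp.IsBlowUp b (FSch.idealSpec A I)) : IsProper b := by
  have h := Div89.ReesChart.isBlowUp_str (I := I)
  haveI : IsScalarTower A (Rees.deg (reesAlgebra I) 0) (reesAlgebra I) := .of_algebraMap_eq fun a => rfl
  haveI : Algebra.FiniteType (Rees.deg (reesAlgebra I) 0) (reesAlgebra I) :=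
    Algebra.FiniteType.of_restrictScalars_finiteType A _ _
  haveI hp : IsProper (Div89.ReesChart.str I) := by
    have hc : IsClosedImmersion (Spec.map (CommRingCat.ofHom (algebraMap A (Rees.deg (reesAlgebra I) 0)))) := by
      refine IsClosedImmersion.spec_of_surjective _ fun z => ?_
      refine ⟨((z : reesAlgebra I) : Polynomial A).coeff 0, Subtype.ext (Subtype.ext (Polynomial.ext fun m => ?_))⟩
      rcases Nat.eq_zero_or_pos m with rfl | hm
      · show (algebraMap A (Polynomial A) _).coeff 0 = _
        simp
      · show (algebraMap A (Polynomial A) _).coeff m = _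
        rw [show ((z : reesAlgebra I) : Polynomial A).coeff m = 0 from (Rees.mem_deg_iff _ 0 _).1 z.2 m hm.ne']
        simp [Polynomial.coeff_C, hm.ne']
    exact MorphismProperty.comp_mem _ _ _ (inferInstanceAs (IsProper (Proj.toSpecZero _))) inferInstance
  obtain ⟨k, hk, -⟩ := h.2 X b hb.1
  obtain ⟨l, hl, -⟩ := hb.2 _ (Div89.ReesChart.str I) h.1
  have e1 : k ≫ l = 𝟙 X :=
    (hb.2 X b hb.1).unique (by rw [Category.assoc, hl, hk]) (Category.id_comp b)
  have e2 : l ≫ k = 𝟙 _ :=
    (h.2 _ (Div89.ReesChart.str I) h.1).unique (by rw [Category.assoc, hk, hl]) (Category.id_comp _)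
  haveI : IsIso k := ⟨l, e1, e2⟩
  rw [← hk]
  exact MorphismProperty.comp_mem _ _ _ inferInstance hp

/-- A unibranch local domain is unibranch at the closed point of its spectrum. -/
theorem isUnibranch_stalk_closedPoint {A : Type u} [CommRing A] [IsDomain A] [IsLocalRing A]
    (h : CAlg2.IsUnibranch A) :
    CAlg2.IsUnibranch ((Spec (CommRingCat.of A)).presheaf.stalk (IsLocalRing.closedPoint A)) := by
  haveI := isLocalRing_integralClosure_of_unibranch (K := FractionRing A) h
  haveI : IsDomain (CommRingCat.of A) := ‹IsDomain A›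
  let B := (Spec (CommRingCat.of A)).presheaf.stalk (IsLocalRing.closedPoint A)
  letI : Algebra A B := inferInstanceAs
    (Algebra A ((Spec.structureSheaf A).presheaf.stalk (IsLocalRing.closedPoint A)))
  haveI : IsLocalization.AtPrime B (IsLocalRing.closedPoint A).asIdeal := inferInstanceAs
    (IsLocalization.AtPrime ((Spec.structureSheaf A).presheaf.stalk (IsLocalRing.closedPoint A))
      (IsLocalRing.closedPoint A).asIdeal)
  let φ : A →+* B := algebraMap A B
  have hbij : Function.Bijective φ := by
    have hu : ∀ m ∈ (IsLocalRing.closedPoint A).asIdeal.primeCompl, IsUnit m := fun m hm =>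
      not_not.1 fun h => hm h
    exact (IsLocalization.atUnits A (IsLocalRing.closedPoint A).asIdeal.primeCompl hu (S := B)).bijective
  let e₀ : A ≃+* B := RingEquiv.ofBijective φ hbij
  haveI : IsDomain (CAlg2.red B) := by
    rw [Ideal.Quotient.isDomain_iff_prime, nilradical_eq_zero]
    exact Ideal.isPrime_bot
  refine ⟨inferInstance, ?_⟩
  let e₁ : A ≃+* CAlg2.red B := e₀.trans (RingEquiv.ofBijective (Ideal.Quotient.mk (nilradical B))
    ⟨(RingHom.injective_iff_ker_eq_bot _).2 (by rw [Ideal.mk_ker]; exact nilradical_eq_zero B),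
      Ideal.Quotient.mk_surjective⟩)
  let e : FractionRing A ≃+* FractionRing (CAlg2.red B) := IsFractionRing.ringEquivOfRingEquiv e₁
  have he : ∀ a, e (algebraMap A _ a) = algebraMap _ _ (e₁ a) :=
    fun a => IsFractionRing.ringEquivOfRingEquiv_algebraMap e₁ a
  let j : integralClosure A (FractionRing A) →+* CAlg2.normRed B :=
    (e.toRingHom.comp (integralClosure A (FractionRing A)).val.toRingHom).codRestrict _ fun z =>
      IsIntegral.map_of_comp_eq e₁.toRingHom e.toRingHom (RingHom.ext fun a => (he a).symm) z.2
  refine IsLocalRing.of_surjective' j fun z => ?_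
  refine ⟨⟨e.symm z.1, IsIntegral.map_of_comp_eq e₁.symm.toRingHom e.symm.toRingHom (RingHom.ext fun a => by
    show algebraMap A _ (e₁.symm a) = e.symm (algebraMap _ _ a)
    rw [RingEquiv.eq_symm_apply, he, e₁.apply_symm_apply]) z.2⟩, Subtype.ext (e.apply_symm_apply _)⟩

/-- The special fibre of a blow-up of a unibranch Noetherian local domain is preconnected. -/
theorem preconnectedSpace_fiber_blowUp {A : Type u} [CommRing A] [IsDomain A] [IsNoetherianRing A] [IsLocalRing A]
    (hA : CAlg2.IsUnibranch A) (I : Ideal A) {X : Scheme.{u}} (b : X ⟶ Spec (CommRingCat.of A))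
    (hb : BlowUp.IsBlowUp b (FSch.idealSpec A I)) : PreconnectedSpace ↥(b.fiber (IsLocalRing.closedPoint A)) := by
  haveI : IsDomain (CommRingCat.of A) := ‹IsDomain A›
  rcases isEmpty_or_nonempty X with hX | hX
  · haveI : IsEmpty ↥(b.fiber (IsLocalRing.closedPoint A)) :=
      Function.isEmpty (b.fiberι _)
    exact ⟨Set.Subsingleton.isPreconnected (fun x => (IsEmpty.false x).elim)⟩
  haveI := isProper_of_isBlowUp_spec I b hb
  haveI : IsReduced X := S8851.result _ b hb
  have hbij := S1681.result _ b hb
  let S := Spec (CommRingCat.of A)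
  have hmaxS : ∀ s : S, (∀ t : S, t ⤳ s → t = s) → s = genericPoint S := fun s hs =>
    (hs _ ((genericPoint_spec S).specializes trivial)).symm
  have hgenX : ∀ z : X, ∃ g : X, (∀ t : X, t ⤳ g → t = g) ∧ g ⤳ z := by
    intro z
    obtain ⟨g, hg⟩ := QuasiSober.sober (isIrreducible_irreducibleComponent (x := z)) isClosed_irreducibleComponent
    refine ⟨g, fun t ht => ?_, hg.specializes mem_irreducibleComponent⟩
    have hsub : irreducibleComponent z ⊆ closure {t} := by
      rw [← hg.def]
      exact ht.closure_subset
    have heq := (irreducibleComponent_mem_irreducibleComponents z).eq_of_ge isIrreducible_singleton.closure hsub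
    exact IsGenericPoint.eq (show IsGenericPoint t (irreducibleComponent z) from heq) hg
  obtain ⟨z₀⟩ := hX
  obtain ⟨g₀, hg₀, -⟩ := hgenX z₀
  have huniq : ∀ g : X, (∀ t : X, t ⤳ g → t = g) → g = g₀ := fun g hg =>
    hbij.2.1 hg hg₀ ((hmaxS _ (hbij.1 hg).1).trans (hmaxS _ (hbij.1 hg₀).1).symm)
  haveI : IrreducibleSpace X := by
    have : closure ({g₀} : Set X) = Set.univ := Set.eq_univ_of_forall fun z => by
      obtain ⟨g, hg, hgz⟩ := hgenX z
      rw [huniq g hg] at hgz
      exact hgz.mem_closure
    exact (irreducibleSpace_def X).2 (show IsIrreducible (Set.univ : Set X) from this ▸ isIrreducible_singleton.closure)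
  haveI : AlgebraicGeometry.IsIntegral X := isIntegral_of_irreducibleSpace_of_isReduced X
  haveI : IsLocallyNoetherian X := LocallyOfFiniteType.isLocallyNoetherian b
  have hgX : ∀ t : X, t ⤳ genericPoint X → t = genericPoint X :=
    fun t ht => (ht.antisymm ((genericPoint_spec X).specializes trivial)).eq
  have hgen : b (genericPoint X) = genericPoint S := hmaxS _ (hbij.1 hgX).1
  have hnsupp := (hbij.1 hgX).2
  -- the blow-up is an isomorphism near the generic point
  haveI := S1682.result _ b hb
  let U := (FSch.idealSpec A I).support.compl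
  have hiso : IsIso (b.stalkMap (genericPoint X)) := by
    have := (morphismRestrictStalkMap b U ⟨genericPoint X, hnsupp⟩)
    have h2 : IsIso ((b ∣_ U).stalkMap ⟨genericPoint X, hnsupp⟩) := inferInstance
    exact (MorphismProperty.arrow_mk_iso_iff (MorphismProperty.isomorphisms _) this).1 h2
  have hdom : b.base (genericPoint X) ⤳ genericPoint S := specializes_of_eq hgen
  have hτ : Function.Surjective (CohIII.stalkToFunctionField b (genericPoint S) hdom) := by
    have hsp : IsIso (S.presheaf.stalkSpecializes hdom) := by
      refine ⟨S.presheaf.stalkSpecializes (specializes_of_eq hgen.symm), ?_, ?_⟩ <;>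
        rw [TopCat.Presheaf.stalkSpecializes_comp, TopCat.Presheaf.stalkSpecializes_refl]
    exact (ConcreteCategory.bijective_of_isIso (b.stalkMap (genericPoint X))).2.comp
      (ConcreteCategory.bijective_of_isIso (S.presheaf.stalkSpecializes hdom)).2
  let y : S := IsLocalRing.closedPoint A
  have h : b.base (genericPoint X) ⤳ y := hdom.trans ((genericPoint_spec S).specializes trivial)
  have hsub : Subsingleton (MaximalSpectrum (CohIII.integralClosureStalk b y h)) := by
    letI : Algebra (S.presheaf.stalk y) X.functionField := (CohIII.stalkToFunctionField b y h).toAlgebra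
    exact subsingleton_maximalSpectrum_of_unibranch (K := S.functionField)
      (CohIII.stalkToFunctionField b (genericPoint S) hdom) (by
        rw [RingHom.algebraMap_toAlgebra]
        exact congrArg CommRingCat.Hom.hom (by
          rw [← Category.assoc, TopCat.Presheaf.stalkSpecializes_comp] : S.presheaf.stalkSpecializes
            ((genericPoint_spec S).specializes (Set.mem_univ y)) ≫ S.presheaf.stalkSpecializes hdom ≫
              b.stalkMap (genericPoint X) = S.presheaf.stalkSpecializes h ≫ b.stalkMap (genericPoint X)))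
      1 one_ne_zero (fun x _ => ⟨0, by rw [pow_zero, pow_one]; exact hτ x⟩) (isUnibranch_stalk_closedPoint hA)
  obtain ⟨Ψ, hΨ⟩ := exists_surjective_maximalSpectrum b y h
  obtain ⟨c, hc⟩ := exists_injective_connectedComponents b y
  haveI : Subsingleton ↥(b.fromNormalization ⁻¹' {y}) := hΨ.subsingleton
  haveI : Subsingleton (_root_.ConnectedComponents ↥(b.fiber y)) := hc.subsingleton
  exact preconnectedSpace_iff_connectedComponent.2 fun x =>
    Set.eq_univ_of_forall fun z => ConnectedComponents.coe_eq_coe'.1 (Subsingleton.elim _ _)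

end Groth.Agent.Stein58
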