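import Groth.Agent.Stein58.UnibranchFibre
import Mathlib.RingTheory.Polynomial.GaussLemma
import Mathlib.FieldTheory.SeparableDegree
import Mathlib.FieldTheory.AlgebraicClosure

/-!
The number of maximal ideals of an integral closure over a unibranch domain.
-/

set_option autoImplicit false
set_option maxSynthPendingDepth 3

universe u

open Polynomial

noncomputable section

namespace Groth.Agent.Stein58

/-- Over a unibranch local domain the maximal ideals of an integral closure are at most as many as the
separable degree. -/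
theorem card_maximalSpectrum_le_finSepDegree {A K L : Type u} [CommRing A] [IsDomain A] [IsLocalRing A]
    [Field K] [Algebra A K] [IsFractionRing A K] [Field L] [Algebra A L] [Algebra K L] [IsScalarTower A K L]
    (h : CAlg2.IsUnibranch A) (n : ℕ) (hn0 : 0 < n)
    (hn : Field.finSepDegree K ↥(algebraicClosure K L) = n) :
    Finite (MaximalSpectrum (integralClosure A L)) ∧ Nat.card (MaximalSpectrum (integralClosure A L)) ≤ n := by
  classical
  haveI := isLocalRing_integralClosure_of_unibranch (K := K) h
  let L' := algebraicClosure K L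
  haveI : IsScalarTower A L' L := .of_algebraMap_eq fun _ => rfl
  let Ω := AlgebraicClosure L'
  haveI hfin : Finite (L' →ₐ[K] Ω) := Nat.finite_of_card_ne_zero (by
    rw [show Nat.card (L' →ₐ[K] Ω) = Field.finSepDegree K L' from rfl, hn]; exact hn0.ne')
  haveI : Algebra.IsIntegral A (integralClosure A K) := IsIntegralClosure.isIntegral_algebra A K
  haveI : Algebra.IsIntegral A (integralClosure A L) := IsIntegralClosure.isIntegral_algebra A L
  haveI : Algebra.IsIntegral A (integralClosure A Ω) := IsIntegralClosure.isIntegral_algebra A Ω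
  let toL : integralClosure A L → L' := fun x =>
    ⟨x.1, mem_algebraicClosure_iff'.2 (IsIntegral.tower_top (R := A) x.2)⟩
  -- the integral elements of `L` inside the algebraic closure
  let toL' : integralClosure A L →+* L' :=
    { toFun := toL
      map_one' := rfl
      map_mul' := fun _ _ => rfl
      map_zero' := rfl
      map_add' := fun _ _ => rfl }
  have hint : ∀ (σ : L' →ₐ[K] Ω) (x : integralClosure A L), IsIntegral A (σ (toL x)) := fun σ x => by
    refine IsIntegral.map (σ.restrictScalars A) ?_
    exact (isIntegral_algHom_iff ((IsScalarTower.toAlgHom A L' L)) Subtype.val_injective).1 x.2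
  let jσ : (L' →ₐ[K] Ω) → (integralClosure A L →+* integralClosure A Ω) := fun σ =>
    (σ.toRingHom.comp toL').codRestrict _ (hint σ)
  let jK : integralClosure A K →ₐ[A] integralClosure A Ω := (IsScalarTower.toAlgHom A K Ω).mapIntegralClosure
  let jL : integralClosure A K →ₐ[A] integralClosure A L := (IsScalarTower.toAlgHom A K L).mapIntegralClosure
  -- contractions of maximal ideals to the local normalisation
  have hcontr : ∀ {T : Type u} [CommRing T] [Algebra A T] [Algebra.IsIntegral A T]
      (j : integralClosure A K →ₐ[A] T) (M : Ideal T), M.IsMaximal →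
      M.comap j.toRingHom = IsLocalRing.maximalIdeal (integralClosure A K) := by
    intro T _ _ _ j M hM
    refine IsLocalRing.eq_maximalIdeal ?_
    haveI : (M.comap j.toRingHom).IsPrime := Ideal.comap_isPrime _ _
    refine Ideal.isMaximal_of_isIntegral_of_isMaximal_comap (R := A) _ ?_
    rw [Ideal.comap_comap, show j.toRingHom.comp (algebraMap A _) = algebraMap A _ from RingHom.ext j.commutes]
    exact Ideal.isMaximal_comap_of_isIntegral_of_isMaximal M
  haveI : Nontrivial (integralClosure A Ω) := inferInstance
  obtain ⟨P, hP⟩ := Ideal.exists_maximal (integralClosure A Ω)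
  have hmax : ∀ σ, (P.comap (jσ σ)).IsMaximal := by
    intro σ
    haveI : (P.comap (jσ σ)).IsPrime := Ideal.comap_isPrime _ _
    refine Ideal.isMaximal_of_isIntegral_of_isMaximal_comap (R := A) _ ?_
    have e : (jσ σ).comp (algebraMap A (integralClosure A L)) = algebraMap A (integralClosure A Ω) :=
      RingHom.ext fun a => Subtype.ext ((congrArg σ (Subtype.ext rfl : toL (algebraMap A _ a) = algebraMap A L' a)).trans
        ((σ.restrictScalars A).commutes a))
    rw [Ideal.comap_comap, e]
    exact Ideal.isMaximal_comap_of_isIntegral_of_isMaximal P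
  let Φ : (L' →ₐ[K] Ω) → MaximalSpectrum (integralClosure A L) := fun σ => ⟨_, hmax σ⟩
  have hsurj : Function.Surjective Φ := by
    intro M
    by_contra hne
    push Not at hne
    haveI := M.isMaximal
    letI : Fintype (L' →ₐ[K] Ω) := Fintype.ofFinite _
    obtain ⟨σ₀⟩ : Nonempty (L' →ₐ[K] Ω) := ⟨IsScalarTower.toAlgHom K L' Ω⟩
    have hnot : ¬ ((M.asIdeal : Set (integralClosure A L)) ⊆ ⋃ σ ∈ ((Finset.univ : Finset (L' →ₐ[K] Ω)) : Set _), (P.comap (jσ σ) : Set _)) := by
      rw [Ideal.subset_union_prime σ₀ σ₀ fun σ _ _ _ => (hmax σ).isPrime]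
      rintro ⟨σ, -, hσ⟩
      exact hne σ (MaximalSpectrum.ext (M.isMaximal.eq_of_le (hmax σ).ne_top hσ).symm)
    obtain ⟨x, hxM, hx⟩ := Set.not_subset.1 hnot
    -- the minimal polynomial has coefficients in the normalisation
    obtain ⟨f, hf, hf0⟩ := x.2
    have hxK : IsIntegral K (toL x) := mem_algebraicClosure_iff'.1 (toL x).2 |> fun h =>
      (isIntegral_algHom_iff (IsScalarTower.toAlgHom K L' L) Subtype.val_injective).1 h
    let p := minpoly K (toL x)
    have hd : p ∣ f.map (algebraMap A K) := by
      refine minpoly.dvd K _ (Subtype.val_injective ?_)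
      rw [aeval_map_algebraMap]
      refine ((aeval_algHom_apply (IsScalarTower.toAlgHom A L' L) (toL x) f).symm).trans ?_
      exact hf0
    obtain ⟨p₀, hp₀, hdeg, hmonic⟩ := lifts_and_degree_eq_and_monic
      (integralClosure.mem_lifts_of_monic_of_dvd_map K hf (minpoly.monic hxK) hd) (minpoly.monic hxK)
    have hroot : p₀.eval₂ jL.toRingHom x = 0 := by
      refine Subtype.val_injective ?_
      show (integralClosure A L).val.toRingHom (p₀.eval₂ jL.toRingHom x) = (0 : L)
      rw [hom_eval₂]
      have e : (integralClosure A L).val.toRingHom.comp jL.toRingHom =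
          (algebraMap K L).comp (algebraMap (integralClosure A K) K) := RingHom.ext fun _ => rfl
      rw [e, ← eval₂_map, hp₀]
      have := congrArg Subtype.val (minpoly.aeval K (toL x))
      rw [show ((0 : L') : L) = 0 from rfl] at this
      refine Eq.trans ?_ this
      exact (aeval_algHom_apply (IsScalarTower.toAlgHom K L' L) (toL x) p)
    have hc : p₀.coeff 0 ∈ M.asIdeal.comap jL.toRingHom := by
      rw [← p₀.X_mul_divX_add, eval₂_add, eval₂_mul, eval₂_X, eval₂_C, add_eq_zero_iff_neg_eq] at hroot
      show jL.toRingHom (p₀.coeff 0) ∈ M.asIdeal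
      rw [← hroot]
      exact neg_mem (Ideal.mul_mem_right _ _ hxM)
    have hcP : p₀.coeff 0 ∈ P.comap jK.toRingHom := by
      rw [hcontr jK P hP, ← hcontr jL M.asIdeal M.isMaximal]
      exact hc
    -- it is the product of the conjugates up to sign
    let pΩ := p.map (algebraMap K Ω)
    have hr : ∀ r ∈ pΩ.roots, ∃ σ, ((jσ σ x : integralClosure A Ω) : Ω) = r := by
      intro r hr
      have hmem : r ∈ p.rootSet Ω := by
        rw [Polynomial.mem_rootSet']
        obtain ⟨h1, h2⟩ := (mem_roots'.1 hr)
        exact ⟨h1, by rwa [IsRoot, eval_map, ← aeval_def] at h2⟩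
      haveI : Algebra.IsAlgebraic K L' := algebraicClosure.isAlgebraic K L
      rw [← Algebra.IsAlgebraic.range_eval_eq_rootSet_minpoly Ω (toL x)] at hmem
      obtain ⟨σ, hσ⟩ := hmem
      exact ⟨σ, hσ⟩
    choose σr hσr using hr
    let s : Multiset (integralClosure A Ω) := pΩ.roots.attach.map fun r => jσ (σr r.1 r.2) x
    have hs : (s.prod : Ω) = pΩ.roots.prod := by
      show (integralClosure A Ω).val.toRingHom s.prod = _
      rw [map_multiset_prod, Multiset.map_map]
      conv_rhs => rw [← pΩ.roots.attach_map_val]
      refine congrArg Multiset.prod (Multiset.map_congr rfl fun r _ => ?_)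
      exact hσr r.1 r.2
    have hprod : jK.toRingHom (p₀.coeff 0) = (-1) ^ pΩ.natDegree * s.prod := by
      refine Subtype.val_injective ?_
      show algebraMap K Ω (algebraMap (integralClosure A K) K (p₀.coeff 0)) = ((-1) ^ pΩ.natDegree * s.prod : integralClosure A Ω).1
      rw [← coeff_map, hp₀, ← coeff_map, (IsAlgClosed.splits pΩ).coeff_zero_eq_prod_roots_of_monic ((minpoly.monic hxK).map _)]
      simp only [Subalgebra.coe_mul, Subalgebra.coe_pow, hs]
      rfl
    rw [Ideal.mem_comap, hprod] at hcP
    haveI := hP.isPrime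
    have hsP : s.prod ∈ P := (hP.isPrime.mem_or_mem hcP).resolve_left fun h1 => hP.ne_top
      (Ideal.eq_top_of_isUnit_mem _ h1 ((isUnit_one.neg).pow _))
    obtain ⟨z, hz, hzP⟩ := (hP.isPrime.multiset_prod_mem_iff_exists_mem s).1 hsP
    obtain ⟨r, -, rfl⟩ := Multiset.mem_map.1 hz
    exact hx (Set.mem_iUnion₂.2 ⟨σr r.1 r.2, Finset.mem_univ _, hzP⟩)
  refine ⟨Finite.of_surjective Φ hsurj, ?_⟩
  exact (Nat.card_le_card_of_surjective Φ hsurj).trans hn.le

end Groth.Agent.Stein58
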