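import Groth.Agent.FF71.Main
import Groth.Agent.Div89.StalkOpen

/-!
Separating closed and disjoint pieces of the preimage of `V(I)` by global functions, for a proper scheme
over a Noetherian ring (the key step of Zariski's connectedness theorem).
-/

set_option autoImplicit false
set_option maxSynthPendingDepth 6
set_option linter.style.haveILetI false
set_option linter.unusedSectionVars false
set_option backward.isDefEq.respectTransparency.types false

universe u

noncomputable section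

open CategoryTheory Limits AlgebraicGeometry TopologicalSpace Opposite

namespace Groth.Agent.Stein58

open QC70 Coh69 CechComp71 FF71

variable {A : Type u} [CommRing A] {X : Scheme.{u}} [X.Over (Spec (CommRingCat.of A))] (I : Ideal A)

lemma mem_secI_unit {V : X.Opens} (x : Γ(X, V)) :
    toUnit x ∈ secI A I (unitMod X) V ↔ x ∈ I.map (rA A X V) := by
  constructor
  · intro h
    exact secI_induction (P := fun z : Γ(unitMod X, V) => (show Γ(X, V) from z) ∈ I.map (rA A X V))
      (zero_mem _) (fun _ _ => add_mem)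
      (fun a ha m => Ideal.mul_mem_right (show Γ(X, V) from m) _ (Ideal.mem_map_of_mem _ ha)) h
  · intro h
    have := Submodule.smul_mem_smul (M := Γ(unitMod X, V)) h (Submodule.mem_top (x := toUnit (1 : Γ(X, V))))
    rwa [smul_unit, mul_one] at this

/-- The points over `V(I)`. -/
def overI : Set X := {x | ∀ a ∈ I, x ∉ X.basicOpen (rA A X ⊤ a)}

lemma not_mem_basicOpen_of_mem_map {V : X.Opens} {x : X} (hxV : x ∈ V) (hx : x ∈ overI I) {t : Γ(X, V)}
    (ht : t ∈ I.map (rA A X V)) : x ∉ X.basicOpen t := by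
  rw [X.mem_basicOpen _ _ hxV]
  change (X.presheaf.germ V x hxV).hom t ∈ nonunits _
  rw [← IsLocalRing.mem_maximalIdeal]
  refine (Ideal.map_le_iff_le_comap (K := (IsLocalRing.maximalIdeal (X.presheaf.stalk x)).comap
    (X.presheaf.germ V x hxV).hom)).2 ?_ ht
  intro a ha
  simp only [Ideal.mem_comap, IsLocalRing.mem_maximalIdeal]
  have h := hx a ha
  rw [X.mem_basicOpen _ _ (show x ∈ (⊤ : X.Opens) from trivial), ← X.presheaf.germ_res_apply (homOfLE (le_top : V ≤ ⊤)) x hxV] at h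
  rw [← resO_rA A X (le_top : V ≤ ⊤) a]
  exact h

/-- A function with values `1` on `P` and `0` on `Q`. -/
def Separates (P Q : Set X) {V : X.Opens} (t : Γ(X, V)) : Prop :=
  ∀ x : X, x ∈ V → (x ∈ P → x ∉ X.basicOpen (1 - t)) ∧ (x ∈ Q → x ∉ X.basicOpen t)

variable {I} in
theorem exists_separates_affine {P Q : Set X} (hP : IsClosed P) (hQ : IsClosed Q) (hPQ : Disjoint P Q)
    (hun : overI I ⊆ P ∪ Q) {V : X.Opens} (hV : IsAffineOpen V) (k : ℕ) :
    ∃ e : Γ(X, V), Separates P Q e ∧ e * (1 - e) ∈ (I ^ k).map (rA A X V) := by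
  obtain ⟨a, ha⟩ := (PrimeSpectrum.isClosed_iff_zeroLocus_ideal _).1 (hP.preimage hV.fromSpec.continuous)
  obtain ⟨b, hb⟩ := (PrimeSpectrum.isClosed_iff_zeroLocus_ideal _).1 (hQ.preimage hV.fromSpec.continuous)
  let J := I.map (rA A X V)
  have hrange : ∀ y, hV.fromSpec y ∈ V := fun y => hV.range_fromSpec.le ⟨y, rfl⟩
  have hmem : ∀ (y : Spec Γ(X, V)) (t : Γ(X, V)), hV.fromSpec y ∈ X.basicOpen t ↔ t ∉ y.asIdeal := by
    intro y t
    change y ∈ hV.fromSpec ⁻¹ᵁ X.basicOpen t ↔ _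
    rw [hV.fromSpec_preimage_basicOpen]
    rfl
  have hsup : a ⊔ b = ⊤ := by
    rw [← PrimeSpectrum.zeroLocus_empty_iff_eq_top, PrimeSpectrum.zeroLocus_sup, ← ha, ← hb]
    exact (hPQ.preimage hV.fromSpec).inter_eq
  obtain ⟨u', hu, v', hv, huv⟩ := Submodule.mem_sup.1 ((Ideal.eq_top_iff_one _).1 hsup)
  have hrad : u' * v' ∈ J.radical := by
    rw [Ideal.radical_eq_sInf, Ideal.mem_sInf]
    rintro p ⟨hJp, hp⟩
    let y : Spec Γ(X, V) := ⟨p, hp⟩
    have hy : hV.fromSpec y ∈ overI I := fun c hc hmem' => by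
      have h2 : hV.fromSpec y ∈ X.basicOpen (rA A X V c) := by
        rw [show rA A X V c = X.presheaf.map (homOfLE (le_top : V ≤ ⊤)).op (rA A X ⊤ c) from
          (resO_rA A X le_top c).symm, Scheme.basicOpen_res]
        exact ⟨hrange y, hmem'⟩
      exact (hmem y _).1 h2 (hJp (Ideal.mem_map_of_mem _ hc))
    rcases hun hy with h | h
    · exact p.mul_mem_right _ ((PrimeSpectrum.mem_zeroLocus y _).1 (ha.le (show y ∈ hV.fromSpec ⁻¹' P from h)) hu)
    · exact p.mul_mem_left _ ((PrimeSpectrum.mem_zeroLocus y _).1 (hb.le (show y ∈ hV.fromSpec ⁻¹' Q from h)) hv)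
  obtain ⟨m, hm⟩ := hrad
  have hcop : IsCoprime u' v' := ⟨1, 1, by rw [one_mul, one_mul]; exact huv⟩
  obtain ⟨p, q, hpq⟩ := hcop.pow (m := m * k + 1) (n := m * k + 1)
  refine ⟨q * v' ^ (m * k + 1), fun x hx => ?_, ?_⟩
  · obtain ⟨y, rfl⟩ := hV.range_fromSpec.ge hx
    refine ⟨fun h h' => (hmem y _).1 h' ?_, fun h h' => (hmem y _).1 h' ?_⟩
    · rw [← hpq, add_sub_cancel_right]
      exact y.asIdeal.mul_mem_left _ (Ideal.pow_mem_of_mem _
        ((PrimeSpectrum.mem_zeroLocus y _).1 (ha.le (show y ∈ hV.fromSpec ⁻¹' P from h)) hu) _ (by omega))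
    · exact y.asIdeal.mul_mem_left _ (Ideal.pow_mem_of_mem _
        ((PrimeSpectrum.mem_zeroLocus y _).1 (hb.le (show y ∈ hV.fromSpec ⁻¹' Q from h)) hv) _ (by omega))
  · have h1 : q * v' ^ (m * k + 1) * (1 - q * v' ^ (m * k + 1)) =
        p * q * (u' * v') * ((u' * v') ^ m) ^ k := by
      rw [← hpq, add_sub_cancel_right, ← pow_mul]
      ring
    rw [h1, Ideal.map_pow]
    exact Ideal.mul_mem_left _ _ (Ideal.pow_mem_pow hm k)

/-- Separating functions which are idempotent modulo a power agree modulo it. -/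
theorem separates_unique {P Q : Set X} (hun : overI I ⊆ P ∪ Q) {V : X.Opens} (hV : IsAffineOpen V) (k : ℕ)
    {e e' : Γ(X, V)} (he : Separates P Q e) (he' : Separates P Q e')
    (hi : e * (1 - e) ∈ (I ^ k).map (rA A X V)) (hi' : e' * (1 - e') ∈ (I ^ k).map (rA A X V)) :
    e - e' ∈ (I ^ k).map (rA A X V) := by
  let K := (I ^ k).map (rA A X V)
  rcases k.eq_zero_or_pos with rfl | hk
  · simp only [pow_zero, Ideal.one_eq_top, Ideal.map_top]; trivial
  let π := Ideal.Quotient.mk K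
  have hid : ∀ {t : Γ(X, V)}, t * (1 - t) ∈ K → IsIdempotentElem (π t) := fun {t} ht => by
    have := Ideal.Quotient.eq_zero_iff_mem.2 ht
    rw [map_mul, map_sub, map_one, mul_sub, mul_one, sub_eq_zero] at this
    exact this.symm
  refine Ideal.Quotient.eq.1 (_root_.eq_of_isNilpotent_sub_of_isIdempotentElem (hid hi) (hid hi') ?_)
  rw [← map_sub]
  obtain ⟨n, hn⟩ : e - e' ∈ K.radical := by
    rw [Ideal.radical_eq_sInf, Ideal.mem_sInf]
    rintro p ⟨hKp, hp⟩
    let y : Spec Γ(X, V) := ⟨p, hp⟩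
    have hmem : ∀ t : Γ(X, V), hV.fromSpec y ∈ X.basicOpen t ↔ t ∉ p := by
      intro t
      change y ∈ hV.fromSpec ⁻¹ᵁ X.basicOpen t ↔ _
      rw [hV.fromSpec_preimage_basicOpen]
      rfl
    have hyV : hV.fromSpec y ∈ V := hV.range_fromSpec.le ⟨y, rfl⟩
    have hy : hV.fromSpec y ∈ overI I := fun c hc hmem' => by
      have h2 : hV.fromSpec y ∈ X.basicOpen (rA A X V c) := by
        rw [show rA A X V c = X.presheaf.map (homOfLE (le_top : V ≤ ⊤)).op (rA A X ⊤ c) from
          (resO_rA A X le_top c).symm, Scheme.basicOpen_res]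
        exact ⟨hyV, hmem'⟩
      refine (hmem _).1 h2 (hp.mem_of_pow_mem k (hKp ?_))
      rw [← map_pow]
      exact Ideal.mem_map_of_mem _ (Ideal.pow_mem_pow hc k)
    rcases hun hy with h | h
    · have h1 := not_not.1 (fun c => ((he _ hyV).1 h) ((hmem _).2 c))
      have h2 := not_not.1 (fun c => ((he' _ hyV).1 h) ((hmem _).2 c))
      simpa using p.sub_mem h2 h1
    · have h1 := not_not.1 (fun c => ((he _ hyV).2 h) ((hmem _).2 c))
      have h2 := not_not.1 (fun c => ((he' _ hyV).2 h) ((hmem _).2 c))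
      exact p.sub_mem h1 h2
  exact ⟨n, by rw [← map_pow]; exact Ideal.Quotient.eq_zero_iff_mem.2 hn⟩

/-- Compatible families modulo a high power of `I` come from global functions modulo `I`. -/
theorem exists_approx_global [IsNoetherianRing A] [IsProper (X ↘ Spec (CommRingCat.of A))] {ι : Type u}
    [Finite ι] (U : ι → X.Opens) (hU : ⨆ i, U i = ⊤)
    (hUa : ∀ (n : ℕ) (i : Fin (n + 1) → ι), IsAffineOpen (cOpen U i)) :
    ∃ k, ∀ e : ∀ i, Γ(X, U i),
      (∀ i : Fin 2 → ι, resO X (cOpen_le U i 1) (e (i 1)) - resO X (cOpen_le U i 0) (e (i 0)) ∈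
        (I ^ k).map (rA A X (cOpen U i))) →
      ∃ s : Γ(X, ⊤), ∀ i : Fin 1 → ι, resO X le_top s - resO X (cOpen_le U i 0) (e (i 0)) ∈
        I.map (rA A X (cOpen U i)) := by
  haveI := LocallyOfFiniteType.isLocallyNoetherian (X ↘ Spec (CommRingCat.of A))
  let M := unitMod X
  haveI : M.IsFiniteType := Div89.isFiniteType_unit X
  obtain ⟨d, hd⟩ := exists_degree_ideal A I X M U hU hUa 1 (cd U M.presheaf 0).range
    (by rintro a _ ⟨c, rfl⟩; exact ⟨smulC U M 0 a c, cd_smulC U M 0 a c⟩)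
  refine ⟨d + 1, fun e he => ?_⟩
  let c : Cochain U M.presheaf 0 := fun i => toUnit (resO X (cOpen_le U i 0) (e (i 0)))
  have hcd : cd U M.presheaf 0 c ∈ CJ A U M (I ^ (d + 1)) 1 := fun i => by
    have h1 : cd U M.presheaf 0 c i =
        toUnit (resO X (cOpen_le U i 1) (e (i 1)) - resO X (cOpen_le U i 0) (e (i 0))) := by
      rw [cd_apply, Fin.sum_univ_two]
      simp only [Fin.val_zero, pow_zero, one_smul, Fin.val_one, pow_one, neg_smul, one_smul]
      rw [← sub_eq_add_neg]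
      exact congrArg₂ (· - ·) (resO_resO _ _ _) (resO_resO _ _ _)
    exact h1 ▸ (mem_secI_unit (I ^ (d + 1)) _).2 (he i)
  obtain ⟨g, hg, b, ⟨z, hz, rfl⟩, hgb⟩ := hd (d + 1) (by omega) _ hcd (Coh69.cd_cd U 0 c) ⟨c, rfl⟩
  have hw : ∃ w ∈ CJ A U M I 0, cd U M.presheaf 0 w = g := by
    clear hgb
    rw [show d + 1 - d = 1 by omega, pow_one] at hg
    induction hg using AddSubgroup.closure_induction with
    | mem t ht =>
      obtain ⟨a, ha, t', ⟨-, w, rfl⟩, rfl⟩ := ht
      refine ⟨smulC U M 0 a w, ?_, cd_smulC U M 0 a w⟩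
      have h2 := smulC_mem_CJ U M ha (mem_CJ_top U M w)
      rwa [Ideal.mul_top] at h2
    | zero => exact ⟨0, zero_mem _, map_zero _⟩
    | add a b _ _ ha hb =>
      obtain ⟨wa, hwa, rfl⟩ := ha
      obtain ⟨wb, hwb, rfl⟩ := hb
      exact ⟨wa + wb, add_mem hwa hwb, map_add _ _ _⟩
    | neg a _ ha =>
      obtain ⟨wa, hwa, rfl⟩ := ha
      exact ⟨-wa, neg_mem hwa, map_neg _ _⟩
  obtain ⟨w, hw, rfl⟩ := hw
  let t : MZ U M 0 := ⟨c - (w + z), by
    change cd U M.presheaf 0 (c - (w + z)) = 0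
    rw [map_sub, map_add, hgb, sub_self]⟩
  obtain ⟨s, hs⟩ := (ofGlobal_bijective hU (Coh.toAb M)).2 t
  refine ⟨s, fun i => (mem_secI_unit I _).1 ?_⟩
  have h1 := congrFun (congrArg Subtype.val hs) i
  have h2 : (show Γ(M, cOpen U i) from c i) - (show Γ(M, cOpen U i) from (w i + z i)) -
      (show Γ(M, cOpen U i) from c i) ∈ secI A I M (cOpen U i) := by
    rw [sub_sub_cancel_left]
    refine neg_mem (add_mem (hw i) (secI_mono M ?_ _ (hz i)))
    exact Ideal.pow_le_self (by omega)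
  exact (congrArg (fun r : Γ(M, cOpen U i) => r - (show Γ(M, cOpen U i) from c i) ∈ secI A I M (cOpen U i))
    h1.symm).mp h2

/-- Disjoint closed pieces of the preimage of `V(I)` are separated by a global function. -/
theorem exists_separates [IsNoetherianRing A] [IsProper (X ↘ Spec (CommRingCat.of A))] {P Q : Set X}
    (hP : IsClosed P) (hQ : IsClosed Q) (hPQ : Disjoint P Q) (hun : P ∪ Q = overI I) :
    ∃ s : Γ(X, ⊤), Separates P Q s := by
  obtain ⟨ι, hι, U, hU, hUa⟩ := exists_cover (A := A) (X := X)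
  obtain ⟨k, hk⟩ := exists_approx_global I U hU hUa
  have hW : ∀ l, IsAffineOpen (U l) := fun l => by
    have := hUa 0 fun _ => l
    rwa [show cOpen U (fun _ : Fin 1 => l) = U l from
      le_antisymm (cOpen_le U (fun _ : Fin 1 => l) 0) (le_cOpen U fun _ => le_rfl)] at this
  choose e he1 he2 using fun l => exists_separates_affine hP hQ hPQ hun.ge (hW l) k
  have hres : ∀ {V W : X.Opens} (h : W ≤ V) {t : Γ(X, V)}, Separates P Q t → Separates P Q (resO X h t) := by
    intro V W h t ht x hx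
    refine ⟨fun hxP hb => (ht x (h hx)).1 hxP ?_, fun hxQ hb => (ht x (h hx)).2 hxQ ?_⟩
    · rw [← map_one (X.presheaf.map (homOfLE h).op).hom, ← map_sub, Scheme.basicOpen_res] at hb
      exact hb.2
    · rw [Scheme.basicOpen_res] at hb
      exact hb.2
  have hresI : ∀ {V W : X.Opens} (h : W ≤ V) {t : Γ(X, V)}, t * (1 - t) ∈ (I ^ k).map (rA A X V) →
      resO X h t * (1 - resO X h t) ∈ (I ^ k).map (rA A X W) := by
    intro V W h t ht
    have h2 := Ideal.mem_map_of_mem (X.presheaf.map (homOfLE h).op).hom ht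
    rw [Ideal.map_map, show (X.presheaf.map (homOfLE h).op).hom.comp (rA A X V) = rA A X W from
      RingHom.ext fun a => resO_rA A X h a, map_mul, map_sub, map_one] at h2
    exact h2
  obtain ⟨s, hs⟩ := hk e fun i => separates_unique I hun.ge (hUa 1 i) k (hres _ (he1 _)) (hres _ (he1 _))
    (hresI _ (he2 _)) (hresI _ (he2 _))
  refine ⟨s, fun x _ => ?_⟩
  obtain ⟨l, hl⟩ := Opens.mem_iSup.1 (hU.ge (show x ∈ (⊤ : X.Opens) from trivial))
  let i : Fin 1 → ι := fun _ => l
  have hxi : x ∈ cOpen U i := (mem_cOpen U i x).2 fun _ => hl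
  have hd : ∀ {t t' : Γ(X, cOpen U i)}, t - t' ∈ I.map (rA A X (cOpen U i)) → x ∈ P ∪ Q →
      x ∉ X.basicOpen t' → x ∉ X.basicOpen t := by
    intro t t' h hx ht' ht
    have h1 := not_mem_basicOpen_of_mem_map I hxi (hun.le hx) h
    rw [X.mem_basicOpen _ _ hxi] at h1 ht' ht
    refine ht' ?_
    have h3 := IsLocalRing.isUnit_or_isUnit_of_isUnit_add
      (show IsUnit ((X.presheaf.germ _ x hxi).hom t' + (X.presheaf.germ _ x hxi).hom (t - t')) by
        rwa [← map_add, add_sub_cancel])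
    exact h3.resolve_right h1
  refine ⟨fun hxP hb => ?_, fun hxQ hb => ?_⟩
  · refine hd (t := resO X le_top (1 - s)) (t' := 1 - resO X (cOpen_le U i 0) (e l)) ?_ (Or.inl hxP)
      (fun h => ((hres (cOpen_le U i 0) (he1 l)) x hxi).1 hxP h) ?_
    · rw [show resO X (le_top : cOpen U i ≤ ⊤) (1 - s) = 1 - resO X le_top s by simp [resO],
        sub_sub_sub_cancel_left, ← neg_sub]
      exact neg_mem (hs i)
    · rw [Scheme.basicOpen_res]
      exact ⟨hxi, hb⟩
  · refine hd (t := resO X le_top s) (t' := resO X (cOpen_le U i 0) (e l)) (hs i) (Or.inr hxQ)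
      (fun h => ((hres (cOpen_le U i 0) (he1 l)) x hxi).2 hxQ h) ?_
    rw [Scheme.basicOpen_res]
    exact ⟨hxi, hb⟩

end Groth.Agent.Stein58
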