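import Groth.Agent.Stein58.ProperModelBasic
import Mathlib.AlgebraicGeometry.Morphisms.Proper
import Mathlib.AlgebraicGeometry.IdealSheaf.Functorial
import Mathlib.Algebra.MvPolynomial.Variables
import Mathlib.Data.Finset.Sum

/-!
Models over finitely generated subrings of a scheme proper over an affine base: the field-valued points of
the models converge to those of the scheme.
-/

set_option autoImplicit false
set_option maxSynthPendingDepth 3

universe u

open CategoryTheory CategoryTheory.Limits AlgebraicGeometry TopologicalSpace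
open Groth.Agent.Approx60

noncomputable section

namespace Groth.Agent.Stein58

/-- Evaluation of integral polynomials. -/
abbrev evalP {σ : Type u} {R : Type u} [CommRing R] (g : σ → R) : MvPolynomial σ ℤ →+* R :=
  MvPolynomial.eval₂Hom (Int.castRingHom R) g

lemma evalP_map {σ R S : Type u} [CommRing R] [CommRing S] (φ : R →+* S) (g : σ → R) (P : MvPolynomial σ ℤ) :
    φ (evalP g P) = evalP (fun i => φ (g i)) P := by
  rw [evalP, MvPolynomial.map_eval₂Hom, RingHom.eq_intCast' (φ.comp (Int.castRingHom R))]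

lemma pushout_closure {R B C P : CommRingCat.{u}} {f : R ⟶ B} {g : R ⟶ C} {l : B ⟶ P} {r : C ⟶ P}
    (h : IsPushout f g l r) : Subring.closure (Set.range l ∪ Set.range r) = ⊤ := by
  let S := Subring.closure (Set.range l ∪ Set.range r)
  let l' : B ⟶ CommRingCat.of S := CommRingCat.ofHom (l.hom.codRestrict S fun x => Subring.subset_closure (Or.inl ⟨x, rfl⟩))
  let r' : C ⟶ CommRingCat.of S := CommRingCat.ofHom (r.hom.codRestrict S fun x => Subring.subset_closure (Or.inr ⟨x, rfl⟩))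
  have hw : f ≫ l' = g ≫ r' := by
    ext x
    exact congrArg (fun φ : R ⟶ P => φ x) h.w
  let d := h.desc l' r' hw
  have hd : d ≫ CommRingCat.ofHom S.subtype = 𝟙 P := by
    apply h.hom_ext
    · rw [h.inl_desc_assoc, Category.comp_id]; rfl
    · rw [h.inr_desc_assoc, Category.comp_id]; rfl
  refine top_le_iff.1 fun x _ => ?_
  have := congrArg (fun φ : P ⟶ P => φ x) hd
  exact (show (d x : P) = x from this) ▸ (d x).2

variable {A : Type u} [CommRing A] {X : Scheme.{u}} {f : X ⟶ Spec (CommRingCat.of A)} (E : Emb f)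

local notation "S" => Spec (CommRingCat.of A)

namespace Emb

/-- The embedding. -/
abbrev incl : X ⟶ prodZ E.W₀ S := pullback.lift E.a f (specULiftZIsTerminal.hom_ext _ _)

/-- The ambient scheme of the model over a finitely generated subring. -/
abbrev W (F : Finset A) : Scheme.{u} := prodZ E.W₀ (Spec (CommRingCat.of (subR F)))

/-- The base of the model. -/
abbrev red (F : Finset A) : S ⟶ Spec (CommRingCat.of (subR F)) :=
  Spec.map (CommRingCat.ofHom (subR F).subtype)

/-- The map to the ambient scheme of the model. -/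
abbrev toW (F : Finset A) : X ⟶ E.W F :=
  pullback.lift E.a (f ≫ red F) (specULiftZIsTerminal.hom_ext _ _)

lemma incl_comp (F : Finset A) : E.incl ≫ prodZmap (𝟙 E.W₀) (red F) = E.toW F := by
  apply pullback.hom_ext
  · simp only [Category.assoc, pullback.lift_fst, pullback.lift_fst_assoc, Category.comp_id]
  · simp only [Category.assoc, pullback.lift_snd, pullback.lift_snd_assoc]

variable (U : E.W₀.Opens)

/-- Coordinates and scalars on the chart of `X`. -/
def gen : Γ(E.W₀, U) ⊕ A → Γ(X, E.a ⁻¹ᵁ U) :=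
  Sum.elim (E.a.app U) (fun a => f.appLE ⊤ (E.a ⁻¹ᵁ U) le_top ((Scheme.ΓSpecIso (CommRingCat.of A)).inv a))

/-- A pair of homomorphisms with values in `L` satisfying the relations of the chart. -/
def Vanishes {L : Type u} [CommRing L] (p : Γ(E.W₀, U) → L) (α : A → L) : Prop :=
  ∀ P : MvPolynomial (Γ(E.W₀, U) ⊕ A) ℤ, evalP (E.gen U) P = 0 → evalP (Sum.elim p α) P = 0

variable {U} (hU : IsAffineOpen U)

include hU in
/-- The chart of `X` is generated by coordinates and scalars. -/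
theorem evalP_gen_surjective : Function.Surjective (evalP (E.gen U)) := by
  let V := pullback.fst (toZ E.W₀) (toZ S) ⁻¹ᵁ U
  have hV : IsAffineOpen V := by
    have := isAffineOpen_box hU (isAffineOpen_top S)
    rwa [Scheme.Hom.preimage_top, inf_top_eq] at this
  have H := (IsPullback.of_hasPullback (toZ E.W₀) (toZ S))
  have hUY : V = pullback.fst (toZ E.W₀) (toZ S) ⁻¹ᵁ U ⊓ pullback.snd (toZ E.W₀) (toZ S) ⁻¹ᵁ ⊤ := by simp [V]
  have h1 : (⊤ : Scheme.Opens S) ≤ toZ S ⁻¹ᵁ ⊤ := le_top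
  have h2 : U ≤ toZ E.W₀ ⁻¹ᵁ ⊤ := le_top
  have hpo := (isIso_pushoutSection_iff H h1 h2 hUY).1
    (isIso_pushoutSection_of_isAffineOpen H h1 h2 hUY (isAffineOpen_top _) (isAffineOpen_top _) hU)
  have hle : E.a ⁻¹ᵁ U ≤ E.incl ⁻¹ᵁ V := by
    rw [← Scheme.Hom.comp_preimage, pullback.lift_fst]
  have hsurj : Function.Surjective (E.incl.appLE V (E.a ⁻¹ᵁ U) hle) := by
    haveI := E.closed
    have e : E.a ⁻¹ᵁ U = E.incl ⁻¹ᵁ V := by rw [← Scheme.Hom.comp_preimage, pullback.lift_fst]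
    intro y
    obtain ⟨x, hx⟩ := E.incl.app_surjective V hV (X.presheaf.map (eqToHom e.symm).op y)
    refine ⟨x, ?_⟩
    rw [Scheme.Hom.appLE]
    show X.presheaf.map _ (E.incl.app V x) = y
    rw [hx, ← CommRingCat.comp_apply, ← Functor.map_comp,
      show (eqToHom e.symm).op ≫ (homOfLE hle).op = 𝟙 _ from Subsingleton.elim _ _, X.presheaf.map_id]
    rfl
  refine RingHom.range_eq_top.1 (top_le_iff.1 fun y _ => ?_)
  obtain ⟨x, rfl⟩ := hsurj y
  have hmem : x ∈ Subring.closure (_ ∪ _) := (pushout_closure hpo).ge (Subring.mem_top x)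
  refine (Subring.closure_le (t := ((evalP (E.gen U)).range).comap (E.incl.appLE V (E.a ⁻¹ᵁ U) hle).hom)).2
    ?_ hmem
  rintro _ (⟨b, rfl⟩ | ⟨b, rfl⟩)
  · refine ⟨MvPolynomial.X (Sum.inl b), ?_⟩
    rw [evalP, MvPolynomial.eval₂Hom_X']
    show E.a.app U b = (_ ≫ E.incl.appLE V _ hle) b
    rw [Scheme.Hom.appLE_comp_appLE, Scheme.Hom.app_eq_appLE]
    simp only [pullback.lift_fst]
  · refine ⟨MvPolynomial.X (Sum.inr ((Scheme.ΓSpecIso (CommRingCat.of A)).hom b)), ?_⟩
    rw [evalP, MvPolynomial.eval₂Hom_X']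
    show f.appLE ⊤ _ le_top (((Scheme.ΓSpecIso (CommRingCat.of A)).hom ≫ (Scheme.ΓSpecIso (CommRingCat.of A)).inv) b) =
      (_ ≫ E.incl.appLE V _ hle) b
    rw [Iso.hom_inv_id, Scheme.Hom.appLE_comp_appLE]
    simp only [pullback.lift_snd]
    rfl

include hU in
/-- Points of `X` from homomorphisms satisfying the relations. -/
theorem exists_point {L : Type u} [CommRing L] (p : Γ(E.W₀, U) →+* L) (α : A →+* L) (hv : E.Vanishes U p α) :
    ∃ x : Spec (CommRingCat.of L) ⟶ X,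
      x ≫ E.a = Spec.map (CommRingCat.ofHom p) ≫ hU.fromSpec ∧ x ≫ f = Spec.map (CommRingCat.ofHom α) := by
  have hsurj := E.evalP_gen_surjective hU
  let φ : Γ(X, E.a ⁻¹ᵁ U) →+* L := RingHom.liftOfSurjective _ hsurj
    ⟨evalP (Sum.elim p α), fun P hP => hv P hP⟩
  have hφ : ∀ P, φ (evalP (E.gen U) P) = evalP (Sum.elim p α) P := fun P =>
    RingHom.liftOfSurjective_comp_apply _ hsurj ⟨evalP (Sum.elim p α), fun P hP => hv P hP⟩ P
  have hX : IsAffineOpen (E.a ⁻¹ᵁ U) := by
    haveI := E.closed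
    have hV : IsAffineOpen (pullback.fst (toZ E.W₀) (toZ S) ⁻¹ᵁ U) := by
      have := isAffineOpen_box hU (isAffineOpen_top S)
      rwa [Scheme.Hom.preimage_top, inf_top_eq] at this
    have := hV.preimage E.incl
    rwa [← Scheme.Hom.comp_preimage, pullback.lift_fst] at this
  refine ⟨Spec.map (CommRingCat.ofHom φ) ≫ hX.fromSpec, ?_, ?_⟩
  · rw [Category.assoc, ← IsAffineOpen.SpecMap_appLE_fromSpec E.a hU hX le_rfl, ← Spec.map_comp_assoc]
    congr 2
    ext b
    show φ (E.a.appLE U (E.a ⁻¹ᵁ U) _ b) = p b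
    rw [← Scheme.Hom.app_eq_appLE]
    simpa [evalP, gen] using hφ (MvPolynomial.X (Sum.inl b))
  · rw [Category.assoc, ← IsAffineOpen.SpecMap_appLE_fromSpec f (isAffineOpen_top S) hX le_top,
      IsAffineOpen.fromSpec_top, Scheme.isoSpec_Spec_inv, ← Spec.map_comp, ← Spec.map_comp]
    congr 1
    ext a
    show φ (f.appLE ⊤ (E.a ⁻¹ᵁ U) _ ((Scheme.ΓSpecIso (CommRingCat.of A)).inv a)) = α a
    simpa [evalP, gen] using hφ (MvPolynomial.X (Sum.inr a))

/-- Extension by zero of a map on a subring. -/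
def ext0 {F : Finset A} {L : Type u} [CommRing L] (α : subR F →+* L) (a : A) : L :=
  open Classical in if h : a ∈ subR F then α ⟨a, h⟩ else 0

lemma ext0_apply {F : Finset A} {L : Type u} [CommRing L] (α : subR F →+* L) {a : A} (h : a ∈ subR F) :
    ext0 α a = α ⟨a, h⟩ := by
  rw [ext0, dif_pos h]

/-- The scalars occurring in a polynomial. -/
def scalars {σ : Type u} (P : MvPolynomial (σ ⊕ A) ℤ) : Finset A := P.vars.toRight

lemma mem_scalars {σ : Type u} {P : MvPolynomial (σ ⊕ A) ℤ} {a : A} (h : Sum.inr a ∈ P.vars) : a ∈ scalars P :=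
  Finset.mem_toRight.2 h

variable (U) in
/-- Field-valued points of the model satisfy each relation of the chart once the model is large. -/
theorem evalP_eq_zero_of_mem_closure {P : MvPolynomial (Γ(E.W₀, U) ⊕ A) ℤ} (hP : evalP (E.gen U) P = 0)
    {F : Finset A} (hF : scalars P ⊆ F) {K : Type u} [Field K] (z : Spec (CommRingCat.of K) ⟶ E.W F)
    (hz : z (IsLocalRing.closedPoint K) ∈ closure (Set.range (E.toW F)))
    (h : (z ≫ pullback.fst _ _) ⁻¹ᵁ U = ⊤) (α : subR F →+* K)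
    (hα : z ≫ pullback.snd _ _ = Spec.map (CommRingCat.ofHom α)) :
    evalP (Sum.elim (coord (z ≫ pullback.fst _ _) h) (ext0 α)) P = 0 := by
  classical
  let V : (E.W F).Opens := pullback.fst (toZ E.W₀) (toZ (Spec (CommRingCat.of (subR F)))) ⁻¹ᵁ U
  let β₁ : Γ(E.W₀, U) → Γ(E.W F, V) := (pullback.fst _ _ : E.W F ⟶ E.W₀).app U
  let γ₁ : subR F →+* Γ(E.W F, V) := ((Scheme.ΓSpecIso (CommRingCat.of (subR F))).inv ≫
    (pullback.snd _ _ : E.W F ⟶ _).appLE ⊤ V le_top).hom
  let t : Γ(E.W F, V) := evalP (Sum.elim β₁ (ext0 γ₁)) P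
  have hmem : ∀ {a : A}, Sum.inr a ∈ P.vars → a ∈ subR F := fun ha =>
    Subring.subset_closure (hF (mem_scalars ha))
  have hle : E.a ⁻¹ᵁ U ≤ E.toW F ⁻¹ᵁ V := by
    rw [← Scheme.Hom.comp_preimage, pullback.lift_fst]
  have h0 : (E.toW F).appLE V (E.a ⁻¹ᵁ U) hle t = 0 := by
    refine Eq.trans ?_ hP
    rw [show ((E.toW F).appLE V (E.a ⁻¹ᵁ U) hle : _ → _) t = ((E.toW F).appLE V (E.a ⁻¹ᵁ U) hle).hom t from rfl,
      evalP_map]
    refine MvPolynomial.eval₂Hom_congr' rfl (fun i hi _ => ?_) rfl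
    rcases i with b | a
    · show ((pullback.fst _ _ : E.W F ⟶ E.W₀).app U ≫ (E.toW F).appLE V _ hle) b = E.a.app U b
      rw [Scheme.Hom.app_eq_appLE, Scheme.Hom.app_eq_appLE, Scheme.Hom.appLE_comp_appLE]
      simp only [pullback.lift_fst]
    · show ((E.toW F).appLE V (E.a ⁻¹ᵁ U) hle) (ext0 γ₁ a) = _
      rw [ext0_apply γ₁ (hmem hi)]
      show (((Scheme.ΓSpecIso (CommRingCat.of (subR F))).inv ≫ (pullback.snd _ _ : E.W F ⟶ _).appLE ⊤ V le_top) ≫
        (E.toW F).appLE V _ hle) ⟨a, hmem hi⟩ =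
        ((Scheme.ΓSpecIso (CommRingCat.of A)).inv ≫ f.appLE ⊤ _ le_top) ((subR F).subtype ⟨a, hmem hi⟩)
      show _ = (CommRingCat.ofHom (subR F).subtype ≫ (Scheme.ΓSpecIso (CommRingCat.of A)).inv ≫
        f.appLE ⊤ _ le_top) ⟨a, hmem hi⟩
      rw [Category.assoc, Scheme.Hom.appLE_comp_appLE, Scheme.ΓSpecIso_inv_naturality_assoc,
        show (red F).appTop = (red F).appLE ⊤ ⊤ le_top from Scheme.Hom.app_eq_appLE _,
        Scheme.Hom.appLE_comp_appLE]
      simp only [pullback.lift_snd]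
  have hdisj : Disjoint ((E.W F).basicOpen t : Set (E.W F)) (closure (Set.range (E.toW F))) := by
    refine Disjoint.closure_right ?_ ((E.W F).basicOpen t).2
    rw [Set.disjoint_iff_forall_ne]
    rintro _ hx _ ⟨x, rfl⟩ rfl
    have hxU : x ∈ E.a ⁻¹ᵁ U := by
      have := (E.W F).basicOpen_le t hx
      rwa [← pullback.lift_fst (E.a) (f ≫ red F) (specULiftZIsTerminal.hom_ext (E.a ≫ toZ _) _)]
    have : x ∈ X.basicOpen ((E.toW F).appLE V (E.a ⁻¹ᵁ U) hle t) := by
      rw [Scheme.basicOpen_appLE]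
      exact ⟨hxU, hx⟩
    rw [h0, Scheme.basicOpen_zero] at this
    exact this
  have hzV : z ⁻¹ᵁ V = ⊤ := by rw [← Scheme.Hom.comp_preimage]; exact h
  have hzero : coord z hzV t = 0 := by
    by_contra hne
    exact Set.disjoint_left.1 hdisj ((coord_ne_zero_iff z hzV t).1 hne) hz
  rw [evalP_map] at hzero
  refine Eq.trans ?_ hzero
  refine MvPolynomial.eval₂Hom_congr' rfl (fun i hi _ => ?_) rfl
  rcases i with b | a
  · show coord (z ≫ pullback.fst _ _) h b = coord z hzV ((pullback.fst _ _ : E.W F ⟶ E.W₀).app U b)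
    rw [Scheme.Hom.app_eq_appLE, ← coord_comp z _ le_rfl hzV]
  · show ext0 α a = coord z hzV (ext0 γ₁ a)
    rw [ext0_apply α (hmem hi), ext0_apply γ₁ (hmem hi)]
    show α ⟨a, hmem hi⟩ = coord z hzV ((pullback.snd _ _ : E.W F ⟶ _).appLE ⊤ V le_top
      ((Scheme.ΓSpecIso (CommRingCat.of (subR F))).inv ⟨a, hmem hi⟩))
    rw [← coord_comp z (pullback.snd _ _ : E.W F ⟶ _) le_top hzV]
    show α ⟨a, hmem hi⟩ = ((Scheme.ΓSpecIso (CommRingCat.of (subR F))).inv ≫
      (z ≫ (pullback.snd _ _ : E.W F ⟶ _)).appLE ⊤ ⊤ _ ≫ (Scheme.ΓSpecIso (CommRingCat.of K)).hom) ⟨a, hmem hi⟩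
    simp only [hα]
    rw [show (Spec.map (CommRingCat.ofHom α)).appLE ⊤ ⊤ le_top = (Spec.map (CommRingCat.ofHom α)).appTop from
      (Scheme.Hom.app_eq_appLE _).symm, Scheme.ΓSpecIso_naturality, Iso.inv_hom_id_assoc]
    rfl

end Emb

end Groth.Agent.Stein58
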