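import Groth.Agent.Approx60.ImmStage
import Groth.Agent.Lim60.EvSep
import Mathlib.RingTheory.Adjoin.FG
import Mathlib.AlgebraicGeometry.ValuativeCriterion
import Mathlib.Algebra.MvPolynomial.Basic

/-!
Models over finitely generated subrings of a scheme proper over an affine base: points with values in
fields and their coordinates.
-/

set_option autoImplicit false
set_option maxSynthPendingDepth 3

universe u

open CategoryTheory CategoryTheory.Limits AlgebraicGeometry TopologicalSpace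
open Groth.Agent.Approx60

noncomputable section

namespace Groth.Agent.Stein58

section Eval

variable {W : Scheme.{u}} {R : Type u} [CommRing R] (g : Spec (CommRingCat.of R) ⟶ W) {U : W.Opens}

/-- Coordinates in `U` of a point with values in `R`. -/
def coord (h : g ⁻¹ᵁ U = ⊤) : Γ(W, U) →+* R :=
  (g.appLE U ⊤ h.ge ≫ (Scheme.ΓSpecIso (CommRingCat.of R)).hom).hom

lemma SpecMap_coord (hU : IsAffineOpen U) (h : g ⁻¹ᵁ U = ⊤) :
    Spec.map (CommRingCat.ofHom (coord g h)) ≫ hU.fromSpec = g := by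
  have e : Spec.map (g.appLE U ⊤ h.ge ≫ (Scheme.ΓSpecIso (CommRingCat.of R)).hom) ≫ hU.fromSpec = g := by
    rw [Spec.map_comp, Category.assoc, IsAffineOpen.SpecMap_appLE_fromSpec g hU (isAffineOpen_top _),
      IsAffineOpen.fromSpec_top, SpecMap_ΓSpecIso_hom]
    simp
  exact e

lemma coord_res {U' : W.Opens} (hle : U' ≤ U) (h' : g ⁻¹ᵁ U' = ⊤) (b : Γ(W, U)) :
    coord g h' (W.presheaf.map (homOfLE hle).op b) =
      coord g (top_le_iff.1 (h'.ge.trans (g.preimage_mono hle))) b := by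
  show (W.presheaf.map (homOfLE hle).op ≫ g.appLE U' ⊤ _ ≫ (Scheme.ΓSpecIso _).hom) b = _
  rw [← Category.assoc, Scheme.Hom.map_appLE]
  rfl

lemma coord_comp {W' : Scheme.{u}} (k : W ⟶ W') {U' : W'.Opens} (hle : U ≤ k ⁻¹ᵁ U') (h : g ⁻¹ᵁ U = ⊤)
    (b : Γ(W', U')) :
    coord (g ≫ k) (top_le_iff.1 (h.ge.trans (g.preimage_mono hle))) b = coord g h (k.appLE U' U hle b) := by
  show ((g ≫ k).appLE U' ⊤ _ ≫ (Scheme.ΓSpecIso _).hom) b = (k.appLE U' U hle ≫ g.appLE U ⊤ _ ≫ (Scheme.ΓSpecIso _).hom) b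
  rw [← Category.assoc (k.appLE U' U hle), Scheme.Hom.appLE_comp_appLE]

lemma coord_preimage {V : Type u} [CommRing V] (ψ : R →+* V) (h : g ⁻¹ᵁ U = ⊤) (b : Γ(W, U)) :
    coord (Spec.map (CommRingCat.ofHom ψ) ≫ g) (by rw [Scheme.Hom.comp_preimage, h]; rfl) b =
      ψ (coord g h b) := by
  show ((Spec.map (CommRingCat.ofHom ψ) ≫ g).appLE U ⊤ _ ≫ (Scheme.ΓSpecIso _).hom) b =
    ((g.appLE U ⊤ _ ≫ (Scheme.ΓSpecIso _).hom) ≫ CommRingCat.ofHom ψ) b
  rw [Category.assoc, ← Scheme.ΓSpecIso_naturality, ← Category.assoc,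
    show (Spec.map (CommRingCat.ofHom ψ)).appTop = (Spec.map (CommRingCat.ofHom ψ)).appLE ⊤ ⊤ le_top from
      Scheme.Hom.app_eq_appLE _, Scheme.Hom.appLE_comp_appLE]

/-- For points with values in a field, coordinates detect basic opens. -/
lemma coord_ne_zero_iff {K : Type u} [Field K] (g : Spec (CommRingCat.of K) ⟶ W) (h : g ⁻¹ᵁ U = ⊤)
    (b : Γ(W, U)) : coord g h b ≠ 0 ↔ g (IsLocalRing.closedPoint K) ∈ W.basicOpen b := by
  change _ ↔ IsLocalRing.closedPoint K ∈ g ⁻¹ᵁ W.basicOpen b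
  have e : g ⁻¹ᵁ W.basicOpen b = (Spec (CommRingCat.of K)).basicOpen (g.appLE U ⊤ h.ge b) := by
    rw [Scheme.basicOpen_appLE]
    simp
  rw [e, show g.appLE U ⊤ h.ge b = (Scheme.ΓSpecIso (CommRingCat.of K)).inv (coord g h b) from by
    show _ = (g.appLE U ⊤ h.ge ≫ (Scheme.ΓSpecIso (CommRingCat.of K)).hom ≫ (Scheme.ΓSpecIso (CommRingCat.of K)).inv) b
    rw [Iso.hom_inv_id, Category.comp_id], basicOpen_eq_of_affine']
  simp
  exact ⟨fun hne hc => hne ((Submodule.mem_bot (R := K)).1 (by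
      rwa [← IsLocalRing.maximalIdeal_eq_bot])), fun hc h0 => hc (by rw [h0]; exact zero_mem _)⟩

lemma preimage_eq_top_iff {K : Type u} [Field K] (g : Spec (CommRingCat.of K) ⟶ W) :
    g ⁻¹ᵁ U = ⊤ ↔ g (IsLocalRing.closedPoint K) ∈ U := by
  refine ⟨fun h => (h.ge trivial : _), fun h => top_le_iff.1 fun x _ => ?_⟩
  rw [Subsingleton.elim (α := PrimeSpectrum K) x (IsLocalRing.closedPoint K)]
  exact h

lemma preimage_eq_top_of_mem {R : Type u} [CommRing R] [IsLocalRing R] (g : Spec (CommRingCat.of R) ⟶ W)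
    (h : g (IsLocalRing.closedPoint R) ∈ U) : g ⁻¹ᵁ U = ⊤ :=
  top_le_iff.1 fun x _ => ((IsLocalRing.specializes_closedPoint x).map g.continuous).mem_open U.2 h

end Eval

/-- The subring generated by a finite subset. -/
abbrev subR {A : Type u} [CommRing A] (F : Finset A) : Subring A := Subring.closure (F : Set A)

instance {A : Type u} [CommRing A] (F : Finset A) : IsNoetherianRing (subR F) :=
  is_noetherian_subring_closure _ F.finite_toSet

/-- A scheme with a proper map to `Spec A`, embedded in `W₀ × Spec A` with `W₀` separated of finite type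
over the integers. -/
structure Emb {A : Type u} [CommRing A] {X : Scheme.{u}} (f : X ⟶ Spec (CommRingCat.of A)) where
  W₀ : Scheme.{u}
  sep : IsSeparated (toZ W₀)
  lft : LocallyOfFiniteType (toZ W₀)
  compact : CompactSpace W₀
  a : X ⟶ W₀
  closed : IsClosedImmersion (pullback.lift a f (specULiftZIsTerminal.hom_ext _ _) : X ⟶ prodZ W₀ (Spec (CommRingCat.of A)))

/-- Such embeddings exist. -/
theorem nonempty_emb {A : Type u} [CommRing A] {X : Scheme.{u}} (f : X ⟶ Spec (CommRingCat.of A)) [IsProper f] :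
    Nonempty (Emb f) := by
  have : CompactSpace X := QuasiCompact.compactSpace_of_compactSpace f
  have : QuasiSeparatedSpace X := quasiSeparatedSpace_of_quasiSeparated f
  obtain ⟨J, _, _, D, π, hD, ⟨hl⟩⟩ := exists_approximation X
  obtain ⟨b₀⟩ := IsCofiltered.nonempty (C := J)
  haveI := hD.aff
  haveI := hD.compact
  haveI : ∀ i, QuasiSeparatedSpace (D.obj i) := fun i => haveI := hD.lft i; quasiSeparatedSpace_of_lft_toZ (D.obj i)
  let t : D ⟶ (Functor.const J).obj (Spec (CommRingCat.of (ULift.{u} ℤ))) :=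
    { app := fun i => toZ (D.obj i)
      naturality := fun _ _ _ => specULiftZIsTerminal.hom_ext _ _ }
  have : IsSeparated ((Cone.mk X π).π.app b₀ ≫ t.app b₀) := by
    rw [show (Cone.mk X π).π.app b₀ ≫ t.app b₀ = f ≫ toZ _ from specULiftZIsTerminal.hom_ext _ _]
    infer_instance
  obtain ⟨i₁, hi₁⟩ := Lim60.exists_isSeparated_structureMap _ D t (Cone.mk X π) hl b₀
  obtain ⟨b, O, -, j, hj, hj2, hj1⟩ := exists_closedImmersion_stage (Over.forget i₁ ⋙ D)
    ((Cone.mk X π).whisker (Over.forget i₁))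
    ((Functor.Initial.isLimitWhiskerEquiv (Over.forget i₁) (Cone.mk X π)).symm hl) (hD.restrict i₁) f
  have hsep : IsSeparated (toZ (D.obj b.left)) := hi₁ b.left b.hom
  let a : X ⟶ D.obj b.left := π.app b.left
  let l : X ⟶ prodZ (D.obj b.left) (Spec (CommRingCat.of A)) :=
    pullback.lift a f (specULiftZIsTerminal.hom_ext _ _)
  have hl' : (j ≫ O.ι : X ⟶ prodZ (D.obj b.left) (Spec (CommRingCat.of A))) = l := by
    apply pullback.hom_ext
    · rw [pullback.lift_fst, Category.assoc]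
      exact hj1
    · rw [pullback.lift_snd, Category.assoc]
      exact hj2
  refine ⟨⟨D.obj b.left, hsep, hD.lft _, hD.compact _, a, ?_⟩⟩
  have hi : IsImmersion l := hl' ▸ MorphismProperty.comp_mem (W := @IsImmersion) j O.ι
    (inferInstanceAs (IsImmersion j)) (inferInstanceAs (IsImmersion O.ι))
  have : IsProper (l ≫ pullback.snd _ _) := by rw [pullback.lift_snd]; infer_instance
  have : IsProper l := IsProper.of_comp l (pullback.snd _ _)
  exact .of_isPreimmersion _ l.isClosedMap.isClosed_range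

end Groth.Agent.Stein58
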