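import Groth.Agent.Stein58.ProperModelMain
import Mathlib.Topology.NoetherianSpace

/-!
The models of a scheme proper over an affine base are eventually proper and have eventually the same fibre
at a given field-valued point.
-/

set_option autoImplicit false
set_option maxSynthPendingDepth 3

universe u

open CategoryTheory CategoryTheory.Limits AlgebraicGeometry TopologicalSpace Filter
open Groth.Agent.Approx60

noncomputable section

namespace Groth.Agent.Stein58

variable {A : Type u} [CommRing A] {X : Scheme.{u}} {f : X ⟶ Spec (CommRingCat.of A)} (E : Emb f)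

namespace Emb

/-- The models are eventually proper. -/
theorem eventually_isProper [IsProper f] :
    ∃ F₀ : Finset A, ∀ F, F₀ ⊆ F → IsProper (E.str F) := by
  obtain ⟨F₀, h⟩ := E.eventually_valuativeExistence
  refine ⟨F₀, fun F hF => ?_⟩
  haveI := E.sep
  haveI := E.lft
  haveI := E.compact
  haveI : QuasiCompact (toZ E.W₀) := inferInstance
  haveI : LocallyOfFiniteType (pullback.snd (toZ E.W₀) (toZ (Spec (CommRingCat.of (subR F))))) :=
    MorphismProperty.pullback_snd _ _ inferInstance
  refine IsProper.of_valuativeCriterion _ (ValuativeCriterion.iff.2 ⟨h F hF, ?_⟩)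
  exact IsSeparated.valuativeCriterion _

/-- A point lying in all large models lies in the scheme. -/
theorem mem_range_incl_of_forall [IsProper f] {K : Type u} [Field K] (F₀ : Finset A)
    (y : Spec (CommRingCat.of K) ⟶ prodZ E.W₀ (Spec (CommRingCat.of A)))
    (hy : ∀ G, F₀ ⊆ G → (y ≫ prodZmap (𝟙 E.W₀) (red G)) (IsLocalRing.closedPoint K) ∈
      closure (Set.range (E.toW G))) :
    y (IsLocalRing.closedPoint K) ∈ Set.range E.incl := by
  classical
  obtain ⟨_, ⟨U, hU, rfl⟩, hUw, -⟩ := E.W₀.isBasis_affineOpens.exists_subset_of_mem_open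
    (Set.mem_univ ((y ≫ pullback.fst _ _) (IsLocalRing.closedPoint K))) isOpen_univ
  have hyU : (y ≫ pullback.fst _ _) ⁻¹ᵁ U = ⊤ := (preimage_eq_top_iff _).2 hUw
  let p : Γ(E.W₀, U) →+* K := coord _ hyU
  let α : A →+* K := (Spec.preimage (y ≫ pullback.snd _ _)).hom
  have hv : E.Vanishes U p α := fun P hP => by
    have hfst : (y ≫ prodZmap (𝟙 E.W₀) (red (F₀ ∪ scalars P))) ≫ pullback.fst _ _ = y ≫ pullback.fst _ _ := by
      rw [Category.assoc, pullback.lift_fst, Category.comp_id]
    have hsnd : (y ≫ prodZmap (𝟙 E.W₀) (red (F₀ ∪ scalars P))) ≫ pullback.snd _ _ =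
        Spec.map (CommRingCat.ofHom (α.comp (subR (F₀ ∪ scalars P)).subtype)) := by
      rw [Category.assoc, pullback.lift_snd, ← Category.assoc, ← Spec.map_preimage (y ≫ pullback.snd _ _),
        ← Spec.map_comp]
      rfl
    have h0 := E.evalP_eq_zero_of_mem_closure U hP (F := F₀ ∪ scalars P) Finset.subset_union_right _
      (hy _ Finset.subset_union_left) (by rw [hfst]; exact hyU) _ hsnd
    refine Eq.trans ?_ h0
    refine MvPolynomial.eval₂Hom_congr' rfl (fun i hi _ => ?_) rfl
    rcases i with b | a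
    · show p b = _
      simp only [Sum.elim_inl, hfst]
      rfl
    · show α a = ext0 _ a
      rw [ext0_apply _ (Subring.subset_closure (Finset.subset_union_right (mem_scalars hi)))]
      rfl
  obtain ⟨x, hxa, hxf⟩ := E.exists_point hU p α hv
  have : x ≫ E.incl = y := by
    apply pullback.hom_ext
    · rw [Category.assoc, pullback.lift_fst, hxa, SpecMap_coord _ hU hyU]
    · rw [Category.assoc, pullback.lift_snd, hxf]
      exact Spec.map_preimage _
  exact ⟨x (IsLocalRing.closedPoint K), by rw [← Scheme.Hom.comp_apply, this]⟩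

/-- Inclusions of subrings. -/
theorem specMap_subtype_inclusion {R R' : Subring A} (hle : R ≤ R') :
    Spec.map (CommRingCat.ofHom R'.subtype) ≫ Spec.map (CommRingCat.ofHom (Subring.inclusion hle)) =
      Spec.map (CommRingCat.ofHom R.subtype) := by
  rw [← Spec.map_comp, show CommRingCat.ofHom (Subring.inclusion hle) ≫ CommRingCat.ofHom R'.subtype =
    CommRingCat.ofHom R.subtype from CommRingCat.hom_ext (RingHom.ext fun _ => rfl)]

/-- Images of closures of ranges. -/
theorem mem_closure_range_of_comp {P W W' T : Scheme.{u}} {v : P ⟶ W} {v' : P ⟶ W'} {tr : W ⟶ W'}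
    {a : T ⟶ W} {a' : T ⟶ W'} (e1 : v ≫ tr = v') (e2 : a ≫ tr = a') (w : T)
    (hw : a w ∈ closure (Set.range v)) : a' w ∈ closure (Set.range v') := by
  subst e1 e2
  rw [Scheme.Hom.comp_apply]
  refine map_mem_closure tr.continuous hw ?_
  rintro _ ⟨x, rfl⟩
  exact ⟨x, Scheme.Hom.comp_apply _ _ _⟩

/-- The models decrease. -/
theorem preimage_closure_anti [IsProper f] {T : Scheme.{u}} (t : T ⟶ Spec (CommRingCat.of A)) {F G : Finset A}
    (hFG : F ⊆ G) (w : (prodZ E.W₀ T : Scheme.{u}))
    (hw : prodZmap (𝟙 E.W₀) (t ≫ red G) w ∈ closure (Set.range (E.toW G))) :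
    prodZmap (𝟙 E.W₀) (t ≫ red F) w ∈ closure (Set.range (E.toW F)) := by
  have hle : subR F ≤ subR G := Subring.closure_mono (by simpa using hFG)
  have hρ : red G ≫ Spec.map (CommRingCat.ofHom (Subring.inclusion hle)) = red F := specMap_subtype_inclusion hle
  let tr : E.W G ⟶ E.W F := prodZmap (𝟙 E.W₀) (Spec.map (CommRingCat.ofHom (Subring.inclusion hle)))
  have e1 : E.toW G ≫ tr = E.toW F := by
    apply pullback.hom_ext
    · simp only [tr, Category.assoc, pullback.lift_fst, Category.comp_id]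
    · simp only [tr, Category.assoc, pullback.lift_snd, pullback.lift_snd_assoc, hρ]
  have e2 : prodZmap (𝟙 E.W₀) (t ≫ red G) ≫ tr = prodZmap (𝟙 E.W₀) (t ≫ red F) := by
    apply pullback.hom_ext
    · simp only [tr, Category.assoc, pullback.lift_fst, Category.comp_id]
    · simp only [tr, Category.assoc, pullback.lift_snd, pullback.lift_snd_assoc, hρ]
  exact mem_closure_range_of_comp e1 e2 w hw

/-- A decreasing family of closed subsets of a Noetherian space is eventually constant. -/
theorem exists_stable {W : Type u} [TopologicalSpace W] [NoetherianSpace W] {ι : Type u} [SemilatticeSup ι]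
    [Nonempty ι] (C : ι → Set W) (hC : ∀ i, IsClosed (C i)) (hanti : ∀ ⦃i j⦄, i ≤ j → C j ⊆ C i) :
    ∃ i₀, ∀ i j, i₀ ≤ i → i₀ ≤ j → C i ⊆ C j := by
  obtain ⟨_, ⟨i₀, rfl⟩, h⟩ := (wellFounded_lt (α := Closeds W)).has_min (Set.range fun i => ⟨C i, hC i⟩)
    (Set.range_nonempty _)
  refine ⟨i₀, fun i j hi hj => ?_⟩
  have e : (⟨C j, hC j⟩ : Closeds W) = ⟨C i₀, hC i₀⟩ :=
    (show (⟨C j, hC j⟩ : Closeds W) ≤ ⟨C i₀, hC i₀⟩ from hanti hj).eq_or_lt.resolve_right (h _ ⟨j, rfl⟩)
  exact (hanti hi).trans (show C i₀ ⊆ C j from (congrArg (fun c : Closeds W => (c : Set W)) e).ge)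

/-- The fibres of the models are eventually those of the scheme. -/
theorem eventually_fibre [IsProper f] {k : Type u} [Field k] (φ : A →+* k) :
    ∃ F₀ : Finset A, ∀ F, F₀ ⊆ F →
      (prodZmap (𝟙 E.W₀) (Spec.map (CommRingCat.ofHom φ) ≫ red F)) ⁻¹' (closure (Set.range (E.toW F))) ⊆
        (prodZmap (𝟙 E.W₀) (Spec.map (CommRingCat.ofHom φ))) ⁻¹' (Set.range E.incl) := by
  classical
  haveI := E.lft
  haveI := E.compact
  haveI : QuasiCompact (toZ E.W₀) := inferInstance
  haveI : LocallyOfFiniteType (pullback.snd (toZ E.W₀) (toZ (Spec (CommRingCat.of k)))) :=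
    MorphismProperty.pullback_snd _ _ inferInstance
  haveI : IsLocallyNoetherian (prodZ E.W₀ (Spec (CommRingCat.of k))) :=
    LocallyOfFiniteType.isLocallyNoetherian (pullback.snd _ _)
  haveI : CompactSpace (prodZ E.W₀ (Spec (CommRingCat.of k)) : Scheme.{u}) :=
    QuasiCompact.compactSpace_of_compactSpace (pullback.snd _ _)
  haveI : IsNoetherian (prodZ E.W₀ (Spec (CommRingCat.of k))) := { }
  let t : Spec (CommRingCat.of k) ⟶ Spec (CommRingCat.of A) := Spec.map (CommRingCat.ofHom φ)
  obtain ⟨F₀, hF₀⟩ := exists_stable (W := (prodZ E.W₀ (Spec (CommRingCat.of k)) : Scheme.{u}))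
    (fun F : Finset A => (prodZmap (𝟙 E.W₀) (t ≫ red F)) ⁻¹' (closure (Set.range (E.toW F))))
    (fun F => isClosed_closure.preimage (Scheme.Hom.continuous _))
    (fun F G hFG w hw => E.preimage_closure_anti t hFG w hw)
  refine ⟨F₀, fun F hF w hw => ?_⟩
  have hm := E.mem_range_incl_of_forall F₀
    ((prodZ E.W₀ (Spec (CommRingCat.of k)) : Scheme.{u}).fromSpecResidueField w ≫ prodZmap (𝟙 E.W₀) t) ?_
  · rw [Scheme.Hom.comp_apply] at hm
    erw [Scheme.fromSpecResidueField_apply] at hm
    exact hm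
  · intro G hG
    rw [Category.assoc, show prodZmap (𝟙 E.W₀) t ≫ prodZmap (𝟙 E.W₀) (red G) = prodZmap (𝟙 E.W₀) (t ≫ red G) by
        apply pullback.hom_ext
        · simp only [Category.assoc, pullback.lift_fst, Category.comp_id]
        · simp only [Category.assoc, pullback.lift_snd, pullback.lift_snd_assoc],
      Scheme.Hom.comp_apply]
    erw [Scheme.fromSpecResidueField_apply]
    exact hF₀ F G hF hG hw

end Emb

end Groth.Agent.Stein58
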