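import Groth.Agent.Stein58.ProperModel
import Mathlib.Order.Filter.Ultrafilter.Defs
import Mathlib.RingTheory.Valuation.ValuationSubring

/-!
A scheme proper over an affine base is, near any field-valued point, the base change of schemes proper over
finitely generated subrings.
-/

set_option autoImplicit false
set_option maxSynthPendingDepth 3

universe u

open CategoryTheory CategoryTheory.Limits AlgebraicGeometry TopologicalSpace Filter
open Groth.Agent.Approx60

noncomputable section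

namespace Groth.Agent.Stein58

section Product

variable {ι : Type u} (𝒰 : Ultrafilter ι) (K : ι → Type u) [∀ i, Field (K i)]

/-- Families vanishing almost everywhere. -/
def ultraIdeal : Ideal (∀ i, K i) where
  carrier := {x | ∀ᶠ i in (𝒰 : Filter ι), x i = 0}
  add_mem' {x y} hx hy := (hx.and hy).mono fun i h => by simp [h.1, h.2]
  zero_mem' := Eventually.of_forall fun _ => rfl
  smul_mem' c {x} hx := hx.mono fun i h => by simp [h]

lemma mem_ultraIdeal {x : ∀ i, K i} : x ∈ ultraIdeal 𝒰 K ↔ ∀ᶠ i in (𝒰 : Filter ι), x i = 0 := Iff.rfl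

instance ultraIdeal_isMaximal : (ultraIdeal 𝒰 K).IsMaximal := by
  classical
  refine Ideal.isMaximal_iff.2 ⟨fun h => ?_, fun J x hJ hx hxJ => ?_⟩
  · obtain ⟨i, hi⟩ := ((mem_ultraIdeal 𝒰 K).1 h).exists
    exact one_ne_zero (α := K i) hi
  · have h1 : (fun i => if x i = 0 then (1 : K i) else 0) ∈ ultraIdeal 𝒰 K :=
      (Ultrafilter.eventually_not.2 hx).mono fun i hi => if_neg hi
    have h2 := J.add_mem (J.mul_mem_left (fun i => (x i)⁻¹) hxJ) (hJ h1)
    convert h2 using 1
    funext i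
    by_cases hi : x i = 0 <;> simp [hi]

/-- The ultraproduct of fields. -/
abbrev UProd : Type u := (∀ i, K i) ⧸ ultraIdeal 𝒰 K

instance uProdField : Field (UProd 𝒰 K) := Ideal.Quotient.field _

variable {𝒰 K}

/-- The class of a family. -/
abbrev uMk : (∀ i, K i) →+* UProd 𝒰 K := Ideal.Quotient.mk _

lemma uMk_eq_iff {x y : ∀ i, K i} : uMk (𝒰 := 𝒰) x = uMk y ↔ ∀ᶠ i in (𝒰 : Filter ι), x i = y i := by
  rw [uMk, Ideal.Quotient.eq, mem_ultraIdeal]
  simp only [Pi.sub_apply, sub_eq_zero]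

/-- A family of homomorphisms, each defined eventually, gives one to the ultraproduct. -/
def uHom {R : Type u} [CommRing R] (φ : ∀ i, R → K i) (h1 : ∀ᶠ i in (𝒰 : Filter ι), φ i 1 = 1)
    (h0 : ∀ᶠ i in (𝒰 : Filter ι), φ i 0 = 0)
    (hadd : ∀ a b, ∀ᶠ i in (𝒰 : Filter ι), φ i (a + b) = φ i a + φ i b)
    (hmul : ∀ a b, ∀ᶠ i in (𝒰 : Filter ι), φ i (a * b) = φ i a * φ i b) : R →+* UProd 𝒰 K where
  toFun a := uMk fun i => φ i a
  map_one' := (uMk_eq_iff.2 h1).trans (map_one (uMk (𝒰 := 𝒰) (K := K)))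
  map_zero' := (uMk_eq_iff.2 h0).trans (map_zero (uMk (𝒰 := 𝒰) (K := K)))
  map_add' a b := (uMk_eq_iff.2 (hadd a b)).trans (map_add (uMk (𝒰 := 𝒰) (K := K)) _ _)
  map_mul' a b := (uMk_eq_iff.2 (hmul a b)).trans (map_mul (uMk (𝒰 := 𝒰) (K := K)) _ _)

/-- The ultraproduct of valuation subrings. -/
def uVal (V : ∀ i, ValuationSubring (K i)) : ValuationSubring (UProd 𝒰 K) where
  carrier := {x | ∃ y : ∀ i, K i, uMk y = x ∧ ∀ᶠ i in (𝒰 : Filter ι), y i ∈ V i}
  one_mem' := ⟨1, map_one _, Eventually.of_forall fun i => (V i).one_mem⟩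
  zero_mem' := ⟨0, map_zero _, Eventually.of_forall fun i => (V i).zero_mem⟩
  add_mem' := by
    rintro _ _ ⟨x, rfl, hx⟩ ⟨y, rfl, hy⟩
    exact ⟨x + y, map_add _ _ _, (hx.and hy).mono fun i h => (V i).add_mem _ _ h.1 h.2⟩
  mul_mem' := by
    rintro _ _ ⟨x, rfl, hx⟩ ⟨y, rfl, hy⟩
    exact ⟨x * y, map_mul _ _ _, (hx.and hy).mono fun i h => (V i).mul_mem _ _ h.1 h.2⟩
  neg_mem' := by
    rintro _ ⟨x, rfl, hx⟩
    exact ⟨-x, map_neg _ _, hx.mono fun i h => (V i).neg_mem _ h⟩
  mem_or_inv_mem' z := by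
    obtain ⟨x, rfl⟩ := Ideal.Quotient.mk_surjective z
    by_cases hz : uMk (𝒰 := 𝒰) x = 0
    · exact Or.inl ⟨0, (map_zero _).trans hz.symm, Eventually.of_forall fun i => (V i).zero_mem⟩
    rcases Ultrafilter.eventually_or.1
      (Eventually.of_forall (f := (𝒰 : Filter ι)) fun i => (V i).mem_or_inv_mem (x i)) with h | h
    · exact Or.inl ⟨x, rfl, h⟩
    · refine Or.inr ⟨fun i => (x i)⁻¹, ?_, h⟩
      refine eq_inv_of_mul_eq_one_left ?_
      rw [← map_mul, ← map_one (uMk (𝒰 := 𝒰) (K := K)), uMk_eq_iff]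
      have : ∀ᶠ i in (𝒰 : Filter ι), x i ≠ 0 :=
        Ultrafilter.eventually_not.2 fun h => hz (Ideal.Quotient.eq_zero_iff_mem.2 h)
      exact this.mono fun i hi => inv_mul_cancel₀ hi

end Product

/-- A valuation point of an ambient scheme whose generic point lies in a closed subscheme factors. -/
theorem exists_lift_closedImmersion {Y W : Scheme.{u}} (ι : Y ⟶ W) [IsClosedImmersion ι] {R K : Type u}
    [CommRing R] [IsDomain R] [Field K] (φ : R →+* K) (hφ : Function.Injective φ)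
    (l : Spec (CommRingCat.of R) ⟶ W) (i₁ : Spec (CommRingCat.of K) ⟶ Y)
    (h : Spec.map (CommRingCat.ofHom φ) ≫ l = i₁ ≫ ι) :
    ∃ m : Spec (CommRingCat.of R) ⟶ Y, m ≫ ι = l ∧ Spec.map (CommRingCat.ofHom φ) ≫ m = i₁ := by
  let g := pullback.snd ι l
  have hs : Surjective g := ⟨fun y => by
    have hcl : IsClosed (Set.range g) := g.isClosedMap.isClosed_range
    let r : Spec (CommRingCat.of K) ⟶ pullback ι l := pullback.lift i₁ (Spec.map (CommRingCat.ofHom φ)) h.symm
    have hgen : (Spec.map (CommRingCat.ofHom φ) (IsLocalRing.closedPoint K) : PrimeSpectrum R) ∈ Set.range g :=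
      ⟨r (IsLocalRing.closedPoint K), by rw [← Scheme.Hom.comp_apply, pullback.lift_snd]⟩
    refine hcl.closure_subset_iff.2 (Set.singleton_subset_iff.2 hgen) ?_
    refine specializes_iff_mem_closure.1 ((PrimeSpectrum.le_iff_specializes _ _).1 ?_)
    intro a ha
    have : φ a = 0 := by
      have h' : a ∈ Ideal.comap φ (IsLocalRing.maximalIdeal K) := ha
      rwa [IsLocalRing.maximalIdeal_eq_bot, ← RingHom.ker_eq_comap_bot] at h'
    rw [show a = 0 from hφ (this.trans (map_zero φ).symm)]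
    exact zero_mem _⟩
  have : IsClosedImmersion g := MorphismProperty.pullback_snd _ _ inferInstance
  have : IsIso g := isIso_of_isClosedImmersion_of_surjective g
  refine ⟨inv g ≫ pullback.fst ι l, ?_, ?_⟩
  · rw [Category.assoc, pullback.condition, IsIso.inv_hom_id_assoc]
  · rw [← cancel_mono ι, Category.assoc, Category.assoc, pullback.condition, IsIso.inv_hom_id_assoc, h]

variable {A : Type u} [CommRing A] {X : Scheme.{u}} {f : X ⟶ Spec (CommRingCat.of A)} (E : Emb f)

namespace Emb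

/-- The model over a finitely generated subring. -/
abbrev Y (F : Finset A) : Scheme.{u} := (E.toW F).image

/-- Its structure map. -/
abbrev str (F : Finset A) : E.Y F ⟶ Spec (CommRingCat.of (subR F)) :=
  (E.toW F).imageι ≫ pullback.snd _ _

/-- The map to the model. -/
abbrev toY (F : Finset A) : X ⟶ E.Y F := (E.toW F).toImage

lemma toY_str (F : Finset A) : E.toY F ≫ E.str F = f ≫ red F := by
  rw [Scheme.Hom.toImage_imageι_assoc, pullback.lift_snd]

instance quasiCompact_toW [IsProper f] (F : Finset A) : QuasiCompact (E.toW F) := by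
  haveI := E.sep
  haveI : QuasiSeparated (pullback.snd (toZ E.W₀) (toZ (Spec (CommRingCat.of (subR F))))) := inferInstance
  haveI : QuasiCompact (E.toW F ≫ pullback.snd _ _) := by rw [pullback.lift_snd]; infer_instance
  exact MorphismProperty.of_postcomp (W := @QuasiCompact) (W' := @QuasiSeparated) _ (pullback.snd _ _)
    inferInstance inferInstance

lemma range_imageι [IsProper f] (F : Finset A) : Set.range (E.toW F).imageι = closure (Set.range (E.toW F)) := by
  rw [← Scheme.Hom.support_ker]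
  exact Scheme.IdealSheafData.range_subschemeι _

lemma image_apply_mem [IsProper f] (F : Finset A) {T : Scheme.{u}} (z : T ⟶ E.Y F) (t : T) :
    (z ≫ (E.toW F).imageι) t ∈ closure (Set.range (E.toW F)) :=
  (E.range_imageι F).le ⟨z t, rfl⟩

/-- Coordinate rings of affine opens of `W₀` are finitely generated. -/
theorem exists_generators {U : E.W₀.Opens} (hU : IsAffineOpen U) :
    ∃ G : Finset Γ(E.W₀, U), Subring.closure (G : Set Γ(E.W₀, U)) = ⊤ := by
  classical
  haveI := E.lft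
  have h : ((toZ E.W₀).appLE ⊤ U le_top).hom.FiniteType :=
    HasRingHomProperty.appLE @LocallyOfFiniteType (toZ E.W₀) inferInstance ⟨⊤, isAffineOpen_top _⟩ ⟨U, hU⟩ le_top
  letI := ((toZ E.W₀).appLE ⊤ U le_top).hom.toAlgebra
  obtain ⟨G, hG⟩ := (h : Algebra.FiniteType _ Γ(E.W₀, U)).out
  refine ⟨G, top_le_iff.1 fun x _ => ?_⟩
  have hx : x ∈ Algebra.adjoin _ (G : Set Γ(E.W₀, U)) := hG.ge trivial
  have hx' : x ∈ Subring.closure (Set.range (algebraMap Γ(Spec (CommRingCat.of (ULift.{u} ℤ)), ⊤) Γ(E.W₀, U)) ∪ G) := by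
    rwa [← Subalgebra.mem_toSubring, Algebra.adjoin_eq_ring_closure] at hx
  refine Subring.closure_le.2 (Set.union_subset ?_ Subring.subset_closure) hx'
  rintro _ ⟨n, rfl⟩
  have e : (algebraMap Γ(Spec (CommRingCat.of (ULift.{u} ℤ)), ⊤) Γ(E.W₀, U)).comp
      ((Scheme.ΓSpecIso (CommRingCat.of (ULift.{u} ℤ))).inv.hom.comp (ULift.ringEquiv.symm : ℤ ≃+* ULift.{u} ℤ).toRingHom) =
      Int.castRingHom _ := RingHom.ext_int _ _
  obtain ⟨m, rfl⟩ : ∃ m : ℤ, ((Scheme.ΓSpecIso (CommRingCat.of (ULift.{u} ℤ))).inv.hom.comp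
      (ULift.ringEquiv.symm : ℤ ≃+* ULift.{u} ℤ).toRingHom) m = n := by
    refine ⟨((Scheme.ΓSpecIso (CommRingCat.of (ULift.{u} ℤ))).hom n).down, ?_⟩
    exact (Scheme.ΓSpecIso (CommRingCat.of (ULift.{u} ℤ))).hom_inv_id_apply n
  rw [← RingHom.comp_apply, e]
  exact intCast_mem _ _

theorem eventually_valuativeExistence [IsProper f] :
    ∃ F₀ : Finset A, ∀ F, F₀ ⊆ F → ValuativeCriterion.Existence (E.str F) := by
  classical
  by_contra hne
  push_neg at hne
  have hne' : ∀ G : Finset A, ∃ F, G ⊆ F ∧ ∃ Sq : ValuativeCommSq (E.str F), ¬ Sq.commSq.HasLift := fun G => by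
    obtain ⟨F, hF, hbad⟩ := hne G
    exact ⟨F, hF, not_forall.1 hbad⟩
  choose φ hφ Sq hSq using hne'
  let K : Finset A → Type u := fun G => (Sq G).K
  letI : ∀ G, Field (K G) := fun G => (Sq G).field
  let V : ∀ G, ValuationSubring (K G) := fun G =>
    { toSubring := (algebraMap (Sq G).R (Sq G).K).range
      mem_or_inv_mem' := fun x =>
        ((ValuationRing.iff_isInteger_or_isInteger (Sq G).R (Sq G).K).1 (Sq G).valuationRing x).imp id id }
  let z : ∀ G, Spec (CommRingCat.of (K G)) ⟶ E.W₀ := fun G =>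
    (Sq G).i₁ ≫ (E.toW (φ G)).imageι ≫ pullback.fst _ _
  let α : ∀ G, subR (φ G) →+* (Sq G).R := fun G => (Spec.preimage (Sq G).i₂).hom
  let αK : ∀ G, subR (φ G) →+* K G := fun G => (algebraMap (Sq G).R (Sq G).K).comp (α G)
  have hαK : ∀ G, ((Sq G).i₁ ≫ (E.toW (φ G)).imageι) ≫ pullback.snd _ _ =
      Spec.map (CommRingCat.ofHom (αK G)) := fun G => by
    rw [Category.assoc]
    refine (Sq G).commSq.w.trans ?_
    rw [← Spec.map_preimage (Sq G).i₂, ← Spec.map_comp]
    rfl
  let 𝒰 : Ultrafilter (Finset A) := Ultrafilter.of atTop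
  have hev : ∀ G₀ : Finset A, ∀ᶠ G in (𝒰 : Filter (Finset A)), G₀ ⊆ φ G := fun G₀ =>
    ((eventually_ge_atTop G₀).filter_mono (Ultrafilter.of_le _)).mono fun G hG => Finset.Subset.trans hG (hφ G)
  have hevR : ∀ a : A, ∀ᶠ G in (𝒰 : Filter (Finset A)), a ∈ subR (φ G) := fun a =>
    (hev {a}).mono fun G hG => Subring.subset_closure (hG (Finset.mem_singleton_self a))
  -- a chart
  haveI := E.compact
  obtain ⟨T, hTsub, hTfin, hT⟩ := (isCompact_univ (X := E.W₀)).elim_finite_subcover_image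
    (b := {U : E.W₀.Opens | IsAffineOpen U}) (c := fun U => (U : Set E.W₀)) (fun U _ => U.2) (fun x _ => by
      obtain ⟨_, ⟨U, hU, rfl⟩, hxU, -⟩ :=
        E.W₀.isBasis_affineOpens.exists_subset_of_mem_open (Set.mem_univ x) isOpen_univ
      exact Set.mem_iUnion₂.2 ⟨U, hU, hxU⟩)
  obtain ⟨U, hUmem, hUev⟩ : ∃ U ∈ T, ∀ᶠ G in (𝒰 : Filter (Finset A)), z G (IsLocalRing.closedPoint (K G)) ∈ U := by
    have := (Ultrafilter.finite_biUnion_mem_iff hTfin (f := 𝒰)
      (s := fun U : E.W₀.Opens => {G | z G (IsLocalRing.closedPoint (K G)) ∈ U})).1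
      (Filter.mem_of_superset Filter.univ_mem fun G _ => by
        obtain ⟨U, hU, hzU⟩ := Set.mem_iUnion₂.1 (hT (Set.mem_univ (z G (IsLocalRing.closedPoint (K G)))))
        exact Set.mem_iUnion₂.2 ⟨U, hU, hzU⟩)
    exact this
  have hU : IsAffineOpen U := hTsub hUmem
  -- coordinates and scalars in the ultraproduct
  let Φ : Type u := UProd 𝒰 K
  let pG : ∀ G, Γ(E.W₀, U) → K G := fun G b =>
    if h : z G ⁻¹ᵁ U = ⊤ then coord (z G) h b else 0
  have hzU : ∀ᶠ G in (𝒰 : Filter (Finset A)), z G ⁻¹ᵁ U = ⊤ := hUev.mono fun G hG => (preimage_eq_top_iff _).2 hG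
  let pU : Γ(E.W₀, U) →+* Φ := uHom pG (hzU.mono fun G h => by simp [pG, dif_pos h])
    (hzU.mono fun G h => by simp [pG, dif_pos h]) (fun a b => hzU.mono fun G h => by simp [pG, dif_pos h])
    (fun a b => hzU.mono fun G h => by simp [pG, dif_pos h])
  let αU : A →+* Φ := uHom (fun G => ext0 (αK G))
    (Eventually.of_forall fun G => (ext0_apply _ (Subring.one_mem _)).trans (map_one (αK G)))
    (Eventually.of_forall fun G => (ext0_apply _ (Subring.zero_mem _)).trans (map_zero (αK G)))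
    (fun a b => ((hevR a).and (hevR b)).mono fun G h => by
      rw [ext0_apply _ h.1, ext0_apply _ h.2, ext0_apply _ (Subring.add_mem _ h.1 h.2), ← map_add]
      rfl)
    (fun a b => ((hevR a).and (hevR b)).mono fun G h => by
      rw [ext0_apply _ h.1, ext0_apply _ h.2, ext0_apply _ (Subring.mul_mem _ h.1 h.2), ← map_mul]
      rfl)
  have hv : E.Vanishes U pU αU := fun P hP => by
    have hfac : (fun i => Sum.elim pU αU i) = fun i => uMk (𝒰 := 𝒰) (fun G => Sum.elim (pG G) (ext0 (αK G)) i) := by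
      funext i; cases i <;> rfl
    have hpi : (fun G => evalP (Sum.elim (pG G) (ext0 (αK G))) P) =
        evalP (fun i G => Sum.elim (pG G) (ext0 (αK G)) i) P :=
      funext fun G => (evalP_map (Pi.evalRingHom K G) (fun i G => Sum.elim (pG G) (ext0 (αK G)) i) P).symm
    change evalP (fun i => Sum.elim pU αU i) P = 0
    rw [hfac, ← evalP_map (uMk (𝒰 := 𝒰) (K := K)) (fun i G => Sum.elim (pG G) (ext0 (αK G)) i) P,
      Ideal.Quotient.eq_zero_iff_mem, mem_ultraIdeal, ← hpi]
    refine ((hev (scalars P)).and hzU).mono fun G hG => ?_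
    have h0 := E.evalP_eq_zero_of_mem_closure U hP hG.1 ((Sq G).i₁ ≫ (E.toW (φ G)).imageι)
      (E.image_apply_mem (φ G) (Sq G).i₁ _) (by rw [Category.assoc]; exact hG.2) (αK G) (hαK G)
    refine Eq.trans ?_ h0
    refine congrArg (fun g : Γ(E.W₀, U) → K G => evalP (Sum.elim g (ext0 (αK G))) P) (funext fun b => ?_)
    simp only [pG, dif_pos hG.2, z, Category.assoc]
  obtain ⟨x, hxa, hxf⟩ := E.exists_point hU pU αU hv
  -- extend over the valuation ring
  let O : ValuationSubring Φ := uVal V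
  have hαO : ∀ a, αU a ∈ O := fun a => ⟨_, rfl, (hevR a).mono fun G h => by
    show ext0 (αK G) a ∈ V G
    rw [ext0_apply _ h]
    exact ⟨α G ⟨a, h⟩, rfl⟩⟩
  have hsq : CommSq x (Spec.map (CommRingCat.ofHom (algebraMap O Φ))) f
      (Spec.map (CommRingCat.ofHom (αU.codRestrict O.toSubring hαO))) := ⟨by
    rw [hxf, ← Spec.map_comp]
    rfl⟩
  obtain ⟨l, hl1, hl2⟩ : ∃ l : Spec (CommRingCat.of O) ⟶ X,
      Spec.map (CommRingCat.ofHom (algebraMap O Φ)) ≫ l = x ∧
        l ≫ f = Spec.map (CommRingCat.ofHom (αU.codRestrict O.toSubring hαO)) := by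
    have hex : ValuativeCriterion.Existence f := by
      have : UniversallyClosed f := inferInstance
      rw [UniversallyClosed.eq_valuativeCriterion] at this
      exact this.1
    obtain ⟨⟨l⟩⟩ := hex { R := O, K := Φ, i₁ := x, i₂ := _, commSq := hsq }
    exact ⟨l.l, l.fac_left, l.fac_right⟩
  -- a chart of the extension
  obtain ⟨U', hU'mem, hU'⟩ := Set.mem_iUnion₂.1 (hT (Set.mem_univ ((l ≫ E.a) (IsLocalRing.closedPoint O))))
  have hU'a : IsAffineOpen U' := hTsub hU'mem
  have hl' : (l ≫ E.a) ⁻¹ᵁ U' = ⊤ := preimage_eq_top_of_mem _ hU'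
  let q : Γ(E.W₀, U') →+* O := coord (l ≫ E.a) hl'
  have hxU : (x ≫ E.a) ⁻¹ᵁ U = ⊤ := by
    rw [hxa, Scheme.Hom.comp_preimage, hU.fromSpec_preimage_self]
    rfl
  have hxU' : (x ≫ E.a) ⁻¹ᵁ U' = ⊤ := by
    rw [← hl1, Category.assoc, Scheme.Hom.comp_preimage, hl']
    rfl
  have hpU : ∀ b, coord (x ≫ E.a) hxU b = pU b := by
    intro b
    have e : Spec.map (CommRingCat.ofHom (coord (x ≫ E.a) hxU)) = Spec.map (CommRingCat.ofHom pU) := by
      rw [← cancel_mono hU.fromSpec, SpecMap_coord (x ≫ E.a) hU hxU, hxa]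
    exact congrArg (fun φ : CommRingCat.of Γ(E.W₀, U) ⟶ CommRingCat.of Φ => φ b) (Spec.map_injective e)
  have hqK : ∀ b, coord (x ≫ E.a) hxU' b = algebraMap O Φ (q b) := by
    intro b
    have e : Spec.map (CommRingCat.ofHom (coord (x ≫ E.a) hxU')) =
        Spec.map (CommRingCat.ofHom ((algebraMap O Φ).comp q)) := by
      rw [← cancel_mono hU'a.fromSpec, SpecMap_coord (x ≫ E.a) hU'a hxU']
      have h2 := SpecMap_coord (l ≫ E.a) hU'a hl'
      rw [← hl1, Category.assoc, ← h2, ← Spec.map_comp_assoc]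
      rfl
    exact congrArg (fun φ : CommRingCat.of Γ(E.W₀, U') ⟶ CommRingCat.of Φ => φ b) (Spec.map_injective e)
  -- the overlap of the two charts
  have hpt : (x ≫ E.a) (IsLocalRing.closedPoint Φ) ∈ U := (preimage_eq_top_iff _).1 hxU
  have hpt' : (x ≫ E.a) (IsLocalRing.closedPoint Φ) ∈ U' := (preimage_eq_top_iff _).1 hxU'
  obtain ⟨d, hdle, hd⟩ := hU.exists_basicOpen_le (V := U') ⟨_, hpt'⟩ hpt
  have hd0 : pU d ≠ 0 := by
    rw [← hpU d]
    exact (coord_ne_zero_iff _ hxU d).2 hd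
  have hzd : ∀ᶠ G in (𝒰 : Filter (Finset A)), z G ⁻¹ᵁ E.W₀.basicOpen d = ⊤ := by
    have h1 : ∀ᶠ G in (𝒰 : Filter (Finset A)), pG G d ≠ 0 :=
      Ultrafilter.eventually_not.2 fun h => hd0 (Ideal.Quotient.eq_zero_iff_mem.2 h)
    refine (h1.and hzU).mono fun G hG => (preimage_eq_top_iff _).2 ?_
    have h2 := hG.1
    simp only [pG, dif_pos hG.2] at h2
    exact (coord_ne_zero_iff _ hG.2 d).1 h2
  have hxd : (x ≫ E.a) ⁻¹ᵁ E.W₀.basicOpen d = ⊤ := (preimage_eq_top_iff _).2 hd
  let pG' : ∀ G, Γ(E.W₀, U') → K G := fun G b =>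
    if h : z G ⁻¹ᵁ U' = ⊤ then coord (z G) h b else 0
  have hpG' : ∀ b, uMk (𝒰 := 𝒰) (fun G => pG' G b) = algebraMap O Φ (q b) := by
    intro b
    letI := (E.W₀.presheaf.map (homOfLE (E.W₀.basicOpen_le d)).op).hom.toAlgebra
    haveI := hU.isLocalization_of_eq_basicOpen d (homOfLE (E.W₀.basicOpen_le d)) rfl
    obtain ⟨n, c, hc⟩ := IsLocalization.Away.surj d (S := Γ(E.W₀, E.W₀.basicOpen d))
      (E.W₀.presheaf.map (homOfLE hdle).op b)
    let alg : Γ(E.W₀, U) →+* Γ(E.W₀, E.W₀.basicOpen d) := (E.W₀.presheaf.map (homOfLE (E.W₀.basicOpen_le d)).op).hom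
    have hc' : E.W₀.presheaf.map (homOfLE hdle).op b * alg d ^ n = alg c := hc
    have hx' : algebraMap O Φ (q b) * pU d ^ n = pU c := by
      have h3 := congrArg (coord (x ≫ E.a) hxd) hc'
      rw [map_mul, map_pow] at h3
      rw [show coord (x ≫ E.a) hxd (alg d) = pU d from (coord_res _ _ hxd d).trans (hpU d),
        show coord (x ≫ E.a) hxd (alg c) = pU c from (coord_res _ _ hxd c).trans (hpU c),
        show coord (x ≫ E.a) hxd (E.W₀.presheaf.map (homOfLE hdle).op b) = algebraMap O Φ (q b) from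
          (coord_res _ _ hxd b).trans (hqK b)] at h3
      exact h3
    refine mul_right_cancel₀ (pow_ne_zero n hd0) (Eq.trans ?_ hx'.symm)
    show uMk _ * (uMk (fun G => pG G d)) ^ n = uMk (fun G => pG G c)
    rw [← map_pow, ← map_mul, uMk_eq_iff]
    refine (hzd.and hzU).mono fun G hG => ?_
    have hz' : z G ⁻¹ᵁ U' = ⊤ := top_le_iff.1 (hG.1.ge.trans ((z G).preimage_mono hdle))
    simp only [Pi.mul_apply, Pi.pow_apply, pG, pG', dif_pos hG.2, dif_pos hz']
    have h3 := congrArg (coord (z G) hG.1) hc'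
    rw [map_mul, map_pow] at h3
    rw [show coord (z G) hG.1 (alg d) = coord (z G) hG.2 d from coord_res _ _ hG.1 d,
      show coord (z G) hG.1 (alg c) = coord (z G) hG.2 c from coord_res _ _ hG.1 c,
      show coord (z G) hG.1 (E.W₀.presheaf.map (homOfLE hdle).op b) = coord (z G) hz' b from coord_res _ _ hG.1 b] at h3
    exact h3
  obtain ⟨gens, hgens⟩ := E.exists_generators hU'a
  have hgen : ∀ᶠ G in (𝒰 : Filter (Finset A)), ∀ b ∈ gens, pG' G b ∈ V G := by
    rw [Filter.eventually_all_finset]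
    intro b _
    obtain ⟨y, hy, hy'⟩ := (q b).2
    have e := uMk_eq_iff.1 ((hpG' b).trans hy.symm)
    exact (e.and hy').mono fun G h => h.1 ▸ h.2
  obtain ⟨G, ⟨hGd, hGgen⟩, -⟩ := ((hzd.and hgen).and hzU).exists
  apply hSq G
  have hz' : z G ⁻¹ᵁ U' = ⊤ := top_le_iff.1 (hGd.ge.trans ((z G).preimage_mono hdle))
  let c : Γ(E.W₀, U') →+* K G := coord (z G) hz'
  have hcmem : ∀ b, c b ∈ (algebraMap (Sq G).R (Sq G).K).range := by
    intro b
    have hb : b ∈ Subring.closure (gens : Set Γ(E.W₀, U')) := hgens.ge trivial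
    refine (Subring.closure_le (t := (algebraMap (Sq G).R (Sq G).K).range.comap c)).2 (fun g hg => ?_) hb
    have h4 := hGgen g hg
    simp only [pG', dif_pos hz'] at h4
    exact h4
  choose cR hcR using hcmem
  have hinj : Function.Injective (algebraMap (Sq G).R (Sq G).K) := IsFractionRing.injective _ _
  let cRh : Γ(E.W₀, U') →+* (Sq G).R :=
    { toFun := cR
      map_one' := hinj (by rw [hcR, map_one, map_one])
      map_zero' := hinj (by rw [hcR, map_zero, map_zero])
      map_add' := fun a b => hinj (by simp only [map_add, hcR])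
      map_mul' := fun a b => hinj (by simp only [map_mul, hcR]) }
  let lW : Spec (CommRingCat.of (Sq G).R) ⟶ E.W (φ G) :=
    pullback.lift (Spec.map (CommRingCat.ofHom cRh) ≫ hU'a.fromSpec) (Sq G).i₂ (specULiftZIsTerminal.hom_ext _ _)
  have hgen2 : Spec.map (CommRingCat.ofHom (algebraMap (Sq G).R (Sq G).K)) ≫ lW =
      (Sq G).i₁ ≫ (E.toW (φ G)).imageι := by
    apply pullback.hom_ext
    · rw [Category.assoc, pullback.lift_fst, Category.assoc]
      refine Eq.trans ?_ (SpecMap_coord (z G) hU'a hz')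
      rw [← Spec.map_comp_assoc]
      congr 2
      ext b
      exact hcR b
    · rw [Category.assoc, pullback.lift_snd, Category.assoc]
      exact (Sq G).commSq.w.symm
  obtain ⟨m, hm1, hm2⟩ := exists_lift_closedImmersion (E.toW (φ G)).imageι (algebraMap (Sq G).R (Sq G).K) hinj lW
    (Sq G).i₁ hgen2
  refine ⟨⟨⟨m, hm2, ?_⟩⟩⟩
  show m ≫ (E.toW (φ G)).imageι ≫ pullback.snd _ _ = (Sq G).i₂
  rw [← Category.assoc, hm1, pullback.lift_snd]

end Emb

end Groth.Agent.Stein58
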